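import Cfsg.Agent.Lib.Perm.Wagner.OddDegree
import Cfsg.Agent.Lib.Core.MinNormal

/-!
Owner: helper12. S3255 (Wagner): even degree; a point stabiliser with an abelian minimal normal subgroup.

* `Aff M a V p f`: `V` is normalised by the stabiliser of `a`, elementary of order `p ^ f = n - 1`, regular on
  the other points.
* `Aff.conj`: the translations at another point.
* `Aff.conj_smul`, `Aff.eq_one_of_commute`: the two-point stabiliser acts faithfully on `V`.
* `exists_aff_of_commutative`: an abelian minimal normal subgroup of a point stabiliser gives translations.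
* `aff_or_transitive`: either a point stabiliser has translations, or (`SocleStep`) there is one colour.
-/

set_option autoImplicit false
set_option linter.unusedSectionVars false

namespace CfsgLib.Wagner

open Subgroup MulAction

universe u

variable {G : Type u} [Group G] [Finite G] {Ω : Type u} [Fintype Ω] [MulAction G Ω] [FaithfulSMul G Ω]

/-- The translations at the point `a`. -/
structure Aff (M : Subgroup G) (a : Ω) (V : Subgroup G) (p f : ℕ) : Prop where
  prime : p.Prime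
  ne_two : p ≠ 2
  mod_three : p % 3 = 2
  f_odd : Odd f
  card : Nat.card V = p ^ f
  degree : p ^ f + 1 = Fintype.card Ω
  le : V ≤ M
  fixes : V ≤ stabilizer G a
  comm : ∀ v ∈ V, ∀ w ∈ V, v * w = w * v
  exp : ∀ v ∈ V, v ^ p = 1
  norm : ∀ g : G, g • a = a → ∀ v ∈ V, g * v * g⁻¹ ∈ V
  trans : ∀ {c d : Ω}, a ≠ c → a ≠ d → ∃ v ∈ V, v • c = d
  free : ∀ {c : Ω}, a ≠ c → ∀ v ∈ V, v • c = c → v = 1

namespace Aff

variable {M : Subgroup G} {a : Ω} {V : Subgroup G} {p f : ℕ} (A : Aff M a V p f)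
include A

theorem conj [M.Normal] (g : G) : Aff M (g • a) (V.map (MulAut.conj g).toMonoidHom) p f where
  prime := A.prime
  ne_two := A.ne_two
  mod_three := A.mod_three
  f_odd := A.f_odd
  card := by rw [card_map_of_injective (MulAut.conj g).injective, A.card]
  degree := A.degree
  le := by
    rintro _ ⟨v, hv, rfl⟩
    exact Subgroup.Normal.conj_mem inferInstance v (A.le hv) g
  fixes := by
    rintro _ ⟨v, hv, rfl⟩
    show (g * v * g⁻¹) • g • a = g • a
    rw [mul_smul, mul_smul, inv_smul_smul, show v • a = a from A.fixes hv]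
  comm := by
    rintro _ ⟨v, hv, rfl⟩ _ ⟨w, hw, rfl⟩
    rw [← map_mul, A.comm v hv w hw, map_mul]
  exp := by
    rintro _ ⟨v, hv, rfl⟩
    rw [← map_pow, A.exp v hv, map_one]
  norm := by
    rintro h hh _ ⟨v, hv, rfl⟩
    refine ⟨g⁻¹ * h * g * v * (g⁻¹ * h * g)⁻¹, A.norm _ ?_ v hv, ?_⟩
    · rw [mul_smul, mul_smul, hh, inv_smul_smul]
    · simp [mul_assoc]
  trans := by
    intro c d hc hd
    obtain ⟨v, hv, he⟩ := A.trans (c := g⁻¹ • c) (d := g⁻¹ • d)
      (fun e => hc (by rw [e, smul_inv_smul])) (fun e => hd (by rw [e, smul_inv_smul]))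
    exact ⟨g * v * g⁻¹, ⟨v, hv, rfl⟩, by rw [mul_smul, mul_smul, he, smul_inv_smul]⟩
  free := by
    rintro c hc _ ⟨v, hv, rfl⟩ he
    have h1 : v • g⁻¹ • c = g⁻¹ • c := by
      have h2 : (g * v * g⁻¹) • c = c := he
      rw [mul_smul, mul_smul, smul_eq_iff_eq_inv_smul] at h2
      exact h2
    rw [A.free (fun e => hc (by rw [e, smul_inv_smul])) v hv h1, map_one]

theorem p_ne_three : p ≠ 3 := fun h => by have := A.mod_three; omega

theorem f_pos : 0 < f := A.f_odd.pos

theorem one_lt : 1 < p ^ f := Nat.one_lt_pow A.f_pos.ne' A.prime.one_lt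

theorem isPGroup : IsPGroup p V := IsPGroup.of_card A.card

variable {b : Ω} (hab : a ≠ b)
include hab

theorem conj_smul {g : G} (ha : g • a = a) (hb : g • b = b) {v : G} (hv : v ∈ V) :
    (g * v * g⁻¹) • b = g • v • b := by
  rw [mul_smul, mul_smul, inv_smul_eq_iff.2 hb.symm]

theorem eq_of_smul_eq {v w : G} (hv : v ∈ V) (hw : w ∈ V) (h : v • b = w • b) : v = w := by
  have h1 := A.free hab _ (mul_mem (inv_mem hw) hv) (by rw [mul_smul, h, inv_smul_smul])
  exact (inv_mul_eq_one.1 h1).symm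

theorem eq_one_of_commute {g : G} (ha : g • a = a) (hb : g • b = b)
    (hc : ∀ v ∈ V, g * v = v * g) : g = 1 := by
  refine FaithfulSMul.eq_of_smul_eq_smul (α := Ω) fun x => ?_
  rw [one_smul]
  rcases eq_or_ne a x with rfl | hx
  · exact ha
  obtain ⟨v, hv, rfl⟩ := A.trans hab hx
  rw [← mul_smul, hc v hv, mul_smul, hb]

end Aff

/-- An abelian minimal normal subgroup of a point stabiliser, inside `M`, consists of translations. -/
theorem exists_aff_of_commutative {M : Subgroup G} (hC : Ctx Ω M) (heven : Even (Fintype.card Ω)) {a b : Ω}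
    (hb : b ≠ a) (Y : Subgroup (stabilizer G a)) [hYn : Y.Normal] (hYM : Y ≤ M.subgroupOf (stabilizer G a))
    (hY1 : Y ≠ ⊥) (hab : IsMulCommutative Y)
    (hmin : ∀ Z : Subgroup (stabilizer G a), Z.Normal → Z ≤ Y → Z = ⊥ ∨ Z = Y) :
    ∃ V p f, Aff M a V p f := by
  classical
  obtain ⟨p, hp, hpow⟩ := CfsgLib.Core.exists_prime_pow_eq_one_of_minimal_normal Y hab hY1 hmin
  haveI := Fact.mk hp
  set V := Y.map (stabilizer G a).subtype with hV
  have hVa : V ≤ stabilizer G a := map_subtype_le _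
  have hVM : V ≤ M := by
    rintro _ ⟨y, hy, rfl⟩
    exact mem_subgroupOf.1 (hYM hy)
  have hV1 : V ≠ ⊥ := fun h => hY1 ((map_eq_bot_iff_of_injective Y (stabilizer G a).subtype_injective).1 h)
  have hcomm : ∀ v ∈ V, ∀ w ∈ V, v * w = w * v := by
    rintro _ ⟨v, hv, rfl⟩ _ ⟨w, hw, rfl⟩
    exact congrArg (fun t : Y => ((t : stabilizer G a) : G)) (hab.is_comm.comm ⟨v, hv⟩ ⟨w, hw⟩)
  have hexp : ∀ v ∈ V, v ^ p = 1 := by
    rintro _ ⟨v, hv, rfl⟩
    exact congrArg Subtype.val (hpow v hv)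
  have hnorm : ∀ g : G, g • a = a → ∀ v ∈ V, g * v * g⁻¹ ∈ V := by
    rintro g hg _ ⟨v, hv, rfl⟩
    exact ⟨⟨g, hg⟩ * v * ⟨g, hg⟩⁻¹, hYn.conj_mem v hv _, rfl⟩
  have htr : ∀ {c d : Ω}, a ≠ c → a ≠ d → ∃ v ∈ V, v • c = d :=
    fun hc hd => transitive_of_normalised hC.trans3 hV1 hVa hnorm hc hd
  have hfr : ∀ {c : Ω}, a ≠ c → ∀ v ∈ V, v • c = c → v = 1 := by
    intro c hc v hv he
    refine FaithfulSMul.eq_of_smul_eq_smul (α := Ω) fun x => ?_
    rw [one_smul]
    rcases eq_or_ne a x with rfl | hx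
    · exact hVa hv
    obtain ⟨w, hw, rfl⟩ := htr hc hx
    rw [← mul_smul, hcomm v hv w hw, mul_smul, he]
  have hp' : IsPGroup p V := fun v => ⟨1, Subtype.ext (by rw [pow_one]; exact hexp v v.2)⟩
  obtain ⟨f, hf⟩ := IsPGroup.iff_card.1 hp'
  have hdeg : p ^ f + 1 = Fintype.card Ω := by
    have hstab : stabilizer V b = ⊥ := (Subgroup.eq_bot_iff_forall _).2 fun v hv =>
      Subtype.ext (hfr hb.symm _ v.2 hv)
    have horb : orbit V b = ({a} : Set Ω)ᶜ := by
      ext x
      constructor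
      · rintro ⟨v, rfl⟩ e
        exact hb (MulAction.injective (v : G) ((Set.mem_singleton_iff.1 e).trans (hVa v.2).symm))
      · intro hx
        obtain ⟨v, hv, he⟩ := htr hb.symm (Ne.symm (show x ≠ a from hx))
        exact ⟨⟨v, hv⟩, he⟩
    have h := Nat.card_congr (MulAction.orbitProdStabilizerEquivGroup V b)
    rw [Nat.card_prod, hstab, card_bot, mul_one, horb, Nat.card_coe_set_eq, Set.ncard_compl,
      Set.ncard_singleton, Nat.card_eq_fintype_card, hf] at h
    have := hC.three_lt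
    omega
  have hodd : Odd (p ^ f) := by
    obtain ⟨j, hj⟩ := heven
    exact ⟨j - 1, by omega⟩
  have hf0 : f ≠ 0 := fun h => by
    rw [h, pow_zero] at hdeg
    have := hC.three_lt
    omega
  have hp2 : p ≠ 2 := fun h => by
    rw [h] at hodd
    exact Nat.not_even_iff_odd.2 hodd ((Nat.even_pow' hf0).2 even_two)
  have hmod : p ^ f % 3 = 2 := by have := hC.three_dvd; omega
  rw [Nat.pow_mod] at hmod
  have hp3 : p % 3 = 2 := by
    have : p % 3 = 0 ∨ p % 3 = 1 ∨ p % 3 = 2 := by omega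
    rcases this with h | h | h
    · rw [h, zero_pow hf0] at hmod; simp at hmod
    · rw [h, one_pow] at hmod; simp at hmod
    · exact h
  have hfodd : Odd f := by
    rw [← Nat.not_even_iff_odd]
    rintro ⟨j, rfl⟩
    rw [hp3, ← two_mul, pow_mul, Nat.pow_mod] at hmod
    simp at hmod
  exact ⟨V, p, f, hp, hp2, hp3, hfodd, hf, hdeg, hVM, hVa, hcomm, hexp, hnorm, htr, hfr⟩


/-- Either translations at a point, or one colour. -/
theorem aff_or_transitive (hsoc : SocleStep.{u}) {M : Subgroup G} (hC : Ctx Ω M)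
    (heven : Even (Fintype.card Ω))
    (hfree : ∀ a : Ω, ¬ 3 ∣ Nat.card (M ⊓ stabilizer G a : Subgroup G)) (a : Ω) :
    TwoCol Ω M ∨ ∃ V p f, Aff M a V p f := by
  classical
  haveI := hC.normal
  haveI h2 := hC.trans2
  haveI h3 := hC.trans3
  have hn1 : 1 < Fintype.card Ω := by have := hC.three_lt; omega
  haveI := Fintype.one_lt_card_iff_nontrivial.1 hn1
  obtain ⟨b, hb⟩ := exists_ne a
  set A : Subgroup G := stabilizer G a with hA
  set Ma : Subgroup A := M.subgroupOf A with hMa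
  haveI hMan : Ma.Normal := inferInstance
  have hMa1 : Ma ≠ ⊥ := by
    obtain ⟨d, hda, hdb⟩ : ∃ d : Ω, a ≠ d ∧ b ≠ d := by
      by_contra hne
      push Not at hne
      have : (Finset.univ : Finset Ω) ⊆ {a, b} := fun x _ => by
        rcases eq_or_ne a x with h | h
        · simp [h]
        · simp [(hne x h)]
      have h3' := Finset.card_le_card this
      have := hC.three_lt
      have := Finset.card_le_two (a := a) (b := b)
      simp only [Finset.card_univ] at h3'
      omega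
    obtain ⟨m, hm, h1, h2'⟩ := exists_map2 (M := M) h2 hb.symm hda
    intro h
    have h4 : (⟨m, h1⟩ : A) ∈ Ma := mem_subgroupOf.2 hm
    rw [h, mem_bot] at h4
    have h5 : m = 1 := congrArg Subtype.val h4
    rw [h5, one_smul] at h2'
    exact hdb h2'
  obtain ⟨Y, ⟨hYn, hY1, hYM⟩, hYmin⟩ := (Set.toFinite {Y : Subgroup A | Y.Normal ∧ Y ≠ ⊥ ∧ Y ≤ Ma}).exists_minimal
    ⟨Ma, hMan, hMa1, le_rfl⟩
  have hmin : ∀ Z : Subgroup A, Z.Normal → Z ≤ Y → Z = ⊥ ∨ Z = Y := fun Z hZ hZY => by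
    rcases eq_or_ne Z ⊥ with h | h
    · exact Or.inl h
    · exact Or.inr (le_antisymm hZY (hYmin ⟨hZ, h, hZY.trans hYM⟩ hZY))
  by_cases hab : IsMulCommutative Y
  · haveI := hYn
    exact Or.inr (exists_aff_of_commutative hC heven hb Y hYM hY1 hab hmin)
  -- a nonabelian socle
  refine Or.inl ?_
  let X := SubMulAction.ofStabilizer G a
  haveI : FaithfulSMul A X := ⟨fun {g h} hgh => Subtype.ext (FaithfulSMul.eq_of_smul_eq_smul (α := Ω) fun x => by
    rcases eq_or_ne x a with hx | hx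
    · rw [hx, show (g : G) • a = a from g.2, show (h : G) • a = a from h.2]
    · exact congrArg Subtype.val (hgh ⟨x, hx⟩))⟩
  haveI : IsPretransitive G Ω := ⟨fun x y => by
    obtain ⟨d, hd⟩ := exists_ne x
    obtain ⟨d', hd'⟩ := exists_ne y
    obtain ⟨m, -, h1, -⟩ := exists_map2 (M := M) h2 hd.symm hd'.symm
    exact ⟨m, h1⟩⟩
  haveI hA2 : IsMultiplyPretransitive A X 2 := SubMulAction.ofStabilizer.isMultiplyPretransitive.1 h3
  haveI : Fintype X := Fintype.ofFinite _
  have hXcard : Fintype.card X + 1 = Fintype.card Ω := by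
    rw [← Nat.card_eq_fintype_card]
    show Nat.card (({a} : Set Ω)ᶜ : Set Ω) + 1 = _
    rw [Nat.card_coe_set_eq, Set.ncard_compl, Set.ncard_singleton, Nat.card_eq_fintype_card]
    omega
  have hMa3 : ¬ 3 ∣ Nat.card Ma := fun h => hfree a <| h.trans <| by
    rw [← card_map_of_injective (K := Ma) A.subtype_injective]
    refine card_dvd_of_le ?_
    rintro _ ⟨y, hy, rfl⟩
    exact ⟨hy, y.2⟩
  have hXodd : Odd (Fintype.card X) := by
    obtain ⟨j, hj⟩ := heven
    exact ⟨j - 1, by omega⟩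
  have hM2 := hsoc A X hA2 hXodd Ma hMan hMa3 ⟨Y, hYn, hYM, hY1, hab, hmin⟩
  refine twoCol_of_orbit h2 hb.symm fun c hac hbc => ?_
  have hle : ({a, b} : Set Ω)ᶜ ⊆ orbit (stab2 M a b) c := by
    intro d hd
    simp only [Set.mem_compl_iff, Set.mem_insert_iff, Set.mem_singleton_iff, not_or] at hd
    obtain ⟨⟨g, hg⟩, h1, h2'⟩ := (is_two_pretransitive_iff (G := Ma) (α := X)).1 hM2
      (show (⟨b, hb⟩ : X) ≠ ⟨c, hac.symm⟩ from fun e => hbc (congrArg Subtype.val e))
      (show (⟨b, hb⟩ : X) ≠ ⟨d, hd.1⟩ from fun e => hd.2 (congrArg Subtype.val e).symm)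
    exact ⟨⟨g, mem_stab2.2 ⟨mem_subgroupOf.1 hg, g.2, congrArg Subtype.val h1⟩⟩, congrArg Subtype.val h2'⟩
  have h := Set.ncard_le_ncard hle
  rw [← Nat.card_coe_set_eq, card_compl_pair hb.symm, ← Nat.card_coe_set_eq] at h
  omega

end CfsgLib.Wagner
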