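import Cfsg.Agent.Lib.Perm.Wagner.Focal
import Cfsg.Agent.Lib.Core.SchurZassenhaus
import Cfsg.Agent.Lib.Perm.ZassenhausEven
import Cfsg.Agent.Lib.Perm.ZassenhausAbelianBound
import Cfsg.Agent.Lib.Perm.SharplyTwo

/-!
Owner: helper12. S3255 (Wagner): two colours when a point stabiliser has translations.

* `Aff.all`: then every point has.
* `exists_conj_stab3`: the complements `stab3` over one pair are conjugate inside `stab2`.
* `twoCol_of_complement_ne`: the descent when `stab3` is nontrivial.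
* `isZassenhaus_of_stab3`, `twoCol_of_aff`.
-/

set_option autoImplicit false
set_option linter.unusedSectionVars false

namespace CfsgLib.Wagner

open Subgroup MulAction

universe u

variable {G : Type u} [Group G] [Finite G] {Ω : Type u} [Fintype Ω] [MulAction G Ω] [FaithfulSMul G Ω]
variable {M : Subgroup G}

theorem Aff.all (hC : Ctx Ω M) {a : Ω} {V : Subgroup G} {p f : ℕ} (A : Aff M a V p f) (c : Ω) :
    ∃ V', Aff M c V' p f := by
  haveI := hC.normal
  haveI := hC.trans2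
  haveI : IsPretransitive M Ω := isPretransitive_of_is_two_pretransitive
  obtain ⟨g, rfl⟩ := exists_smul_eq M a c
  exact ⟨_, A.conj (g : G)⟩

theorem card_stab2_subgroupOf (M : Subgroup G) (a b : Ω) :
    Nat.card (stabilizer M a ⊓ stabilizer M b : Subgroup M) = Nat.card (stab2 M a b) :=
  Nat.card_congr
    { toFun := fun g => ⟨g.1.1, mem_stab2.2 ⟨g.1.2, g.2.1, g.2.2⟩⟩
      invFun := fun g => ⟨⟨g.1, (mem_stab2.1 g.2).1⟩, (mem_stab2.1 g.2).2.1, (mem_stab2.1 g.2).2.2⟩
      left_inv := fun g => rfl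
      right_inv := fun g => rfl }

section Complement

variable {p f : ℕ} (hC : Ctx Ω M) (hA : ∀ a : Ω, ∃ V, Aff M a V p f)
  (hcore : ∀ a b : Ω, a ≠ b → Core M a b f) (hf : Odd f)
include hC hA hcore hf

theorem card_trip (t : Fin 3 ↪ Ω) :
    Nat.card (orbit (stab2 M (t 0) (t 1)) (t 2)) = Nat.card (fit2 M (t 0) (t 1)) ∧
      Nat.card (stab2 M (t 0) (t 1)) = Nat.card (fit2 M (t 0) (t 1)) * Nat.card (stab3 M t) ∧
      (Nat.card (fit2 M (t 0) (t 1))).Coprime (Nat.card (stab3 M t)) := by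
  have h := card_orbit_eq_fit2 hA hC (trip_ne t (show (0 : Fin 3) ≠ 1 by decide)) (hcore _ _ (trip_ne t (by decide)))
    hf (trip_ne t (show (0 : Fin 3) ≠ 2 by decide)) (trip_ne t (show (1 : Fin 3) ≠ 2 by decide))
  have e : trip (t 0) (t 1) (t 2) (trip_ne t (show (0 : Fin 3) ≠ 1 by decide)) (trip_ne t (show (0 : Fin 3) ≠ 2 by decide))
      (trip_ne t (show (1 : Fin 3) ≠ 2 by decide)) = t := trip_ext rfl rfl rfl
  rwa [e] at h

/-- The stabilisers of two triples over one pair are conjugate in `M`. -/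
theorem exists_conj_stab3 (s t : Fin 3 ↪ Ω) (h0 : s 0 = t 0) (h1 : s 1 = t 1) :
    ∃ m ∈ stab2 M (t 0) (t 1), (stab3 M s).map (MulAut.conj m).toMonoidHom = stab3 M t := by
  classical
  haveI := hC.normal
  set a := t 0
  set b := t 1
  have hab : a ≠ b := trip_ne t (by decide)
  set N := stab2 M a b with hN
  set F := fit2 M a b with hF
  haveI := (hcore a b hab).cyclic
  set F' : Subgroup N := F.subgroupOf N with hF'
  have hcF : Nat.card F' = Nat.card F := Nat.card_congr (subgroupOfEquivOfLe (fit2_le M a b)).toEquiv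
  haveI hF'n : F'.Normal := ⟨fun y hy g => mem_subgroupOf.2 (by
    obtain ⟨-, ha, hb⟩ := mem_stab2.1 g.2
    simpa [ha, hb] using conj_mem_fit2 (M := M) (mem_subgroupOf.1 hy) (g : G))⟩
  haveI hFcomm : IsMulCommutative F := by
    letI := IsCyclic.commGroup (α := F)
    exact ⟨⟨mul_comm⟩⟩
  haveI : IsMulCommutative F' := ⟨⟨fun y z => Subtype.ext (Subtype.ext
    (congrArg Subtype.val (hFcomm.is_comm.comm (⟨_, mem_subgroupOf.1 y.2⟩ : F) ⟨_, mem_subgroupOf.1 z.2⟩) :))⟩⟩
  have hcompl : ∀ r : Fin 3 ↪ Ω, r 0 = a → r 1 = b →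
      stab3 M r ≤ N ∧ IsComplement' F' ((stab3 M r).subgroupOf N) ∧ (Nat.card F).Coprime (Nat.card (stab3 M r)) ∧
        Nat.card N = Nat.card F * Nat.card (stab3 M r) := by
    intro r e0 e1
    obtain ⟨-, h2, h3⟩ := card_trip hC hA hcore hf r
    rw [e0, e1] at h2 h3
    have hle : stab3 M r ≤ N := by
      have := stab3_le_stab2 M r
      rwa [e0, e1] at this
    refine ⟨hle, Subgroup.isComplement'_of_coprime ?_ ?_, h3, h2⟩
    · rw [hcF, Nat.card_congr (subgroupOfEquivOfLe hle).toEquiv, ← h2]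
    · rwa [hcF, Nat.card_congr (subgroupOfEquivOfLe hle).toEquiv]
  obtain ⟨hsle, hscompl, hscop, hscard⟩ := hcompl s h0 h1
  obtain ⟨htle, htcompl, -, -⟩ := hcompl t rfl rfl
  have hidx : F'.index = Nat.card (stab3 M s) := by
    have h := card_mul_index F'
    rw [hcF, hscard] at h
    exact Nat.eq_of_mul_eq_mul_left Nat.card_pos h
  obtain ⟨x, -, hx⟩ := CfsgLib.Core.exists_conj_complement_of_abelian F' (by rw [hcF, hidx]; exact hscop) hscompl htcompl
  refine ⟨(x : G), x.2, ?_⟩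
  have h := congrArg (Subgroup.map N.subtype) hx
  rw [subgroupOf_map_subtype, inf_of_le_left htle] at h
  rw [← h]
  conv_lhs => rw [← inf_of_le_left hsle, ← subgroupOf_map_subtype]
  show (((stab3 M s).subgroupOf N).map N.subtype).map (MulAut.conj (x : G)).toMonoidHom =
    (((stab3 M s).subgroupOf N).map (MulAut.conj x).toMonoidHom).map N.subtype
  rw [Subgroup.map_map, Subgroup.map_map]
  rfl

theorem twoCol_of_complement_ne (hIH : TwoColBelow.{u} (Fintype.card Ω))
    (hfree : ∀ a : Ω, ¬ 3 ∣ Nat.card (M ⊓ stabilizer G a : Subgroup G))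
    (t₀ : Fin 3 ↪ Ω) (hU : stab3 M t₀ ≠ ⊥) : TwoCol Ω M := by
  haveI := hC.normal
  set U := stab3 M t₀ with hUdef
  have hAcond : ∀ t : Fin 3 ↪ Ω, U ≤ stab3 M t → ∀ g : G, U.map (MulAut.conj g).toMonoidHom ≤ stab3 M t →
      ∃ h ∈ stab3 M t, (U.map (MulAut.conj g).toMonoidHom).map (MulAut.conj h).toMonoidHom = U := by
    intro t ht g hg
    have h1 : U = stab3 M t := eq_of_le_of_card_ge ht (card_stab3_eq hC.trans3 t t₀).le
    have h2 : U.map (MulAut.conj g).toMonoidHom = stab3 M t := eq_of_le_of_card_ge hg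
      (le_of_eq (by rw [card_map_of_injective (MulAut.conj g).injective, ← h1]))
    refine ⟨1, one_mem _, ?_⟩
    rw [h2, ← h1]
    convert Subgroup.map_id U
    ext x
    simp
  refine twoCol_of_witt hC hIH U hU t₀ le_rfl hAcond (fun g => ?_)
    (three_dvd_fixed hfree hC.cyc t₀ le_rfl (hAcond t₀ le_rfl))
  have hne : g • t₀ 0 ≠ g • t₀ 1 := fun e => trip_ne t₀ (show (0 : Fin 3) ≠ 1 by decide) (MulAction.injective g e)
  obtain ⟨m, hm, h0, h1⟩ := exists_map2 hC.trans2 (trip_ne t₀ (show (0 : Fin 3) ≠ 1 by decide)) hne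
  obtain ⟨x, hx, he⟩ := exists_conj_stab3 hC hA hcore hf (m • t₀) (g • t₀) h0 h1
  refine ⟨x * m, mul_mem (mem_stab2.1 hx).1 hm, ?_⟩
  rw [hUdef, map_conj_stab3, ← he, ← map_conj_stab3, Subgroup.map_map]
  congr 1
  ext y
  simp [mul_assoc]

/-- With trivial `stab3` the group `M` is a Zassenhaus group. -/
theorem isZassenhaus_of_stab3 (t₀ : Fin 3 ↪ Ω) (hU : stab3 M t₀ = ⊥) : Cfsg.IsZassenhausGroup M Ω := by
  classical
  haveI := hC.normal
  haveI := hC.simple
  haveI hfaith : FaithfulSMul M Ω := ⟨fun h => Subtype.ext (FaithfulSMul.eq_of_smul_eq_smul (α := Ω) h)⟩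
  haveI : Nontrivial Ω := Fintype.one_lt_card_iff_nontrivial.1 (by have := hC.three_lt; omega)
  haveI := hC.trans2
  haveI : IsPretransitive M Ω := isPretransitive_of_is_two_pretransitive
  have hthree : ∀ g : M, ∀ a b c : Ω, a ≠ b → b ≠ c → a ≠ c → g • a = a → g • b = b → g • c = c → g = 1 := by
    intro g a b c hab hbc hac ha hb hc
    have h1 : stab3 M (trip a b c hab hac hbc) = ⊥ := Subgroup.eq_bot_of_card_eq _ (by
      rw [card_stab3_eq hC.trans3 _ t₀, hU, card_bot])
    exact Subtype.ext (mem_bot.1 (h1 ▸ mem_stab3.2 ⟨g.2, ha, hb, hc⟩))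
  have hfour : ∃ g : M, g ≠ 1 ∧ ∃ a b : Ω, a ≠ b ∧ g • a = a ∧ g • b = b := by
    by_contra hne
    push Not at hne
    obtain ⟨q, j, K, -, -, -, hKn, hKab, -, hKcard, -⟩ := CfsgLib.Perm.SharplyTwo.exists_kernel (G := M) (X := Ω)
      hC.trans2 (by have := hC.three_lt; omega) (fun g c d hcd hc hd => by
        by_contra hg
        exact hne g hg c d hcd hc hd)
    rcases IsSimpleGroup.eq_bot_or_eq_top_of_normal K hKn with h | h
    · rw [h, card_bot] at hKcard
      have := hC.three_lt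
      omega
    · exact hC.nonab ⟨⟨fun x y =>
        congrArg Subtype.val (hKab.is_comm.comm (⟨x, h ▸ mem_top x⟩ : K) ⟨y, h ▸ mem_top y⟩)⟩⟩
  refine ⟨hfaith, hC.trans2, hthree, hfour, fun N hN hNt => ?_⟩
  obtain ⟨g, hg, a, b, hab, ha, hb⟩ := hfour
  rcases IsSimpleGroup.eq_bot_or_eq_top_of_normal N hN with h | h
  · obtain ⟨y, hy⟩ := exists_smul_eq N a b
    have hy1 : (y : M) = 1 := mem_bot.1 (h ▸ y.2)
    exact absurd (show (y : M) • a = b from hy) (by rw [hy1, one_smul]; exact hab)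
  · refine ⟨a, fun hbot => hg ?_⟩
    have hmem : (⟨g, h ▸ mem_top g⟩ : N) ∈ stabilizer N a := ha
    rw [hbot, mem_bot] at hmem
    exact congrArg Subtype.val hmem

end Complement

/-- Two colours when some point has translations. -/
theorem twoCol_of_aff (h3 : CfsgLib.ThreePrimeUse.ThreePrimeSimple.{u}) (hC : Ctx Ω M)
    (hIH : TwoColBelow.{u} (Fintype.card Ω))
    (hfree : ∀ a : Ω, ¬ 3 ∣ Nat.card (M ⊓ stabilizer G a : Subgroup G))
    {a : Ω} {V : Subgroup G} {p f : ℕ} (A : Aff M a V p f) : TwoCol Ω M := by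
  classical
  haveI := hC.normal
  haveI := hC.simple
  have hA := A.all hC
  have hcore : ∀ a b : Ω, a ≠ b → Core M a b f := fun c d hcd => (hA c).choose_spec.core hC hcd <|
    (hA c).choose_spec.solvable_stab2 h3 hC hcd fun h => hfree c (h.trans (card_dvd_of_le inf_le_left))
  haveI : Nontrivial Ω := Fintype.one_lt_card_iff_nontrivial.1 (by have := hC.three_lt; omega)
  obtain ⟨b, hb⟩ := exists_ne a
  obtain ⟨c, hc⟩ : (({a, b} : Set Ω)ᶜ).Nonempty := (Set.ncard_pos (Set.toFinite _)).1 (by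
    rw [← Nat.card_coe_set_eq, card_compl_pair hb.symm]
    have := hC.three_lt
    omega)
  simp only [Set.mem_compl_iff, Set.mem_insert_iff, Set.mem_singleton_iff, not_or] at hc
  set t₀ := trip a b c hb.symm (Ne.symm hc.1) (Ne.symm hc.2) with ht₀
  by_cases hU : stab3 M t₀ = ⊥
  swap
  · exact twoCol_of_complement_ne hC hA hcore A.f_odd hIH hfree t₀ hU
  have hZ := isZassenhaus_of_stab3 hC hA hcore A.f_odd t₀ hU
  have hlarge : Fintype.card Ω - 2 ≤ 2 * Nat.card (stab2 M a b) := by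
    rw [← card_stab2_subgroupOf]
    rcases Nat.even_or_odd (Nat.card (stabilizer M a ⊓ stabilizer M b : Subgroup M)) with he | ho
    · exact CfsgLib.Perm.zass_even_large hZ hb.symm he
    · haveI := Fintype.ofFinite M
      refine CfsgLib.Perm.zass_abelian_kernel_bound hZ hb.symm ho (H := V.subgroupOf M) ?_ ?_ ?_ ?_
      · exact fun v hv => A.fixes (mem_subgroupOf.1 hv)
      · rw [Nat.card_congr (subgroupOfEquivOfLe A.le).toEquiv, A.card, A.degree]
      · intro v hv hv1 x hx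
        by_contra hne
        exact hv1 (Subtype.ext (A.free (Ne.symm hne) v (mem_subgroupOf.1 hv) hx))
      · exact fun x hx y hy => Subtype.ext (A.comm x (mem_subgroupOf.1 hx) y (mem_subgroupOf.1 hy))
  refine twoCol_of_orbit hC.trans2 hb.symm fun d hd1 hd2 => ?_
  obtain ⟨h1, h2, -⟩ := card_orbit_eq_fit2 hA hC hb.symm (hcore a b hb.symm) A.f_odd hd1 hd2
  have hU' : Nat.card (stab3 M (trip a b d hb.symm hd1 hd2)) = 1 := by
    rw [card_stab3_eq hC.trans3 _ t₀, hU, card_bot]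
  rw [hU', mul_one] at h2
  rw [h1, ← h2]
  exact hlarge

end CfsgLib.Wagner
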