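import Cfsg.Agent.Lib.Perm.Wagner.Setting
import Cfsg.Agent.Lib.Core.Coprime

/-!
Owner: helper12. S3255 (Wagner): colours through the orbits of the two-point stabilisers.

* `col_trip`, `twoCol_of_pair`, `twoCol_of_orbit`: two colours from two orbits of `stab2`.
* `card_orbit_eq`, `card_orbit_dvd`, `card_orbit_mul`: the orbits all have one size `k`, dividing `n - 2`.
* `fixed_modEq`, `exists_third_fixed`: fixed points of `p`-groups.
-/

set_option autoImplicit false
set_option linter.unusedSectionVars false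

namespace CfsgLib.Wagner

open Subgroup MulAction

universe u

variable {G : Type u} [Group G] [Finite G] {Ω : Type u} [Fintype Ω] [MulAction G Ω]

theorem exists_map2 {M : Subgroup G} (h2 : IsMultiplyPretransitive M Ω 2) {a b c d : Ω} (hab : a ≠ b)
    (hcd : c ≠ d) : ∃ m ∈ M, m • a = c ∧ m • b = d := by
  obtain ⟨m, h1, h2⟩ := (is_two_pretransitive_iff (G := M) (α := Ω)).1 h2 hab hcd
  exact ⟨m, m.2, h1, h2⟩

theorem conj_mem_stab2 {M : Subgroup G} [M.Normal] {a b : Ω} {h : G} (hh : h ∈ stab2 M a b) (g : G) :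
    g * h * g⁻¹ ∈ stab2 M (g • a) (g • b) := by
  obtain ⟨h0, h1, h2⟩ := mem_stab2.1 hh
  exact mem_stab2.2 ⟨Subgroup.Normal.conj_mem inferInstance h h0 g, by simp [mul_smul, h1],
    by simp [mul_smul, h2]⟩

theorem map_conj_stab2 {M : Subgroup G} [M.Normal] (a b : Ω) (g : G) :
    (stab2 M a b).map (MulAut.conj g).toMonoidHom = stab2 M (g • a) (g • b) := by
  refine le_antisymm ?_ fun x hx => ?_
  · rintro _ ⟨h, hh, rfl⟩
    exact conj_mem_stab2 hh g
  · refine ⟨g⁻¹ * x * g, ?_, by simp [mul_assoc]⟩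
    simpa using conj_mem_stab2 hx g⁻¹

theorem card_stab2_eq {M : Subgroup G} [M.Normal] (h2 : IsMultiplyPretransitive M Ω 2) {a b c d : Ω}
    (hab : a ≠ b) (hcd : c ≠ d) : Nat.card (stab2 M a b) = Nat.card (stab2 M c d) := by
  obtain ⟨m, -, rfl, rfl⟩ := exists_map2 h2 hab hcd
  rw [← map_conj_stab2, card_map_of_injective (MulAut.conj m).injective]

theorem map_conj_stab3 {M : Subgroup G} [M.Normal] (t : Fin 3 ↪ Ω) (g : G) :
    (stab3 M t).map (MulAut.conj g).toMonoidHom = stab3 M (g • t) := by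
  refine le_antisymm ?_ fun x hx => ?_
  · rintro _ ⟨h, ⟨h0, h1⟩, rfl⟩
    refine ⟨Subgroup.Normal.conj_mem inferInstance h h0 g, ?_⟩
    show (g * h * g⁻¹) • g • t = g • t
    rw [mul_smul, mul_smul, inv_smul_smul, show h • t = t from h1]
  · refine ⟨g⁻¹ * x * g, ⟨by simpa using Subgroup.Normal.conj_mem inferInstance x hx.1 g⁻¹, ?_⟩,
      by simp [mul_assoc]⟩
    show (g⁻¹ * x * g) • t = t
    rw [mul_smul, mul_smul, show x • g • t = g • t from hx.2, inv_smul_smul]

theorem card_stab3_eq {M : Subgroup G} [M.Normal] (h3 : IsMultiplyPretransitive G Ω 3) (s t : Fin 3 ↪ Ω) :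
    Nat.card (stab3 M s) = Nat.card (stab3 M t) := by
  haveI := h3
  obtain ⟨g, rfl⟩ := exists_smul_eq G s t
  rw [← map_conj_stab3, card_map_of_injective (MulAut.conj g).injective]

theorem col_trip {M : Subgroup G} {a b c d : Ω} {hab : a ≠ b} {hac : a ≠ c} {hbc : b ≠ c} {hab' : a ≠ b}
    {had : a ≠ d} {hbd : b ≠ d} (h : d ∈ orbit (stab2 M a b) c) :
    Col M (trip a b c hab hac hbc) (trip a b d hab' had hbd) := by
  obtain ⟨⟨m, hm⟩, rfl⟩ := h
  obtain ⟨h0, h1, h2⟩ := mem_stab2.1 hm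
  exact ⟨m, h0, trip_ext h1 h2 rfl⟩

theorem mem_orbit_of_col {M : Subgroup G} {a b c d : Ω} {hab : a ≠ b} {hac : a ≠ c} {hbc : b ≠ c}
    {hab' : a ≠ b} {had : a ≠ d} {hbd : b ≠ d}
    (h : Col M (trip a b c hab hac hbc) (trip a b d hab' had hbd)) : d ∈ orbit (stab2 M a b) c := by
  obtain ⟨m, hm, he⟩ := h
  exact ⟨⟨m, mem_stab2.2 ⟨hm, DFunLike.congr_fun he 0, DFunLike.congr_fun he 1⟩⟩, DFunLike.congr_fun he 2⟩

/-- Every colour occurs among the triples through two given points. -/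
theorem exists_col_trip {M : Subgroup G} (h2 : IsMultiplyPretransitive M Ω 2) {a b : Ω} (hab : a ≠ b)
    (r : Fin 3 ↪ Ω) : ∃ (c : Ω) (hac : a ≠ c) (hbc : b ≠ c), Col M r (trip a b c hab hac hbc) := by
  obtain ⟨m, hm, h0, h1⟩ := exists_map2 h2 (trip_ne r (show (0 : Fin 3) ≠ 1 by decide)) hab
  have hac : a ≠ m • r 2 := fun e => trip_ne r (show (0 : Fin 3) ≠ 2 by decide)
    (MulAction.injective m (h0.trans e))
  have hbc : b ≠ m • r 2 := fun e => trip_ne r (show (1 : Fin 3) ≠ 2 by decide)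
    (MulAction.injective m (h1.trans e))
  exact ⟨m • r 2, hac, hbc, m, hm, trip_ext h0 h1 rfl⟩

theorem twoCol_of_pair {M : Subgroup G} (h2 : IsMultiplyPretransitive M Ω 2) {a b : Ω} (hab : a ≠ b)
    (h : ∀ c d e : Ω, a ≠ c → b ≠ c → a ≠ d → b ≠ d → a ≠ e → b ≠ e →
      d ∈ orbit (stab2 M a b) c ∨ e ∈ orbit (stab2 M a b) c ∨ e ∈ orbit (stab2 M a b) d) : TwoCol Ω M := by
  intro r s t
  obtain ⟨c, hac, hbc, hr⟩ := exists_col_trip h2 hab r
  obtain ⟨d, had, hbd, hs⟩ := exists_col_trip h2 hab s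
  obtain ⟨e, hae, hbe, ht⟩ := exists_col_trip h2 hab t
  rcases h c d e hac hbc had hbd hae hbe with h' | h' | h'
  · exact Or.inl (hr.trans ((col_trip h').trans hs.symm))
  · exact Or.inr (Or.inl (hr.trans ((col_trip h').trans ht.symm)))
  · exact Or.inr (Or.inr (hs.trans ((col_trip h').trans ht.symm)))

theorem orbit_stab2_subset (M : Subgroup G) {a b c : Ω} (hac : a ≠ c) (hbc : b ≠ c) :
    orbit (stab2 M a b) c ⊆ ({a, b} : Set Ω)ᶜ := by
  rintro _ ⟨⟨m, hm⟩, rfl⟩
  obtain ⟨-, h1, h2⟩ := mem_stab2.1 hm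
  rintro (e | e)
  · exact hac (MulAction.injective m (h1.trans e.symm))
  · exact hbc (MulAction.injective m (h2.trans e.symm))

theorem card_compl_pair {a b : Ω} (hab : a ≠ b) :
    Nat.card (({a, b} : Set Ω)ᶜ : Set Ω) = Fintype.card Ω - 2 := by
  rw [Nat.card_coe_set_eq, Set.ncard_compl, Set.ncard_pair hab, Nat.card_eq_fintype_card]

theorem twoCol_of_orbit {M : Subgroup G} (h2 : IsMultiplyPretransitive M Ω 2) {a b : Ω} (hab : a ≠ b)
    (h : ∀ c : Ω, a ≠ c → b ≠ c → Fintype.card Ω - 2 ≤ 2 * Nat.card (orbit (stab2 M a b) c)) :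
    TwoCol Ω M := by
  refine twoCol_of_pair h2 hab fun c d e hac hbc had hbd hae hbe => ?_
  by_contra hne
  push Not at hne
  obtain ⟨hcd, hce, hde⟩ := hne
  have hdis : ∀ x y : Ω, y ∉ orbit (stab2 M a b) x → Disjoint (orbit (stab2 M a b) x) (orbit (stab2 M a b) y) :=
    fun x y hxy => Set.disjoint_left.2 fun z hz hz' => hxy (by
      rw [← orbit_eq_iff.2 hz, orbit_eq_iff.2 hz']; exact mem_orbit_self y)
  have h1 : (orbit (stab2 M a b) c ∪ orbit (stab2 M a b) d ∪ orbit (stab2 M a b) e).ncard ≤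
      (({a, b} : Set Ω)ᶜ).ncard :=
    Set.ncard_le_ncard (Set.union_subset (Set.union_subset (orbit_stab2_subset M hac hbc)
      (orbit_stab2_subset M had hbd)) (orbit_stab2_subset M hae hbe))
  rw [Set.ncard_union_eq (Set.disjoint_union_left.2 ⟨hdis _ _ hce, hdis _ _ hde⟩),
    Set.ncard_union_eq (hdis _ _ hcd)] at h1
  have hk := card_compl_pair hab
  have e1 := h c hac hbc
  have e2 := h d had hbd
  have e3 := h e hae hbe
  have p1 : 0 < (orbit (stab2 M a b) c).ncard := (Set.ncard_pos (Set.toFinite _)).2 ⟨c, mem_orbit_self c⟩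
  simp only [Nat.card_coe_set_eq] at *
  omega

section Orbits

variable {M : Subgroup G} [M.Normal] (h3 : IsMultiplyPretransitive G Ω 3) {a b : Ω} (hab : a ≠ b)
include h3 hab

theorem exists_fix2_map {c d : Ω} (hac : a ≠ c) (hbc : b ≠ c) (had : a ≠ d) (hbd : b ≠ d) :
    ∃ g : G, g • a = a ∧ g • b = b ∧ g • c = d := by
  haveI := h3
  obtain ⟨g, hg⟩ := exists_smul_eq G (trip a b c hab hac hbc) (trip a b d hab had hbd)
  exact ⟨g, DFunLike.congr_fun hg 0, DFunLike.congr_fun hg 1, DFunLike.congr_fun hg 2⟩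

theorem card_orbit_mul {c : Ω} (hac : a ≠ c) (hbc : b ≠ c) :
    Nat.card (orbit (stab2 M a b) c) * Nat.card (stab3 M (trip a b c hab hac hbc)) =
      Nat.card (stab2 M a b) := by
  classical
  have he : Nat.card (stabilizer (stab2 M a b) c) = Nat.card (stab3 M (trip a b c hab hac hbc)) := by
    refine Nat.card_congr
      { toFun := fun g => ⟨g.1.1, mem_stab3.2 ⟨(mem_stab2.1 g.1.2).1, (mem_stab2.1 g.1.2).2.1,
          (mem_stab2.1 g.1.2).2.2, g.2⟩⟩
        invFun := fun g => ⟨⟨g.1, mem_stab2.2 ⟨(mem_stab3.1 g.2).1, (mem_stab3.1 g.2).2.1,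
          (mem_stab3.1 g.2).2.2.1⟩⟩, (mem_stab3.1 g.2).2.2.2⟩
        left_inv := fun g => rfl
        right_inv := fun g => rfl }
  rw [← he, ← Nat.card_prod]
  exact Nat.card_congr (MulAction.orbitProdStabilizerEquivGroup (stab2 M a b) c)

theorem card_orbit_eq {c d : Ω} (hac : a ≠ c) (hbc : b ≠ c) (had : a ≠ d) (hbd : b ≠ d) :
    Nat.card (orbit (stab2 M a b) c) = Nat.card (orbit (stab2 M a b) d) := by
  have h1 := card_orbit_mul (M := M) h3 hab hac hbc
  have h2 := card_orbit_mul (M := M) h3 hab had hbd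
  rw [card_stab3_eq h3 (trip a b c hab hac hbc) (trip a b d hab had hbd), ← h2] at h1
  exact Nat.eq_of_mul_eq_mul_right Nat.card_pos h1

theorem card_orbit_dvd {c : Ω} (hac : a ≠ c) (hbc : b ≠ c) :
    Nat.card (orbit (stab2 M a b) c) ∣ Fintype.card Ω - 2 := by
  classical
  set H := stab2 M a b with hH
  set A : Subgroup G := stabilizer G a ⊓ stabilizer G b with hA
  set Ac : Subgroup G := A ⊓ stabilizer G c with hAc
  have hnorm : Ac ≤ normalizer (H : Set G) := by
    intro g hg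
    refine mem_normalizer_iff.2 fun h => ⟨fun hh => ?_, fun hh => ?_⟩
    · have := conj_mem_stab2 hh g
      rwa [show g • a = a from hg.1.1, show g • b = b from hg.1.2] at this
    · have := conj_mem_stab2 hh g⁻¹
      rw [inv_smul_eq_iff.2 (show g • a = a from hg.1.1).symm,
        inv_smul_eq_iff.2 (show g • b = b from hg.1.2).symm] at this
      simpa [mul_assoc] using this
  have hKA : H ⊔ Ac ≤ A := sup_le (fun x hx => ⟨(mem_stab2.1 hx).2.1, (mem_stab2.1 hx).2.2⟩) inf_le_left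
  have hK : orbit (H ⊔ Ac : Subgroup G) c = orbit H c := by
    ext x
    constructor
    · rintro ⟨⟨k, hk⟩, rfl⟩
      rw [sup_comm, CfsgLib.Core.mem_sup_iff_mul' hnorm] at hk
      obtain ⟨h, hh, s, hs, rfl⟩ := hk
      refine ⟨⟨h, hh⟩, ?_⟩
      show h • c = (h * s) • c
      rw [mul_smul, show s • c = c from hs.2]
    · rintro ⟨⟨h, hh⟩, rfl⟩
      exact ⟨⟨h, mem_sup_left hh⟩, rfl⟩
  have hKst : Nat.card (stabilizer (H ⊔ Ac : Subgroup G) c) = Nat.card Ac := by
    refine Nat.card_congr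
      { toFun := fun g => ⟨g.1.1, hKA g.1.2, g.2⟩
        invFun := fun g => ⟨⟨g.1, mem_sup_right g.2⟩, g.2.2⟩
        left_inv := fun g => rfl
        right_inv := fun g => rfl }
  have hAorb : orbit A c = ({a, b} : Set Ω)ᶜ := by
    ext x
    constructor
    · rintro ⟨⟨g, hg⟩, rfl⟩ (e | e)
      · exact hac (MulAction.injective g ((show g • a = a from hg.1).trans e.symm))
      · exact hbc (MulAction.injective g ((show g • b = b from hg.2).trans e.symm))
    · intro hx
      simp only [Set.mem_compl_iff, Set.mem_insert_iff, Set.mem_singleton_iff, not_or] at hx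
      obtain ⟨g, h1, h2, h3'⟩ := exists_fix2_map h3 hab hac hbc (Ne.symm hx.1) (Ne.symm hx.2)
      exact ⟨⟨g, h1, h2⟩, h3'⟩
  have hAst : Nat.card (stabilizer A c) = Nat.card Ac := by
    refine Nat.card_congr
      { toFun := fun g => ⟨g.1.1, g.1.2, g.2⟩
        invFun := fun g => ⟨⟨g.1, g.2.1⟩, g.2.2⟩
        left_inv := fun g => rfl
        right_inv := fun g => rfl }
  have h1 : Nat.card (H ⊔ Ac : Subgroup G) = Nat.card (orbit H c) * Nat.card Ac := by
    rw [← hKst, ← hK, ← Nat.card_prod]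
    exact (Nat.card_congr (MulAction.orbitProdStabilizerEquivGroup _ c)).symm
  have h2 : Nat.card A = (Fintype.card Ω - 2) * Nat.card Ac := by
    rw [← hAst, ← card_compl_pair hab, ← hAorb, ← Nat.card_prod]
    exact (Nat.card_congr (MulAction.orbitProdStabilizerEquivGroup _ c)).symm
  have h4 := card_dvd_of_le hKA
  rw [h1, h2] at h4
  exact Nat.dvd_of_mul_dvd_mul_right Nat.card_pos h4

end Orbits

/-- The fixed points of a `p`-group. -/
theorem fixed_modEq {p : ℕ} [Fact p.Prime] {P : Subgroup G} (hP : IsPGroup p P) :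
    Fintype.card Ω ≡ Nat.card (fixedPoints P Ω) [MOD p] := by
  rw [← Nat.card_eq_fintype_card]
  exact hP.card_modEq_card_fixedPoints (α := Ω)

theorem exists_third_fixed {p : ℕ} [Fact p.Prime] {P : Subgroup G} (hP : IsPGroup p P) {a b : Ω}
    (hab : a ≠ b) (ha : a ∈ fixedPoints P Ω) (hb : b ∈ fixedPoints P Ω) (hn : ¬ p ∣ Fintype.card Ω - 2) :
    ∃ c : Ω, a ≠ c ∧ b ≠ c ∧ c ∈ fixedPoints P Ω := by
  by_contra hne
  push Not at hne
  have he : fixedPoints P Ω = {a, b} := by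
    ext x
    constructor
    · intro hx
      by_contra h
      simp only [Set.mem_insert_iff, Set.mem_singleton_iff, not_or] at h
      exact hne x (Ne.symm h.1) (Ne.symm h.2) hx
    · rintro (rfl | rfl) <;> assumption
  have h := fixed_modEq (Ω := Ω) hP
  rw [he, Nat.card_coe_set_eq, Set.ncard_pair hab] at h
  have h2 : 2 ≤ Fintype.card Ω := Fintype.one_lt_card_iff.2 ⟨a, b, hab⟩
  exact hn ((Nat.modEq_iff_dvd' h2).1 h.symm)

end CfsgLib.Wagner
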