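import Cfsg.Agent.Lib.Perm.Wagner.TwoPointCore

/-!
Owner: helper16. S3255 (Wagner), part (b): coordinates on a line.

* `closure_fix_three`: the translations, a cyclic torus of index two and an involution inverting it act as
  fractional linear maps, so only the identity fixes three points.
-/

set_option autoImplicit false
set_option linter.style.haveILetI false
set_option linter.unusedSectionVars false

namespace CfsgLib.Wagner

open Subgroup MulAction

universe u v w

/-- The point with homogeneous coordinates `(x, y)`. -/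
def projPt {K : Type w} [Field K] [DecidableEq K] {Ω : Type v} (a : Ω) (ψ : K → Ω) (x y : K) : Ω :=
  if y = 0 then a else ψ (x / y)

/-- `g` acts as the map `(x, y) ↦ (α x + β y, γ x + δ y)`. -/
def IsFrac {G : Type u} [Group G] {K : Type w} [Field K] [DecidableEq K] {Ω : Type v} [MulAction G Ω] (a : Ω)
    (ψ : K → Ω) (g : G) : Prop :=
  ∃ α β γ δ : K, α * δ - β * γ ≠ 0 ∧
    ∀ x y : K, x ≠ 0 ∨ y ≠ 0 → g • projPt a ψ x y = projPt a ψ (α * x + β * y) (γ * x + δ * y)

section Line

variable {G : Type u} [Group G] {K : Type w} [Field K] [DecidableEq K] {Ω : Type v} [MulAction G Ω]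
  {a : Ω} {ψ : K → Ω}

theorem projPt_zero (x : K) : projPt a ψ x 0 = a := if_pos rfl

theorem projPt_coe (x : K) : projPt a ψ x 1 = ψ x := by rw [projPt, if_neg one_ne_zero, div_one]

theorem projPt_scale {c : K} (hc : c ≠ 0) (x y : K) : projPt a ψ (c * x) (c * y) = projPt a ψ x y := by
  unfold projPt
  by_cases hy : y = 0
  · rw [if_pos hy, if_pos (by rw [hy, mul_zero])]
  · rw [if_neg hy, if_neg (mul_ne_zero hc hy), mul_div_mul_left _ _ hc]

theorem IsFrac.one : IsFrac a ψ (1 : G) :=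
  ⟨1, 0, 0, 1, by simp, fun x y _ => by rw [one_smul]; simp⟩

theorem lin_ne_zero {α β γ δ x y : K} (hd : α * δ - β * γ ≠ 0) (h : x ≠ 0 ∨ y ≠ 0) :
    α * x + β * y ≠ 0 ∨ γ * x + δ * y ≠ 0 := by
  by_contra hno
  push Not at hno
  obtain ⟨h1, h2⟩ := hno
  rcases h with hx | hy
  · exact mul_ne_zero hd hx (by linear_combination δ * h1 - β * h2)
  · exact mul_ne_zero hd hy (by linear_combination α * h2 - γ * h1)

theorem IsFrac.mul {g h : G} (hg : IsFrac a ψ g) (hh : IsFrac a ψ h) : IsFrac a ψ (g * h) := by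
  obtain ⟨α, β, γ, δ, hd, hgx⟩ := hg
  obtain ⟨α', β', γ', δ', hd', hhx⟩ := hh
  refine ⟨α * α' + β * γ', α * β' + β * δ', γ * α' + δ * γ', γ * β' + δ * δ', ?_, fun x y hxy => ?_⟩
  · rw [show (α * α' + β * γ') * (γ * β' + δ * δ') - (α * β' + β * δ') * (γ * α' + δ * γ') =
      (α * δ - β * γ) * (α' * δ' - β' * γ') by ring]
    exact mul_ne_zero hd hd'
  · rw [mul_smul, hhx x y hxy, hgx _ _ (lin_ne_zero hd' hxy)]
    congr 1 <;> ring

theorem IsFrac.inv {g : G} (hg : IsFrac a ψ g) : IsFrac a ψ g⁻¹ := by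
  obtain ⟨α, β, γ, δ, hd, hgx⟩ := hg
  have hd' : δ * α - -β * -γ ≠ 0 := by
    rw [show δ * α - -β * -γ = α * δ - β * γ by ring]; exact hd
  refine ⟨δ, -β, -γ, α, hd', fun x y hxy => inv_smul_eq_iff.2 ?_⟩
  rw [hgx _ _ (lin_ne_zero hd' hxy), show α * (δ * x + -β * y) + β * (-γ * x + α * y) = (α * δ - β * γ) * x by ring,
    show γ * (δ * x + -β * y) + δ * (-γ * x + α * y) = (α * δ - β * γ) * y by ring, projPt_scale hd]

/-- A fractional linear map fixing three points fixes all. -/
theorem IsFrac.fix_all (hinj : Function.Injective ψ) (hne : ∀ k, ψ k ≠ a) (hsurj : ∀ c, c ≠ a → ∃ k, ψ k = c)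
    {g : G} (hg : IsFrac a ψ g) {c d e : Ω} (hcd : c ≠ d) (hce : c ≠ e) (hde : d ≠ e) (hc : g • c = c)
    (hd : g • d = d) (he : g • e = e) : ∀ x : Ω, g • x = x := by
  obtain ⟨α, β, γ, δ, hdet, hgx⟩ := hg
  have hroot : ∀ k : K, g • ψ k = ψ k → α * k + β = k * (γ * k + δ) := by
    intro k hk
    have h := hgx k 1 (Or.inr one_ne_zero)
    rw [projPt_coe, hk, mul_one, mul_one] at h
    by_cases h0 : γ * k + δ = 0
    · rw [h0, projPt_zero] at h
      exact absurd h (hne k)
    · rw [projPt, if_neg h0] at h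
      rw [← div_mul_cancel₀ (α * k + β) h0, ← hinj h]
  have hinf : g • a = a → γ = 0 := by
    intro ha
    have h := hgx 1 0 (Or.inl one_ne_zero)
    rw [projPt_zero, ha, mul_one, mul_one, mul_zero, mul_zero, add_zero, add_zero] at h
    by_contra h0
    rw [projPt, if_neg h0] at h
    exact hne _ h.symm
  obtain ⟨hα, hβ, hγ⟩ : α = δ ∧ β = 0 ∧ γ = 0 := by
    have two : γ = 0 → ∀ k l : K, k ≠ l → g • ψ k = ψ k → g • ψ l = ψ l → α = δ ∧ β = 0 ∧ γ = 0 := by
      intro h0 k l hkl hk hl
      have e1 := hroot k hk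
      have e2 := hroot l hl
      rw [h0, zero_mul, zero_add] at e1 e2
      have h : (α - δ) * (k - l) = 0 := by linear_combination e1 - e2
      have hαδ : α = δ := sub_eq_zero.1 ((mul_eq_zero.1 h).resolve_right (sub_ne_zero.2 hkl))
      refine ⟨hαδ, ?_, h0⟩
      rw [hαδ] at e1
      linear_combination e1
    rcases eq_or_ne c a with rfl | hca
    · obtain ⟨l, rfl⟩ := hsurj d hcd.symm
      obtain ⟨m, rfl⟩ := hsurj e hce.symm
      exact two (hinf hc) l m (fun h => hde (congrArg ψ h)) hd he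
    obtain ⟨k, rfl⟩ := hsurj c hca
    rcases eq_or_ne d a with rfl | hda
    · obtain ⟨m, rfl⟩ := hsurj e hde.symm
      exact two (hinf hd) k m (fun h => hce (congrArg ψ h)) hc he
    obtain ⟨l, rfl⟩ := hsurj d hda
    rcases eq_or_ne e a with rfl | hea
    · exact two (hinf he) k l (fun h => hcd (congrArg ψ h)) hc hd
    obtain ⟨m, rfl⟩ := hsurj e hea
    have e1 := hroot k hc
    have e2 := hroot l hd
    have e3 := hroot m he
    have p1 : (α - δ - γ * (k + l)) * (k - l) = 0 := by linear_combination e1 - e2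
    have p2 : (α - δ - γ * (k + m)) * (k - m) = 0 := by linear_combination e1 - e3
    have q1 := (mul_eq_zero.1 p1).resolve_right (sub_ne_zero.2 fun h => hcd (congrArg ψ h))
    have q2 := (mul_eq_zero.1 p2).resolve_right (sub_ne_zero.2 fun h => hce (congrArg ψ h))
    have p3 : γ * (m - l) = 0 := by linear_combination q1 - q2
    exact two ((mul_eq_zero.1 p3).resolve_right (sub_ne_zero.2 fun h => hde (congrArg ψ h.symm))) k l
      (fun h => hcd (congrArg ψ h)) hc hd
  have hδ : δ ≠ 0 := fun h => hdet (by rw [hα, hβ, h, zero_mul, zero_mul, sub_zero])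
  intro x
  have key : ∀ u v : K, u ≠ 0 ∨ v ≠ 0 → g • projPt a ψ u v = projPt a ψ u v := fun u v huv => by
    rw [hgx u v huv, hα, hβ, hγ, zero_mul, zero_mul, add_zero, zero_add, projPt_scale hδ]
  rcases eq_or_ne x a with rfl | hx
  · have h := key 1 0 (Or.inl one_ne_zero)
    rwa [projPt_zero] at h
  · obtain ⟨k, rfl⟩ := hsurj x hx
    have h := key k 1 (Or.inr one_ne_zero)
    rwa [projPt_coe] at h

end Line

variable {G : Type u} [Group G] [Finite G] {Ω : Type u} [Fintype Ω] [MulAction G Ω] [FaithfulSMul G Ω]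

/-- Only the identity of `⟨V, F, t⟩` fixes three points. -/
theorem closure_fix_three {M : Subgroup G} (hC : Ctx Ω M) {a : Ω} {V : Subgroup G} {p f : ℕ} (A : Aff M a V p f)
    {b : Ω} (hab : a ≠ b) {F : Subgroup G} (hF : F ≤ stab2 M a b) (hFc : IsCyclic F)
    (hFn : ∀ g : G, g • a = a → g • b = b → ∀ y ∈ F, g * y * g⁻¹ ∈ F) (hFk : 2 * Nat.card F + 1 = p ^ f)
    {t : G} (ht : t * t = 1) (hta : t • a = b) (hinv : ∀ y ∈ F, t * y * t = y⁻¹)
    (hswap : ∀ c : Ω, a ≠ c → b ≠ c → t • c ∉ MulAction.orbit F c) :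
    ∀ g ∈ Subgroup.closure ((V : Set G) ∪ F ∪ {t}), ∀ c d e : Ω, c ≠ d → c ≠ e → d ≠ e →
      g • c = c → g • d = d → g • e = e → g = 1 := by
  classical
  set L : Subgroup G := stabilizer G a ⊓ stabilizer G b with hL
  letI := A.commGroup
  set r := A.rep b with hr
  have hS : Semi r p f := A.semi hC.trans3 hab
  obtain ⟨x, hx, hgood⟩ := exists_irred_good hS
  have hFL : F ≤ L := fun y hy => ⟨(mem_stab2.1 (hF hy)).2.1, (mem_stab2.1 (hF hy)).2.2⟩
  haveI := hFc
  have hFcomm : ∀ y ∈ F.subgroupOf L, Commute x y := by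
    refine hgood _ ?_ fun y hy => ?_
    · haveI : IsCyclic (F.subgroupOf L) := (MulEquiv.isCyclic (subgroupOfEquivOfLe hFL)).2 hFc
      letI := IsCyclic.commGroup (α := F.subgroupOf L)
      exact CommGroup.isNilpotent
    · exact mem_subgroupOf.2 (hFn x x.2.1 x.2.2 _ (mem_subgroupOf.1 hy))
  haveI := hx.isDomain hS
  haveI : Finite (AddMonoid.End (Additive V)) := finite_end
  set K := Subring.centralizer ({r x} : Set (AddMonoid.End (Additive V))) with hK
  letI : Field K := (Finite.isDomain_to_isField K).toField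
  -- the torus in the field
  let ρ : F →* Kˣ := MonoidHom.toHomUnits
    { toFun := fun y => (⟨r ⟨y, hFL y.2⟩, Subring.mem_centralizer_iff.2 fun g hg => by
        rw [Set.mem_singleton_iff.1 hg, ← map_mul, ← map_mul,
          (hFcomm ⟨y, hFL y.2⟩ (mem_subgroupOf.2 y.2)).eq]⟩ : K)
      map_one' := Subtype.ext (show r ⟨(1 : F), hFL (1 : F).2⟩ = 1 from map_one r)
      map_mul' := fun y z => Subtype.ext
        (show r ⟨((y * z : F) : G), hFL (y * z).2⟩ = r ⟨y, hFL y.2⟩ * r ⟨z, hFL z.2⟩ by rw [← map_mul]; rfl) }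
  have hρ : ∀ y : F, ((ρ y : K) : AddMonoid.End (Additive V)) = r ⟨y, hFL y.2⟩ := fun _ => rfl
  have hρinj : Function.Injective ρ := fun y z h => by
    have h1 := hS.eq_of_apply ((hρ y).symm.trans ((congrArg (fun s : Kˣ => ((s : K) : AddMonoid.End (Additive V))) h).trans (hρ z)))
    exact Subtype.ext (congrArg (fun s : L => (s : G)) h1)
  haveI := hS.nontrivial
  obtain ⟨w₀, hw₀⟩ := exists_ne (0 : Additive V)
  -- the field is the whole of `V`
  let e₀ : K →+ Additive V :=
    { toFun := fun k => (k : AddMonoid.End (Additive V)) w₀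
      map_zero' := rfl
      map_add' := fun k l => rfl }
  have hinj₀ : Function.Injective e₀ := (injective_iff_map_eq_zero e₀).2 fun k hk => by
    by_contra hk0
    apply hw₀
    have h1 : ((k⁻¹ * k : K) : AddMonoid.End (Additive V)) w₀ = w₀ := by rw [inv_mul_cancel₀ hk0]; rfl
    rw [← h1, Subring.coe_mul, end_mul_apply, show (k : AddMonoid.End (Additive V)) w₀ = 0 from hk, map_zero]
  have hq : Nat.card (Additive V) = p ^ f := hS.card
  have hcardK : Nat.card K = p ^ f := by
    obtain ⟨d, hd, hKd⟩ := (Nat.dvd_prime_pow A.prime).1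
      (show Nat.card K ∣ p ^ f by
        rw [← hq, Nat.card_congr (AddMonoidHom.ofInjective hinj₀).toEquiv]
        exact AddSubgroup.card_addSubgroup_dvd_card _)
    have h1 : Nat.card F ≤ p ^ d - 1 := by
      rw [← hKd, ← Nat.card_units]
      exact Nat.card_le_card_of_injective ρ hρinj
    rw [hKd]
    congr 1
    by_contra hne
    have h2 : p ^ d * 3 ≤ p ^ f := by
      calc p ^ d * 3 ≤ p ^ d * p ^ 1 := by
            refine Nat.mul_le_mul_left _ ?_
            have := A.prime.two_le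
            have := A.ne_two
            rw [pow_one]; omega
        _ ≤ p ^ f := by rw [← pow_add]; exact Nat.pow_le_pow_right A.prime.pos (by omega)
    have := Nat.one_le_pow d p A.prime.pos
    omega
  have hbij₀ : Function.Bijective e₀ :=
    (Nat.bijective_iff_injective_and_card e₀).2 ⟨hinj₀, hcardK.trans hq.symm⟩
  -- the points
  let vec : K → G := fun k => ((Additive.toMul (e₀ k) : V) : G)
  have hvV : ∀ k, vec k ∈ V := fun k => (Additive.toMul (e₀ k) : V).2
  let ψ : K → Ω := fun k => vec k • b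
  have hψ0 : ψ 0 = b := by
    show ((Additive.toMul (e₀ 0) : V) : G) • b = b
    rw [map_zero]
    exact one_smul G b
  have hψadd : ∀ k l, vec k • ψ l = ψ (k + l) := fun k l => by
    show vec k • vec l • b = ((Additive.toMul (e₀ (k + l)) : V) : G) • b
    rw [← mul_smul, map_add]; rfl
  have hψinj : Function.Injective ψ := fun k l h => by
    refine hinj₀ (Additive.toMul.injective (Subtype.ext ?_))
    exact A.eq_of_smul_eq hab (hvV k) (hvV l) h
  have hψne : ∀ k, ψ k ≠ a := fun k h => hab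
    (MulAction.injective (vec k) ((A.fixes (hvV k)).trans h.symm))
  have hψsurj : ∀ c, c ≠ a → ∃ k, ψ k = c := fun c hc => by
    obtain ⟨v, hv, rfl⟩ := A.trans hab (Ne.symm hc)
    obtain ⟨k, hk⟩ := hbij₀.2 (Additive.ofMul ⟨v, hv⟩)
    exact ⟨k, by show ((Additive.toMul (e₀ k) : V) : G) • b = v • b; rw [hk]; rfl⟩
  have hψF : ∀ (y : F) (k : K), (y : G) • ψ k = ψ ((ρ y : K) * k) := fun y k => by
    show (y : G) • vec k • b = ((Additive.toMul (((ρ y : K) * k : K).1 w₀) : V) : G) • b
    rw [Subring.coe_mul, end_mul_apply, hρ,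
      show ((Additive.toMul (r ⟨y, hFL y.2⟩ ((k : AddMonoid.End (Additive V)) w₀)) : V) : G) =
        (y : G) * vec k * (y : G)⁻¹ from rfl,
      A.conj_smul hab (hFL y.2).1 (hFL y.2).2 (hvV k)]
  have hFa : ∀ y : F, (y : G) • a = a := fun y => (hFL y.2).1
  -- the involution
  have htb : t • b = a := by rw [← hta, ← mul_smul, ht, one_smul]
  have htψ : ∀ k : K, k ≠ 0 → ∃ l : K, l ≠ 0 ∧ t • ψ k = ψ l := fun k hk => by
    obtain ⟨l, hl⟩ := hψsurj (t • ψ k) (fun h => hk (hψinj ((MulAction.injective t (h.trans htb.symm)).trans hψ0.symm)))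
    refine ⟨l, fun h0 => hψne k (MulAction.injective t ?_), hl.symm⟩
    show t • ψ k = t • a
    rw [← hl, h0, hψ0, hta]
  obtain ⟨γ, hγ0, hγ⟩ := htψ 1 one_ne_zero
  have hnot : ∀ y : F, (ρ y : K) ≠ γ := fun y hy => by
    refine hswap (ψ 1) (hψne 1).symm (fun h => one_ne_zero (hψinj (h.symm.trans hψ0.symm))) ?_
    refine ⟨y, ?_⟩
    show (y : G) • ψ 1 = t • ψ 1
    rw [hψF, hγ, mul_one, hy]
  have hidx : ρ.range.index = 2 := by
    have h1 := ρ.range.card_mul_index
    rw [← Nat.card_congr (MonoidHom.ofInjective hρinj).toEquiv, Nat.card_units, hcardK] at h1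
    have h2 : Nat.card F * 2 = p ^ f - 1 := by omega
    rw [← h2] at h1
    exact Nat.eq_of_mul_eq_mul_left Nat.card_pos h1
  have hty : ∀ (y : F) (k l : K), t • ψ k = ψ l → t • ψ ((ρ y : K) * k) = ψ (((ρ y : K))⁻¹ * l) := fun y k l h => by
    rw [← hψF y k, ← mul_smul, show t * (y : G) = (y : G)⁻¹ * t by
      rw [← hinv y y.2, mul_assoc (t * (y : G)), ht, mul_one], mul_smul, h,
      show ((y : G)⁻¹) = ((y⁻¹ : F) : G) from rfl, hψF, map_inv, Units.val_inv_eq_inv_val]
  have ht1 : t • ψ γ = ψ 1 := by rw [← hγ, ← mul_smul, ht, one_smul]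
  have htk : ∀ k : K, k ≠ 0 → t • ψ k = ψ (γ / k) := fun k hk => by
    by_cases hm : Units.mk0 k hk ∈ ρ.range
    · obtain ⟨y, hy⟩ := hm
      have e := hty y 1 γ hγ
      rw [mul_one, show (ρ y : K) = k by rw [hy]; rfl] at e
      rw [e, inv_mul_eq_div]
    · have hγr : Units.mk0 γ hγ0 ∉ ρ.range := fun ⟨y, hy⟩ => hnot y (by rw [hy]; rfl)
      obtain ⟨y, hy⟩ : Units.mk0 k hk * (Units.mk0 γ hγ0)⁻¹ ∈ ρ.range :=
        (mul_mem_iff_of_index_two hidx).2 ⟨fun h => absurd h hm, fun h => absurd (by simpa using h) hγr⟩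
      have hy' : (ρ y : K) = k * γ⁻¹ := by rw [hy]; simp
      have e := hty y γ 1 ht1
      rw [hy', inv_mul_cancel_right₀ hγ0, mul_one, mul_inv_rev, inv_inv, ← div_eq_mul_inv] at e
      exact e
  -- the group acts by fractional linear maps
  have hfrac : ∀ g ∈ Subgroup.closure ((V : Set G) ∪ F ∪ {t}), IsFrac a ψ g := by
    intro g hg
    induction hg using Subgroup.closure_induction with
    | mem g hg =>
      rcases hg with (hg | hg) | hg
      · obtain ⟨m, hm⟩ := hbij₀.2 (Additive.ofMul ⟨g, hg⟩)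
        have hgm : g = vec m := by show g = ((Additive.toMul (e₀ m) : V) : G); rw [hm]; rfl
        refine ⟨1, m, 0, 1, by simp, fun u v _ => ?_⟩
        rw [one_mul, zero_mul, zero_add, one_mul, projPt, projPt]
        by_cases hv : v = 0
        · rw [if_pos hv, if_pos hv]; exact A.fixes hg
        · rw [if_neg hv, if_neg hv, hgm, hψadd, add_div, mul_div_assoc, div_self hv, mul_one, add_comm]
      · refine ⟨(ρ ⟨g, hg⟩ : K), 0, 0, 1, by simp, fun u v _ => ?_⟩
        rw [zero_mul, add_zero, zero_mul, zero_add, one_mul, projPt, projPt]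
        by_cases hv : v = 0
        · rw [if_pos hv, if_pos hv]; exact hFa ⟨g, hg⟩
        · rw [if_neg hv, if_neg hv, mul_div_assoc, ← hψF]
      · obtain rfl : g = t := hg
        refine ⟨0, γ, 1, 0, by simpa using hγ0, fun u v huv => ?_⟩
        rw [zero_mul, zero_add, one_mul, zero_mul, add_zero]
        by_cases hv : v = 0
        · rw [hv, projPt_zero, mul_zero, projPt, if_neg (huv.resolve_right (not_not.2 hv)), zero_div, hψ0, hta]
        · rw [projPt, if_neg hv]
          by_cases hu : u = 0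
          · rw [hu, zero_div, projPt_zero, hψ0, htb]
          · rw [projPt, if_neg hu, htk _ (div_ne_zero hu hv), div_div_eq_mul_div]
    | one => exact IsFrac.one
    | mul g h _ _ hg hh => exact hg.mul hh
    | inv g _ hg => exact hg.inv
  intro g hg c d e hcd hce hde hc hd he
  exact FaithfulSMul.eq_of_smul_eq_smul (α := Ω) fun z => by
    rw [one_smul]; exact (hfrac g hg).fix_all hψinj hψne hψsurj hcd hce hde hc hd he z

end CfsgLib.Wagner
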