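import Cfsg.Agent.Lib.Perm.Wagner.Setting

/-!
Owner: helper16. Wiring of S3255.

* `MainOn`: the two conclusions, group and points in one universe.
* `result_of_main`: the statement of S3255 in any universes.
-/

set_option autoImplicit false
set_option linter.style.haveILetI false

namespace CfsgLib.Wagner

open Subgroup MulAction

universe u v

/-- The two conclusions, group and points in one universe. -/
def MainOn : Prop :=
  ∀ (G : Type v) (Ω : Type v) [Group G] [Finite G] [Fintype Ω] [MulAction G Ω] [FaithfulSMul G Ω],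
    IsMultiplyPretransitive G Ω 3 → 3 ∣ Fintype.card Ω → 3 < Fintype.card Ω →
    ∀ H : Subgroup G, H.Normal → H ≠ ⊥ →
      TwoCol Ω H ∧ (Fintype.card Ω % 4 ≠ 2 → IsMultiplyPretransitive ↥H Ω 3 ∨
        ∃ N : Subgroup G, N ≤ H ∧ N.Normal ∧ ∃ (F : Type) (_ : Field F) (_ : Fintype F),
          Fintype.card F + 1 = Fintype.card Ω ∧ Nonempty (↥N ≃* Matrix.ProjectiveSpecialLinearGroup (Fin 2) F))

theorem card_quotient_le_two {G : Type u} [Group G] {Ω : Type v} [Finite Ω] [MulAction G Ω] (H : Subgroup G)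
    (h : ∀ r s t : Fin 3 ↪ Ω, (∃ m ∈ H, m • r = s) ∨ (∃ m ∈ H, m • r = t) ∨ ∃ m ∈ H, m • s = t) :
    Nat.card (orbitRel.Quotient ↥H (Fin 3 ↪ Ω)) ≤ 2 := by
  classical
  haveI : Finite (orbitRel.Quotient ↥H (Fin 3 ↪ Ω)) := Quotient.finite _
  haveI := Fintype.ofFinite (orbitRel.Quotient ↥H (Fin 3 ↪ Ω))
  by_contra hlt
  rw [Nat.card_eq_fintype_card, not_le] at hlt
  obtain ⟨a, b, c, hab, hac, hbc⟩ := Fintype.two_lt_card_iff.1 hlt
  induction a using Quotient.inductionOn with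
  | _ r =>
  induction b using Quotient.inductionOn with
  | _ s =>
  induction c using Quotient.inductionOn with
  | _ t =>
  rcases h r s t with ⟨m, hm, e⟩ | ⟨m, hm, e⟩ | ⟨m, hm, e⟩
  · exact hab (Quotient.sound ⟨(⟨m, hm⟩ : H)⁻¹, by rw [← e]; exact inv_smul_smul (⟨m, hm⟩ : H) r⟩)
  · exact hac (Quotient.sound ⟨(⟨m, hm⟩ : H)⁻¹, by rw [← e]; exact inv_smul_smul (⟨m, hm⟩ : H) r⟩)
  · exact hbc (Quotient.sound ⟨(⟨m, hm⟩ : H)⁻¹, by rw [← e]; exact inv_smul_smul (⟨m, hm⟩ : H) s⟩)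

/-- The statement of S3255. -/
theorem result_of_main (hmain : MainOn.{v}) {G : Type u} [Group G] [Finite G] {Ω : Type v} [Fintype Ω]
    [MulAction G Ω] [FaithfulSMul G Ω] (h3 : IsMultiplyPretransitive G Ω 3) (hΩ : 3 ∣ Fintype.card Ω)
    (hΩ3 : 3 < Fintype.card Ω) (H : Subgroup G) (hHn : H.Normal) (hH : H ≠ ⊥) :
    Nat.card (orbitRel.Quotient ↥H (Fin 3 ↪ Ω)) ≤ 2 ∧
      (Fintype.card Ω % 4 ≠ 2 → IsMultiplyPretransitive ↥H Ω 3 ∨
        ∃ (N : Subgroup ↥H) (F : Type) (_ : Field F) (_ : Fintype F), N.Normal ∧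
          Fintype.card F + 1 = Fintype.card Ω ∧
          Nonempty (↥N ≃* Matrix.ProjectiveSpecialLinearGroup (Fin 2) F)) := by
  let φ := MulAction.toPermHom G Ω
  have hφ : Function.Injective φ := fun g g' e =>
    FaithfulSMul.eq_of_smul_eq_smul fun x => Equiv.ext_iff.1 e x
  let e : G ≃* φ.range := MonoidHom.ofInjective hφ
  have he : ∀ (g : G) (x : Ω), e g • x = g • x := fun _ _ => rfl
  have hemb : ∀ (g : G) (t : Fin 3 ↪ Ω), e g • t = g • t := fun g t => by ext i; exact he g (t i)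
  haveI : IsPretransitive φ.range (Fin 3 ↪ Ω) := ⟨fun s t => by
    obtain ⟨g, hg⟩ := h3.exists_smul_eq s t
    exact ⟨e g, (hemb g s).trans hg⟩⟩
  have hH' : (H.map e.toMonoidHom).Normal := hHn.map _ e.surjective
  obtain ⟨hcol, hb⟩ := hmain φ.range Ω inferInstance hΩ hΩ3 (H.map e.toMonoidHom) hH'
    (fun h => hH ((map_eq_bot_iff_of_injective H e.injective).1 h))
  have hback : ∀ {s t : Fin 3 ↪ Ω}, Col (H.map e.toMonoidHom) s t → ∃ m ∈ H, m • s = t := by
    rintro s t ⟨_, ⟨m, hm, rfl⟩, h⟩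
    exact ⟨m, hm, (hemb m s).symm.trans h⟩
  refine ⟨card_quotient_le_two H fun r s t => (hcol r s t).imp hback (Or.imp hback hback), fun h4 => ?_⟩
  rcases hb h4 with h | ⟨N, hNH, hN, F, iF, iT, hF, ⟨f⟩⟩
  · refine Or.inl ⟨fun s t => ?_⟩
    obtain ⟨⟨_, m, hm, rfl⟩, h'⟩ := h.exists_smul_eq s t
    exact ⟨⟨m, hm⟩, (hemb m s).symm.trans h'⟩
  · have hle : N.comap e.toMonoidHom ≤ H := fun g hg => by
      obtain ⟨m, hm, h⟩ := hNH hg
      exact e.injective h ▸ hm
    refine Or.inr ⟨(N.comap e.toMonoidHom).subgroupOf H, F, iF, iT, (hN.comap _).subgroupOf H, hF,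
      ⟨((subgroupOfEquivOfLe hle).trans ((equivMapOfInjective _ e.toMonoidHom e.injective).trans
        (MulEquiv.subgroupCongr (map_comap_eq_self_of_surjective e.surjective N)))).trans f⟩⟩

end CfsgLib.Wagner
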