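import Cfsg.Agent.Lib.Perm.Wagner.HalfFix
import Cfsg.Agent.Lib.Perm.Wagner.Coordinates
import Cfsg.Agent.S0514

/-!
Owner: helper12. S3255 (Wagner), part (b): the conclusion.

* `Frame.torus_inverted`: `t` inverts `fit2`, by the normal 2-complement of its centraliser.
* `Frame.stab3_eq_bot`: `M` acts by fractional linear maps, so `stab3` is trivial.
* `Half.psl`: `M ≅ PSL(2, q)` with `q + 1` points.
* `triply_or_psl`: the second conclusion of S3255 for `M`.
-/

set_option autoImplicit false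
set_option linter.unusedSectionVars false

namespace CfsgLib.Wagner

open Subgroup MulAction

universe u

variable {G : Type u} [Group G] [Finite G] {Ω : Type u} [Fintype Ω] [MulAction G Ω] [FaithfulSMul G Ω]

namespace Frame

variable {M : Subgroup G} {p f : ℕ} {t₀ : Fin 3 ↪ Ω} {t : G} (D : Frame Ω M p f t₀ t)
include D

/-- Only the identity of the torus commutes with the involution. -/
theorem torus_free {d : G} (hd : d ∈ fit2 M (t₀ 0) (t₀ 1)) (hdt : t * d = d * t) : d = 1 := by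
  classical
  haveI := D.ctx.normal
  haveI : Fact (Nat.Prime 2) := ⟨Nat.prime_two⟩
  set a := t₀ 0 with ha0
  set b := t₀ 1 with hb0
  set F := fit2 M a b with hF
  by_contra hd1
  -- an element of prime order
  set D₁ : Subgroup G := F ⊓ centralizer ({t} : Set G) with hD₁
  have hdD : d ∈ D₁ := ⟨hd, mem_centralizer_singleton_iff.2 hdt.symm⟩
  obtain ⟨r, hr, hrd⟩ := Nat.exists_prime_and_dvd (n := Nat.card D₁) fun h1 => hd1 <| by
    rw [Subgroup.card_eq_one] at h1
    rw [h1, mem_bot] at hdD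
    exact hdD
  haveI := Fact.mk hr
  obtain ⟨⟨e, heF, het⟩, he⟩ := exists_prime_orderOf_dvd_card' (G := D₁) r hrd
  have heo : orderOf e = r := by rw [← he, ← Subgroup.orderOf_coe]
  obtain ⟨heM, hea, heb⟩ := mem_stab2.1 (fit2_le M a b heF)
  have hrk : r ∣ Nat.card F := heo ▸ F.orderOf_dvd_natCard heF
  have hrodd : Odd r := D.two_card.2.of_dvd_nat hrk
  have hrn : r ∣ Fintype.card Ω - 2 := D.two_card.1 ▸ hrk.mul_left 2
  have he1 : e ≠ 1 := fun h => hr.one_lt.ne (by rw [← heo, h, orderOf_one])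
  -- the centraliser of `t`
  set tM : M := ⟨t, D.mem⟩ with htM
  have ht1 : t ≠ 1 := fun h => D.ne01 (by
    have h' := D.map0
    rwa [h, one_smul] at h')
  have htord : orderOf tM = 2 := orderOf_eq_prime
    (Subtype.ext (show t ^ 2 = 1 by rw [pow_two, D.invol])) fun h => ht1 (congrArg Subtype.val h)
  obtain ⟨S, hS⟩ := IsPGroup.exists_le_sylow (p := 2) (P := zpowers tM)
    (IsPGroup.of_card (n := 1) (by rw [Nat.card_zpowers, htord, pow_one]))
  obtain ⟨n, hn, hiso⟩ := D.sylow_dihedral S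
  have h0514 := Cfsg.Agent.S0514.result S n hn hiso tM htord
  set C := centralizer ({tM} : Set M) with hC
  obtain ⟨O, hO, hOodd, i, hOi⟩ := h0514
  haveI := hO
  -- four divides the order of the centraliser
  have h4 : 4 ∣ Nat.card C := by
    set Q : Subgroup M := C ⊓ S with hQ
    have htQ : tM ∈ Q := ⟨mem_centralizer_singleton_iff.2 rfl, hS (mem_zpowers _)⟩
    obtain ⟨l, hl⟩ := IsPGroup.iff_card.1 (S.isPGroup'.to_le (inf_le_right : Q ≤ S))
    suffices h2 : 2 ≤ l from (hl ▸ (Nat.pow_dvd_pow 2 h2) : 4 ∣ Nat.card Q).trans (card_dvd_of_le inf_le_left)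
    by_contra hlt
    have hQz : Q = zpowers tM := (eq_of_le_of_card_ge (zpowers_le.2 htQ) (by
      rw [hl, Nat.card_zpowers, htord]
      calc 2 ^ l ≤ 2 ^ 1 := Nat.pow_le_pow_right (by omega) (by omega)
        _ = 2 := pow_one 2)).symm
    obtain ⟨δ⟩ := hiso
    have hScard : 4 ≤ Nat.card (S : Subgroup M) := by
      rw [Nat.card_congr δ.toEquiv, DihedralGroup.nat_card]; omega
    haveI : Nontrivial (S : Subgroup M) := Finite.one_lt_card_iff_nontrivial.1 (by omega)
    haveI := S.isPGroup'.center_nontrivial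
    obtain ⟨z, hz⟩ := exists_ne (1 : center (S : Subgroup M))
    have hzc : ∀ s : (S : Subgroup M), (z : (S : Subgroup M)) * s = s * z := fun s => (mem_center_iff.1 z.2 s).symm
    have hzQ : (((z : (S : Subgroup M))) : M) ∈ Q := ⟨mem_centralizer_singleton_iff.2
      (congrArg Subtype.val (hzc ⟨tM, hS (mem_zpowers _)⟩)), (z : (S : Subgroup M)).2⟩
    rw [hQz] at hzQ
    obtain ⟨m, hm⟩ := mem_zpowers_iff.1 hzQ
    have htt : tM ^ (2 : ℤ) = 1 := by
      rw [zpow_two]; exact Subtype.ext D.invol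
    have hzt : (((z : (S : Subgroup M))) : M) = tM := by
      rcases Int.even_or_odd m with ⟨j, hj⟩ | ⟨j, hj⟩
      · refine absurd (Subtype.ext (Subtype.ext ?_)) hz
        rw [← hm, hj, ← two_mul, zpow_mul, htt, one_zpow]; rfl
      · rw [← hm, hj, zpow_add, zpow_mul, htt, one_zpow, one_mul, zpow_one]
    have hSC : (S : Subgroup M) ≤ Q := fun s hs => ⟨mem_centralizer_singleton_iff.2 <| by
      have h := congrArg Subtype.val (hzc ⟨s, hs⟩)
      simp only [Subgroup.coe_mul] at h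
      rw [hzt] at h
      exact h.symm, hs⟩
    have := Nat.le_of_dvd Nat.card_pos (card_dvd_of_le hSC)
    rw [hQz, Nat.card_zpowers, htord] at this
    omega
  -- the odd core
  let eC : C := ⟨⟨e, heM⟩, mem_centralizer_singleton_iff.2 (Subtype.ext (mem_centralizer_singleton_iff.1 het))⟩
  have heCo : orderOf eC = r := by rw [← heo, ← Subgroup.orderOf_coe, ← Subgroup.orderOf_coe]
  have heO : eC ∈ O := by
    rw [← QuotientGroup.eq_one_iff, ← orderOf_eq_one_iff]
    refine Nat.eq_one_of_dvd_coprimes (Nat.Coprime.pow_right i (Nat.coprime_two_right.2 hrodd))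
      (heCo ▸ orderOf_map_dvd (QuotientGroup.mk' O) eC) ?_
    rw [← hOi, Subgroup.index_eq_card]
    exact orderOf_dvd_natCard _
  obtain ⟨R, hR⟩ := IsPGroup.exists_le_sylow (p := r) (P := zpowers (⟨eC, heO⟩ : O))
    (IsPGroup.of_card (n := 1) (by rw [Nat.card_zpowers, ← Subgroup.orderOf_coe, heCo, pow_one]))
  set RC : Subgroup C := (R : Subgroup O).map O.subtype with hRC
  set N := normalizer (RC : Set C) with hN
  have hFr : N ⊔ O = ⊤ := Sylow.normalizer_sup_eq_top R
  have hdvdN : 4 ∣ Nat.card N := by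
    let φ : N →* C ⧸ O := (QuotientGroup.mk' O).comp N.subtype
    have hφ : Function.Surjective φ := by
      intro q
      obtain ⟨g, rfl⟩ := QuotientGroup.mk'_surjective O q
      obtain ⟨x, hx, o, ho, rfl⟩ := Subgroup.mem_sup_of_normal_right.1 (hFr ▸ mem_top g : g ∈ N ⊔ O)
      refine ⟨⟨x, hx⟩, ?_⟩
      show QuotientGroup.mk' O x = QuotientGroup.mk' O (x * o)
      rw [map_mul, show QuotientGroup.mk' O o = 1 from (QuotientGroup.eq_one_iff o).2 ho, mul_one]
    refine (?_ : 4 ∣ O.index).trans (O.index_eq_card ▸ Subgroup.card_dvd_of_surjective φ hφ)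
    refine Nat.Coprime.dvd_of_dvd_mul_right ?_ (show 4 ∣ O.index * Nat.card O by rw [index_mul_card]; exact h4)
    exact Nat.Coprime.pow_left 2 (Nat.coprime_two_left.2 hOodd)
  -- the fixed points of `R`
  let ι : C →* G := M.subtype.comp C.subtype
  have hι : Function.Injective ι := M.subtype_injective.comp C.subtype_injective
  set RG : Subgroup G := RC.map ι with hRG
  have hRp : IsPGroup r RG := ((R.isPGroup'.map _).map _)
  have heR : e ∈ RG := mem_map_of_mem ι (mem_map_of_mem O.subtype (hR (mem_zpowers _)))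
  have hsub : fixedPoints RG Ω ⊆ ({a, b} : Set Ω) := by
    intro x hx
    by_contra hne
    simp only [Set.mem_insert_iff, Set.mem_singleton_iff, not_or] at hne
    exact he1 ((D.core a b D.ne01).free e heF x (Ne.symm hne.1) (Ne.symm hne.2) (hx ⟨e, heR⟩))
  have hFix : fixedPoints RG Ω = ({a, b} : Set Ω) := by
    refine Set.eq_of_subset_of_ncard_le hsub ?_ (Set.toFinite _)
    rw [Set.ncard_pair D.ne01]
    by_contra hlt
    push Not at hlt
    have h2n : 2 ≤ Fintype.card Ω := by have := D.ctx.three_lt; omega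
    have h1 := (fixed_modEq (Ω := Ω) hRp).symm.trans ((Nat.modEq_iff_dvd' h2n).2 hrn).symm
    rw [Nat.card_coe_set_eq] at h1
    have h3 := (Nat.modEq_iff_dvd' (by omega)).1 h1
    have hr3 : 3 ≤ r := by
      obtain ⟨j, hj⟩ := hrodd
      have := hr.two_le
      omega
    have := Nat.le_of_dvd (by omega) h3
    omega
  -- the normaliser preserves them
  set H : Subgroup G := N.map ι with hH
  have hHab : ∀ g ∈ H, g • a = a ∨ g • a = b := by
    rintro _ ⟨g, hg, rfl⟩
    have : ι g • a ∈ fixedPoints RG Ω := by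
      intro ⟨y, hy⟩
      obtain ⟨y', hy', rfl⟩ := hy
      have h' : g⁻¹ * y' * g ∈ RC := by
        have := (mem_normalizer_iff.1 (inv_mem hg) y').1 hy'
        rwa [inv_inv] at this
      have ha' : ι (g⁻¹ * y' * g) • a = a :=
        (hFix.symm ▸ (Or.inl rfl : a ∈ ({a, b} : Set Ω)) : a ∈ fixedPoints RG Ω) ⟨_, mem_map_of_mem ι h'⟩
      show ι y' • ι g • a = ι g • a
      rw [map_mul, map_mul, map_inv, mul_smul, mul_smul, inv_smul_eq_iff] at ha'
      exact ha'
    rw [hFix] at this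
    exact this
  have hH4 : 4 ∣ Nat.card H := by rwa [card_map_of_injective hι]
  have horb : orbit H a ⊆ ({a, b} : Set Ω) := by
    rintro _ ⟨⟨g, hg⟩, rfl⟩
    exact hHab g hg
  have hst : Odd (Nat.card (stabilizer H a)) := by
    refine (D.half.odd_stab1 a).of_dvd_nat ?_
    rw [← card_map_of_injective (K := stabilizer H a) H.subtype_injective]
    refine card_dvd_of_le ?_
    rintro _ ⟨⟨g, hg⟩, hst', rfl⟩
    have hga : g • a = a := hst'
    obtain ⟨g', -, hg'⟩ := hg
    exact ⟨hg' ▸ ((g' : M)).2, hga⟩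
  have hprod := Nat.card_congr (MulAction.orbitProdStabilizerEquivGroup H a)
  rw [Nat.card_prod] at hprod
  have hle : Nat.card (orbit H a) ≤ 2 := by
    rw [Nat.card_coe_set_eq]
    exact (Set.ncard_le_ncard horb).trans (Set.ncard_pair D.ne01).le
  have hdvd : 4 ∣ Nat.card (orbit H a) := by
    rw [← hprod] at hH4
    exact (Nat.Coprime.pow_left 2 (Nat.coprime_two_left.2 hst)).dvd_of_dvd_mul_right hH4
  haveI : Nonempty (orbit H a) := ⟨⟨a, mem_orbit_self a⟩⟩
  have := Nat.le_of_dvd Nat.card_pos hdvd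
  omega

/-- The involution inverts the torus. -/
theorem torus_inverted : ∀ y ∈ fit2 M (t₀ 0) (t₀ 1), t * y * t = y⁻¹ := by
  haveI := D.ctx.normal
  intro y hy
  haveI := (D.core _ _ D.ne01).cyclic
  have hy' : t * y * t ∈ fit2 M (t₀ 0) (t₀ 1) := by
    have h := conj_mem_fit2 (M := M) hy t
    rw [D.map0, D.map1, D.t_inv, fit2_comm] at h
    exact h
  have hc : t * y * t * y = y * (t * y * t) := by
    letI := IsCyclic.commGroup (α := fit2 M (t₀ 0) (t₀ 1))
    exact congrArg Subtype.val (mul_comm (⟨_, hy'⟩ : fit2 M (t₀ 0) (t₀ 1)) ⟨y, hy⟩)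
  have h1 : y * (t * y * t) = 1 := D.torus_free (mul_mem hy hy') <| by
    rw [show y * (t * y * t) * t = y * t * y * (t * t) by group, D.invol, mul_one, ← hc,
      show t * (t * y * t * y) = t * t * y * t * y by group, D.invol, one_mul]
  exact eq_inv_of_mul_eq_one_right h1

theorem stab3_eq_bot : stab3 M t₀ = ⊥ := by
  classical
  haveI := D.ctx.normal
  haveI := D.ctx.simple
  set a := t₀ 0 with ha0
  set b := t₀ 1 with hb0
  have hab : a ≠ b := D.ne01
  obtain ⟨V, A⟩ := D.aff a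
  set F := fit2 M a b with hF
  set M₀ := Subgroup.closure ((V : Set G) ∪ F ∪ {t}) with hM₀
  have hfix := closure_fix_three D.ctx A hab (fit2_le M a b) (D.core a b hab).cyclic
    (fun g hga hgb y hy => by simpa [hga, hgb] using conj_mem_fit2 (M := M) hy g)
    (by rw [← D.two_card.1, ← A.degree]; have := A.one_lt; omega)
    D.invol D.map0 D.torus_inverted (fun c hac hbc => D.swap hac hbc)
  have hVle : V ≤ M₀ := fun v hv => subset_closure (Or.inl (Or.inl hv))
  have hFle : F ≤ M₀ := fun v hv => subset_closure (Or.inl (Or.inr hv))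
  have htle : t ∈ M₀ := subset_closure (Or.inr rfl)
  have hM₀M : M₀ ≤ M := (closure_le M).2 <| Set.union_subset (Set.union_subset A.le
    (fun y hy => (mem_stab2.1 (fit2_le M a b hy)).1)) (Set.singleton_subset_iff.2 D.mem)
  -- `stab3` normalises
  have hU : stab3 M t₀ ≤ normalizer (M₀ : Set G) := by
    intro u hu
    obtain ⟨-, hua₀, hub₀, -⟩ := mem_stab3.1 hu
    have hua : u • a = a := hua₀
    have hub : u • b = b := hub₀
    refine mem_normalizer_iff_map_conj_eq.2 (eq_of_le_of_card_ge ?_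
      (card_map_of_injective (MulAut.conj u).injective).ge)
    rw [hM₀, MonoidHom.map_closure, closure_le]
    rintro _ ⟨g, (hg | hg) | hg, rfl⟩
    · exact subset_closure (Or.inl (Or.inl (A.norm u hua g hg)))
    · exact subset_closure (Or.inl (Or.inr
        (show u * g * u⁻¹ ∈ F by simpa [hua, hub] using conj_mem_fit2 (M := M) hg u)))
    · rw [Set.mem_singleton_iff.1 hg]
      refine subset_closure (Or.inr ?_)
      show u * t * u⁻¹ = t
      rw [← D.comm u hu, mul_inv_cancel_right]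
  have hself : M₀ ≤ normalizer (M₀ : Set G) := Subgroup.le_normalizer
  -- all of `M` normalises
  have hMn : M ≤ normalizer (M₀ : Set G) := by
    have hstab : ∀ g ∈ M, g • a = a → g ∈ normalizer (M₀ : Set G) := by
      intro g hg hga
      have hgb : a ≠ g • b := fun e => hab (MulAction.injective g (hga.trans e))
      obtain ⟨v, hv, hvb⟩ := A.trans hab hgb
      have hh : v⁻¹ * g ∈ stab2 M a b := mem_stab2.2 ⟨mul_mem (inv_mem (A.le hv)) hg,
        by rw [mul_smul, hga, inv_smul_eq_iff]; exact (A.fixes hv).symm,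
        by rw [mul_smul, inv_smul_eq_iff, hvb]⟩
      obtain ⟨⟨y, hy⟩, hye⟩ : (v⁻¹ * g) • t₀ 2 ∈ orbit F (t₀ 2) := by
        rw [D.orbit_fit2 (trip_ne t₀ (by decide)) (trip_ne t₀ (by decide))]
        exact ⟨⟨_, hh⟩, rfl⟩
      have hye' : y • t₀ 2 = (v⁻¹ * g) • t₀ 2 := hye
      obtain ⟨h1, h2, h3⟩ := mem_stab2.1 hh
      obtain ⟨hyM, hya, hyb⟩ := mem_stab2.1 (fit2_le M a b hy)
      have hu : y⁻¹ * (v⁻¹ * g) ∈ stab3 M t₀ := mem_stab3.2 ⟨mul_mem (inv_mem hyM) h1,
        by rw [mul_smul, h2, inv_smul_eq_iff, hya], by rw [mul_smul, h3, inv_smul_eq_iff, hyb],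
        by rw [mul_smul, ← hye', inv_smul_smul]⟩
      have := mul_mem (mul_mem (hself (hVle hv)) (hself (hFle hy))) (hU hu)
      rwa [show v * y * (y⁻¹ * (v⁻¹ * g)) = g by group] at this
    intro g hg
    rcases eq_or_ne (g • a) a with hga | hga
    · exact hstab g hg hga
    obtain ⟨v, hv, hvb⟩ := A.trans hab (Ne.symm hga)
    have h := hstab ((v * t)⁻¹ * g) (mul_mem (inv_mem (mul_mem (A.le hv) D.mem)) hg) (by
      rw [mul_smul, inv_smul_eq_iff, mul_smul, D.map0, hvb])
    have := mul_mem (hself (mul_mem (hVle hv) htle)) h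
    rwa [show v * t * ((v * t)⁻¹ * g) = g by group] at this
  haveI hn : (M₀.subgroupOf M).Normal := ⟨fun y hy g => mem_subgroupOf.2
    ((mem_normalizer_iff.1 (hMn g.2) y).1 (mem_subgroupOf.1 hy))⟩
  have hMle : M ≤ M₀ := by
    rcases IsSimpleGroup.eq_bot_or_eq_top_of_normal (M₀.subgroupOf M) hn with h | h
    · exfalso
      have : (⟨t, D.mem⟩ : M) ∈ M₀.subgroupOf M := mem_subgroupOf.2 htle
      rw [h, mem_bot] at this
      have h' := D.map0
      rw [show t = 1 from congrArg Subtype.val this, one_smul] at h'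
      exact hab h'
    · exact fun g hg => mem_subgroupOf.1 (h ▸ mem_top (⟨g, hg⟩ : M) : (⟨g, hg⟩ : M) ∈ M₀.subgroupOf M)
  refine (Subgroup.eq_bot_iff_forall _).2 fun u hu => ?_
  obtain ⟨huM, hua, hub, huc⟩ := mem_stab3.1 hu
  exact hfix u (hMle huM) a b (t₀ 2) hab (trip_ne t₀ (by decide)) (trip_ne t₀ (by decide)) hua hub huc

end Frame

theorem Half.psl {M : Subgroup G} (hH : Half Ω M) : ∃ (K : Type) (_ : Field K) (_ : Fintype K),
    Fintype.card K + 1 = Fintype.card Ω ∧ Nonempty (M ≃* Matrix.ProjectiveSpecialLinearGroup (Fin 2) K) := by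
  classical
  obtain ⟨p, f, t₀, t, D⟩ := hH.exists_frame
  haveI := D.ctx.normal
  obtain ⟨V, A⟩ := D.aff (t₀ 0)
  have hU := D.stab3_eq_bot
  have hZ := isZassenhaus_of_stab3 D.ctx D.aff D.core D.f_odd t₀ hU
  have hab := D.ne01
  have hclass := CfsgLib.Perm.zass_abelian_kernel_classify hZ (t₀ 0) (V.subgroupOf M)
    (fun v hv => A.fixes (mem_subgroupOf.1 hv))
    ⟨⟨fun v w => Subtype.ext (Subtype.ext (A.comm _ (mem_subgroupOf.1 v.2) _ (mem_subgroupOf.1 w.2)))⟩⟩
    (fun y z hy hz => by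
      obtain ⟨v, hv, he⟩ := A.trans (Ne.symm hy) (Ne.symm hz)
      refine ⟨⟨⟨v, A.le hv⟩, mem_subgroupOf.2 hv⟩, he, fun w hw => ?_⟩
      have hw' : ((w : M) : G) • y = z := hw
      exact Subtype.ext (Subtype.ext (A.eq_of_smul_eq (Ne.symm hy) (mem_subgroupOf.1 w.2) hv (hw'.trans he.symm))))
  rcases hclass with ⟨h3, -⟩ | ⟨K, iK, iKt, hK, ⟨ε⟩⟩
  · exfalso
    obtain ⟨r, s, hrs⟩ := hH.ne
    obtain ⟨m, hm⟩ := h3.exists_smul_eq r s
    exact hrs ⟨m, m.2, hm⟩
  refine ⟨K, iK, iKt, ?_, ⟨ε⟩⟩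
  obtain ⟨j, hj⟩ : Odd (Fintype.card K) := by
    rw [← Nat.not_even_iff_odd, even_iff_two_dvd]
    exact fun h => hK (FiniteField.even_card_iff_char_two.2 (Nat.mod_eq_zero_of_dvd h))
  have hc := CfsgLib.Classical.Two.card_PSL_two (F := K)
  rw [hj, Nat.add_sub_cancel, Nat.gcd_eq_left (dvd_mul_right 2 j), ← Nat.card_congr ε.toEquiv,
    card_eq_mul_stab2 D.ctx.trans2 hab] at hc
  have hN : Nat.card (stab2 M (t₀ 0) (t₀ 1)) = Nat.card (fit2 M (t₀ 0) (t₀ 1)) := by
    have h := (card_trip D.ctx D.aff D.core D.f_odd t₀).2.1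
    rw [hU, card_bot, mul_one] at h
    exact h
  obtain ⟨h2k, -⟩ := D.two_card
  rw [hN] at hc
  set k := Nat.card (fit2 M (t₀ 0) (t₀ 1))
  have hn3 := D.ctx.three_lt
  rw [show Fintype.card Ω = 2 * k + 2 by omega, show 2 * k + 2 - 1 = 2 * k + 1 by omega] at hc
  have hsq : ∀ x : ℕ, (2 * x + 1) ^ 2 - 1 = 4 * x * (x + 1) := fun x => by
    rw [Nat.sub_eq_of_eq_add]; ring
  rw [hsq] at hc
  have hmono : StrictMono fun x : ℕ => (2 * x + 1) * (4 * x * (x + 1)) := fun x y hxy => by
    refine Nat.mul_lt_mul_of_lt_of_le (by omega) ?_ (Nat.mul_pos (by omega) (by omega))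
    exact Nat.mul_le_mul (Nat.mul_le_mul le_rfl hxy.le) (by omega)
  have hjk : j = k := hmono.injective
    (show (2 * j + 1) * (4 * j * (j + 1)) = (2 * k + 1) * (4 * k * (k + 1)) by rw [← hc]; ring)
  omega

/-- The second conclusion of S3255 for `M`. -/
theorem triply_or_psl {M : Subgroup G} (hC : Ctx Ω M) (hM : TwoCol Ω M) (h4 : Fintype.card Ω % 4 ≠ 2) :
    IsMultiplyPretransitive M Ω 3 ∨ ∃ (K : Type) (_ : Field K) (_ : Fintype K),
      Fintype.card K + 1 = Fintype.card Ω ∧ Nonempty (M ≃* Matrix.ProjectiveSpecialLinearGroup (Fin 2) K) := by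
  by_cases hne : ∃ r s : Fin 3 ↪ Ω, ¬ Col M r s
  · exact Or.inr (Half.psl ⟨hC, hM, hne, h4⟩)
  · push Not at hne
    refine Or.inl ⟨fun r s => ?_⟩
    obtain ⟨m, hm, he⟩ := hne r s
    exact ⟨⟨m, hm⟩, he⟩

end CfsgLib.Wagner
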