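import Cfsg.Agent.Lib.Perm.Wagner.Main
import Cfsg.Agent.Lib.Perm.Wagner.HalfMain
import Cfsg.Agent.Lib.Perm.Wagner.Final

/-!
Owner: helper12. S3255 (Wagner): both conclusions, given the classification of the simple groups of order prime
to three.

* `mainOn_of_goal`.
-/

set_option autoImplicit false

namespace CfsgLib.Wagner

open Subgroup MulAction

universe v

theorem mainOn_of_goal (hgoal : CfsgLib.ThreePrime.Goal.{v}) : MainOn.{v} := by
  intro G Ω _ _ _ _ _ h3 hd hn H hH hH1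
  refine ⟨twoCol_normal hgoal h3 hd hn H hH hH1, fun h4 => ?_⟩
  obtain ⟨M, hMH, hC⟩ := exists_ctx h3 hd hn H hH hH1
  haveI := hC.normal
  rcases triply_or_psl hC (twoCol_normal hgoal h3 hd hn M hC.normal (fun h => hC.nonab
      (h ▸ ⟨⟨fun x y => Subsingleton.elim _ _⟩⟩))) h4 with h | ⟨K, iK, iKt, hK, hiso⟩
  · refine Or.inl ⟨fun r s => ?_⟩
    obtain ⟨⟨m, hm⟩, he⟩ := h.exists_smul_eq r s
    exact ⟨⟨m, hMH hm⟩, he⟩
  · exact Or.inr ⟨M, hMH, hC.normal, K, iK, iKt, hK, hiso⟩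

end CfsgLib.Wagner
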