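import Cfsg.Agent.Lib.Perm.Wagner.TwoPointCore
import Cfsg.Agent.Lib.Fusion.ConstrainedNormal

/-!
Owner: helper12. S3255 (Wagner), a point stabiliser with translations: the transfer.

* `ActPow M a b u e`: `u` raises the elements of `fit2 M a b` to the power `e`; the same on every pair it fixes.
* `pow_mem_fit2`: `u ^ (n (n - 1))` is in `fit2 M a b`.
* `Frame M a b`: `stab2` is `fit2` by a complement `stab3` of coprime order, `fit2` semiregular.
-/

set_option autoImplicit false
set_option linter.unusedSectionVars false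

namespace CfsgLib.Wagner

open Subgroup MulAction

universe u

variable {G : Type u} [Group G] [Finite G] {Ω : Type u} [Fintype Ω] [MulAction G Ω]

/-- `u` acts on the Fitting subgroup as the power `e`. -/
def ActPow (M : Subgroup G) (a b : Ω) (u : G) (e : ℤ) : Prop := ∀ y ∈ fit2 M a b, u * y * u⁻¹ = y ^ e

theorem ActPow.symm {M : Subgroup G} {a b : Ω} {u : G} {e : ℤ} (h : ActPow M a b u e) : ActPow M b a u e :=
  fun y hy => h y (fit2_comm M a b ▸ hy)

theorem ActPow.conj {M : Subgroup G} [M.Normal] {a b : Ω} {u : G} {e : ℤ} (h : ActPow M a b u e) (g : G) :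
    ActPow M (g • a) (g • b) (g * u * g⁻¹) e := by
  intro y hy
  obtain ⟨z, hz, rfl⟩ := (map_conj_fit2 (M := M) a b g).ge hy
  show g * u * g⁻¹ * (g * z * g⁻¹) * (g * u * g⁻¹)⁻¹ = (g * z * g⁻¹) ^ e
  rw [show g * u * g⁻¹ * (g * z * g⁻¹) * (g * u * g⁻¹)⁻¹ = g * (u * z * u⁻¹) * g⁻¹ by group, h z hz, conj_zpow]

theorem card_eq_mul_stab2 {M : Subgroup G} (h2 : IsMultiplyPretransitive M Ω 2) {a b : Ω} (hab : a ≠ b) :
    Nat.card M = Fintype.card Ω * ((Fintype.card Ω - 1) * Nat.card (stab2 M a b)) := by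
  classical
  haveI := h2
  haveI : IsPretransitive M Ω := isPretransitive_of_is_two_pretransitive
  rw [← card_stab1_eq h2 hab, ← Nat.card_eq_fintype_card, ← index_stabilizer_of_transitive M a,
    show Nat.card (M ⊓ stabilizer G a : Subgroup G) = Nat.card (stabilizer M a) from Nat.card_congr
      { toFun := fun g => ⟨⟨g.1, g.2.1⟩, g.2.2⟩
        invFun := fun g => ⟨g.1.1, g.1.2, g.2⟩
        left_inv := fun g => rfl
        right_inv := fun g => rfl }]
  exact (index_mul_card _).symm

variable [FaithfulSMul G Ω] {M : Subgroup G} {p f : ℕ} (hA : ∀ a : Ω, ∃ V, Aff M a V p f)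
include hA

theorem ActPow.translate [M.Normal] {a b c : Ω} (hab : a ≠ b) (hac : a ≠ c) {u : G} (ha : u • a = a)
    (hb : u • b = b) (hc : u • c = c) {e : ℤ} (h : ActPow M a b u e) : ActPow M a c u e := by
  obtain ⟨V, A⟩ := hA a
  obtain ⟨v, hv, rfl⟩ := A.trans hab hac
  have hcomm : u * v * u⁻¹ = v := A.eq_of_smul_eq hab (A.norm u ha v hv) hv ((A.conj_smul hab ha hb hv).trans hc)
  have he : v * u * v⁻¹ = u := by
    nth_rewrite 1 [← hcomm]
    group
  have h' := h.conj v
  rwa [show v • a = a from A.fixes hv, he] at h'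

/-- The power does not depend on the pair of fixed points. -/
theorem ActPow.any_pair [M.Normal] {a b c d : Ω} (hab : a ≠ b) (hcd : c ≠ d) {u : G} (ha : u • a = a)
    (hb : u • b = b) (hc : u • c = c) (hd : u • d = d) {e : ℤ} (h : ActPow M a b u e) : ActPow M c d u e := by
  rcases eq_or_ne a c with rfl | hac
  · exact h.translate hA hab hcd ha hb hd
  · exact (h.translate hA hab hac ha hb hc).symm.translate hA hac.symm hcd hc ha hd

variable (hC : Ctx Ω M) {a b : Ω} (hab : a ≠ b) (hK : Core M a b f)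
include hC hab hK

omit hA in
theorem exists_actPow {u : G} (ha : u • a = a) (hb : u • b = b) : ∃ e : ℤ, ActPow M a b u e := by
  haveI := hC.normal
  haveI := hK.cyclic
  let σ : fit2 M a b →* fit2 M a b :=
    { toFun := fun y => ⟨u * y * u⁻¹, by simpa [ha, hb] using conj_mem_fit2 y.2 u⟩
      map_one' := Subtype.ext (by simp)
      map_mul' := fun y z => Subtype.ext (by simp [mul_assoc]) }
  obtain ⟨m, hm⟩ := MonoidHom.map_cyclic σ
  exact ⟨m, fun y hy => congrArg Subtype.val (hm ⟨y, hy⟩)⟩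

theorem pow_mem_fit2 {u : G} (hu : u ∈ stab2 M a b) :
    u ^ (Fintype.card Ω * (Fintype.card Ω - 1)) ∈ fit2 M a b := by
  classical
  haveI := hC.normal
  haveI := hC.simple
  haveI := hK.cyclic
  set n := Fintype.card Ω
  set F := fit2 M a b with hF
  letI : CommGroup (MulAut F) :=
    { (inferInstance : Group (MulAut F)) with
      mul_comm := fun σ τ => MulEquiv.ext fun y => by
        obtain ⟨i, hi⟩ := MonoidHom.map_cyclic σ.toMonoidHom
        obtain ⟨j, hj⟩ := MonoidHom.map_cyclic τ.toMonoidHom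
        show σ (τ y) = τ (σ y)
        rw [show σ (τ y) = (τ y) ^ i from hi _, show τ (σ y) = (σ y) ^ j from hj _,
          show τ y = y ^ j from hj _, show σ y = y ^ i from hi _, ← zpow_mul, ← zpow_mul, mul_comm] }
  set H : Subgroup M := (stab2 M a b).subgroupOf M with hH
  have hHn : ∀ h : H, ((h : M) : G) ∈ normalizer (F : Set G) := fun h => by
    obtain ⟨-, h1, h2⟩ := mem_stab2.1 (mem_subgroupOf.1 h.2)
    exact mem_normalizer_iff_map_conj_eq.2 ((map_conj_fit2 a b _).trans (by rw [hF, h1, h2]))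
  let ι : H →* normalizer (F : Set G) :=
    { toFun := fun h => ⟨((h : M) : G), hHn h⟩
      map_one' := rfl
      map_mul' := fun _ _ => rfl }
  let φ : H →* MulAut F := F.normalizerMonoidHom.comp ι
  have hφ : ∀ (h : H) (y : F), ((φ h y : F) : G) = ((h : M) : G) * y * ((h : M) : G)⁻¹ := fun h y => rfl
  have hle : stab2 M a b ≤ M := fun g hg => (mem_stab2.1 hg).1
  set z : H := ⟨⟨u, hle hu⟩, mem_subgroupOf.2 hu⟩ with hz
  have hkey : ∀ (k : ℕ) (g : M) (hm : g⁻¹ * (z : M) ^ k * g ∈ H), φ ⟨_, hm⟩ = φ z ^ k := by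
    intro k g hm
    rw [← map_pow]
    refine MulEquiv.ext fun y => Subtype.ext ?_
    rw [hφ, hφ]
    obtain ⟨-, hka, hkb⟩ := mem_stab2.1 (show u ^ k ∈ stab2 M a b from pow_mem hu k)
    obtain ⟨-, hga, hgb⟩ := mem_stab2.1 (show (g : G)⁻¹ * u ^ k * (g : G) ∈ stab2 M a b from mem_subgroupOf.1 hm)
    rw [mul_smul, mul_smul, inv_smul_eq_iff] at hga hgb
    obtain ⟨e, he⟩ := exists_actPow hC hab hK hka hkb
    have h' := (he.any_pair hA hab (fun h => hab (MulAction.injective (g : G) h)) hka hkb hga hgb).conj (g : G)⁻¹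
    rw [inv_smul_smul, inv_smul_smul, inv_inv] at h'
    exact (h' y y.2).trans (he y y.2).symm
  have htr := CfsgLib.Fusion.transfer_eq_pow_index φ z hkey
  have hperf : commutator M = ⊤ := by
    rcases IsSimpleGroup.eq_bot_or_eq_top_of_normal (commutator M) inferInstance with h | h
    · refine absurd ⟨⟨fun x y => ?_⟩⟩ hC.nonab
      refine commutatorElement_eq_one_iff_mul_comm.1 (mem_bot.1 (h ▸ ?_))
      rw [_root_.commutator_def]
      exact commutator_mem_commutator (mem_top x) (mem_top y)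
    · exact h
  have hone : MonoidHom.transfer φ (z : M) = 1 :=
    Abelianization.commutator_subset_ker _ (hperf ▸ mem_top _)
  rw [hone] at htr
  have hidx : H.index = n * (n - 1) := by
    have h1 := index_mul_card H
    rw [Nat.card_congr (subgroupOfEquivOfLe hle).toEquiv, card_eq_mul_stab2 hC.trans2 hab, ← mul_assoc] at h1
    exact Nat.eq_of_mul_eq_mul_right Nat.card_pos h1
  rw [hidx, ← map_pow] at htr
  refine hK.self _ (pow_mem hu _) fun y hy => ?_
  have h := congrArg (fun s : MulAut F => ((s ⟨y, hy⟩ : F) : G)) htr.symm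
  exact mul_inv_eq_iff_eq_mul.1 h

/-- The structure of a two-point stabiliser. -/
theorem exists_coprime_quotient (hf : Odd f) :
    ∃ q, Nat.card (stab2 M a b) = Nat.card (fit2 M a b) * q ∧ q.Coprime (Fintype.card Ω - 2) := by
  classical
  set N := stab2 M a b with hN
  set F₀ : Subgroup N := Cfsg.fittingSubgroup N with hF₀
  refine ⟨F₀.index, ?_, Nat.coprime_of_dvd fun r hr hrq hrn => ?_⟩
  · rw [← card_mul_index F₀]
    congr 1
    exact Nat.card_congr (F₀.equivMapOfInjective _ N.subtype_injective).toEquiv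
  · haveI := Fact.mk hr
    obtain ⟨ū, hū⟩ := exists_prime_orderOf_dvd_card' (G := N ⧸ F₀) r hrq
    obtain ⟨u, rfl⟩ := QuotientGroup.mk'_surjective F₀ ū
    have hmem : ∀ d : ℕ, (u : G) ^ d ∈ fit2 M a b → r ∣ d := fun d hd => by
      obtain ⟨w, hw, he⟩ := hd
      have hud : u ^ d ∈ F₀ := by
        rw [show u ^ d = w from Subtype.ext he.symm]
        exact hw
      refine hū ▸ orderOf_dvd_of_pow_eq_one ?_
      rw [← map_pow]
      exact (QuotientGroup.eq_one_iff _).2 hud
    have h1 := hmem _ (pow_mem_fit2 hA hC hab hK u.2)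
    have h2 := hmem f (hK.self _ (pow_mem u.2 f) fun z hz =>
      hK.frob u (mem_stab2.1 u.2).2.1 (mem_stab2.1 u.2).2.2 z hz)
    obtain ⟨m, hm⟩ : ∃ m, Fintype.card Ω = m + 2 := ⟨Fintype.card Ω - 2, by have := hC.three_lt; omega⟩
    rw [hm] at h1 hrn
    have e : (m + 2) * (m + 2 - 1) = m * (m + 3) + 2 := by
      rw [show m + 2 - 1 = m + 1 by omega]; ring
    rw [Nat.add_sub_cancel] at hrn
    rw [e] at h1
    have h3 : r ∣ 2 := (Nat.dvd_add_right (hrn.mul_right _)).1 h1
    obtain rfl := (Nat.prime_dvd_prime_iff_eq hr Nat.prime_two).1 h3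
    exact Nat.not_even_iff_odd.2 hf (even_iff_two_dvd.2 h2)

theorem card_orbit_eq_fit2 (hf : Odd f) {c : Ω} (hac : a ≠ c) (hbc : b ≠ c) :
    Nat.card (orbit (stab2 M a b) c) = Nat.card (fit2 M a b) ∧
      Nat.card (stab2 M a b) = Nat.card (fit2 M a b) * Nat.card (stab3 M (trip a b c hab hac hbc)) ∧
      (Nat.card (fit2 M a b)).Coprime (Nat.card (stab3 M (trip a b c hab hac hbc))) := by
  classical
  haveI := hC.normal
  obtain ⟨q, hq, hcop⟩ := exists_coprime_quotient hA hC hab hK hf
  have hFN := fit2_le M a b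
  set U := stab3 M (trip a b c hab hac hbc) with hU
  set F := fit2 M a b with hFdef
  set k := Nat.card (orbit (stab2 M a b) c)
  have hku : k * Nat.card U = Nat.card (stab2 M a b) := card_orbit_mul hC.trans3 hab hac hbc
  have hkn : k ∣ Fintype.card Ω - 2 := card_orbit_dvd hC.trans3 hab hac hbc
  -- the subgroup acts semiregularly
  have hFdvd : Nat.card F ∣ Fintype.card Ω - 2 := by
    rw [← card_compl_pair hab]
    let S : SubMulAction F Ω :=
      { carrier := ({a, b} : Set Ω)ᶜ
        smul_mem' := fun g x hx => by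
          rintro (e | e)
          · exact hx (Or.inl (MulAction.injective (g : G) (e.trans (mem_stab2.1 (hFN g.2)).2.1.symm)))
          · exact hx (Or.inr (MulAction.injective (g : G) (e.trans (mem_stab2.1 (hFN g.2)).2.2.symm))) }
    show Nat.card F ∣ Nat.card S
    haveI : Fintype S := Fintype.ofFinite _
    rw [Nat.card_congr (MulAction.selfEquivSigmaOrbits F S)]
    simp only [Nat.card_sigma]
    refine Finset.dvd_sum fun ω _ => ?_
    have hst : stabilizer F ω.out = ⊥ := (Subgroup.eq_bot_iff_forall _).2 fun g hg => by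
      have hω : ((ω.out : S) : Ω) ∈ ({a, b} : Set Ω)ᶜ := ω.out.2
      simp only [Set.mem_compl_iff, Set.mem_insert_iff, Set.mem_singleton_iff, not_or] at hω
      exact Subtype.ext (hK.free g g.2 _ (Ne.symm hω.1) (Ne.symm hω.2) (congrArg Subtype.val hg))
    have h := Nat.card_congr (MulAction.orbitProdStabilizerEquivGroup F ω.out)
    rw [Nat.card_prod, hst, card_bot, mul_one] at h
    rw [h]
  have hcop2 : (Nat.card F).Coprime q := (hcop.coprime_dvd_right hFdvd).symm
  have hkdvd : k ∣ Nat.card F := by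
    have h : k ∣ Nat.card F * q := ⟨Nat.card U, by rw [← hq, hku]⟩
    exact (hcop.coprime_dvd_right hkn).symm.dvd_of_dvd_mul_right h
  have hFk : Nat.card F ≤ k := by
    refine Nat.card_le_card_of_injective (fun g : F => (⟨(g : G) • c, ⟨⟨g, hFN g.2⟩, rfl⟩⟩ : orbit (stab2 M a b) c)) ?_
    intro g g' he
    have he' : (g : G) • c = (g' : G) • c := congrArg Subtype.val he
    have : (g' : G)⁻¹ * g = 1 := hK.free _ (mul_mem (inv_mem g'.2) g.2) c hac hbc
      (by rw [mul_smul, he', inv_smul_smul])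
    exact Subtype.ext (inv_mul_eq_one.1 this).symm
  have hk : k = Nat.card F := le_antisymm (Nat.le_of_dvd Nat.card_pos hkdvd) hFk
  rw [hk] at hku
  refine ⟨hk, hku.symm, ?_⟩
  have hqU : Nat.card U = q := Nat.eq_of_mul_eq_mul_left Nat.card_pos (hku.trans hq)
  rw [hqU]
  exact hcop2

end CfsgLib.Wagner
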