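import Cfsg.Agent.Lib.Perm.Wagner.AffineMain
import Cfsg.Agent.S0205

/-!
Owner: helper12. S3255 (Wagner), part (b): two colours in degree `≢ 2 (mod 4)`.

* `Half Ω M`: two colours exactly, degree not `2` modulo `4`.
* `Half.two_mul`, `Half.not_col_swap`, `Half.odd_stab1`: the orbits of `stab2` have odd size `(n - 2) / 2`, the
  colours are not symmetric, point stabilisers of `M` have odd order.
* `Half.exists_aff`: a point stabiliser has translations.
-/

set_option autoImplicit false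
set_option linter.unusedSectionVars false

namespace CfsgLib.Wagner

open Subgroup MulAction

universe u

variable {G : Type u} [Group G] [Finite G] {Ω : Type u} [Fintype Ω] [MulAction G Ω] [FaithfulSMul G Ω]

variable (Ω) in
/-- Two colours exactly, degree not two modulo four. -/
structure Half (M : Subgroup G) : Prop where
  ctx : Ctx Ω M
  two : TwoCol Ω M
  ne : ∃ r s : Fin 3 ↪ Ω, ¬ Col M r s
  four : Fintype.card Ω % 4 ≠ 2

/-- Exchange of the first two points. -/
def swap01 (t : Fin 3 ↪ Ω) : Fin 3 ↪ Ω :=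
  trip (t 1) (t 0) (t 2) (trip_ne t (by decide)) (trip_ne t (by decide)) (trip_ne t (by decide))

theorem smul_swap01 (g : G) (t : Fin 3 ↪ Ω) : g • swap01 t = swap01 (g • t) := by
  ext i; fin_cases i <;> rfl

namespace Half

variable {M : Subgroup G} (hH : Half Ω M)
include hH

theorem col_or {r s : Fin 3 ↪ Ω} (hrs : ¬ Col M r s) (t : Fin 3 ↪ Ω) : Col M r t ∨ Col M s t :=
  (hH.two r s t).resolve_left hrs

/-- The orbits of a two-point stabiliser. -/
theorem two_mul {a b c : Ω} (hab : a ≠ b) (hac : a ≠ c) (hbc : b ≠ c) :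
    Fintype.card Ω - 2 = 2 * Nat.card (orbit (stab2 M a b) c) ∧ Odd (Nat.card (orbit (stab2 M a b) c)) := by
  classical
  haveI := hH.ctx.normal
  obtain ⟨r, s, hrs⟩ := hH.ne
  obtain ⟨x, hax, hbx, hx⟩ := exists_col_trip hH.ctx.trans2 hab r
  obtain ⟨y, hay, hby, hy⟩ := exists_col_trip hH.ctx.trans2 hab s
  have hxy : y ∉ orbit (stab2 M a b) x := fun h => hrs (hx.trans ((col_trip h).trans hy.symm))
  have hdis : Disjoint (orbit (stab2 M a b) x) (orbit (stab2 M a b) y) := Set.disjoint_left.2 fun z hz hz' =>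
    hxy (by rw [← orbit_eq_iff.2 hz, orbit_eq_iff.2 hz']; exact mem_orbit_self y)
  have hunion : orbit (stab2 M a b) x ∪ orbit (stab2 M a b) y = ({a, b} : Set Ω)ᶜ := by
    refine (Set.union_subset (orbit_stab2_subset M hax hbx) (orbit_stab2_subset M hay hby)).antisymm fun z hz => ?_
    simp only [Set.mem_compl_iff, Set.mem_insert_iff, Set.mem_singleton_iff, not_or] at hz
    rcases hH.col_or hrs (trip a b z hab (Ne.symm hz.1) (Ne.symm hz.2)) with h | h
    · exact Or.inl (mem_orbit_of_col (hx.symm.trans h))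
    · exact Or.inr (mem_orbit_of_col (hy.symm.trans h))
  have h := Set.ncard_union_eq hdis (Set.toFinite _) (Set.toFinite _)
  rw [hunion, ← Nat.card_coe_set_eq, card_compl_pair hab, ← Nat.card_coe_set_eq, ← Nat.card_coe_set_eq,
    card_orbit_eq hH.ctx.trans3 hab hay hby hac hbc, card_orbit_eq hH.ctx.trans3 hab hax hbx hac hbc] at h
  refine ⟨by omega, Nat.odd_iff.2 ?_⟩
  have := hH.four
  have := hH.ctx.three_lt
  omega

/-- The colours are not symmetric. -/
theorem not_col_swap (t : Fin 3 ↪ Ω) : ¬ Col M t (swap01 t) := by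
  classical
  haveI := hH.ctx.normal
  haveI := hH.ctx.trans3
  intro h
  have hsym : ∀ s : Fin 3 ↪ Ω, Col M s (swap01 s) := fun s => by
    obtain ⟨g, rfl⟩ := exists_smul_eq G t s
    rw [← smul_swap01]
    exact h.smul g
  have hflip : ∀ {a c d : Ω} (hac : a ≠ c) (had : a ≠ d) (hcd : c ≠ d),
      Col M (trip a c d hac had hcd) (trip a d c had hac hcd.symm) := by
    intro a c d hac had hcd
    refine (hsym _).trans ?_
    have e : swap01 (trip a c d hac had hcd) = trip c a d hac.symm hcd had := trip_ext rfl rfl rfl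
    rw [e]
    refine (hH.ctx.cyc _).trans ?_
    have e' : rot (trip c a d hac.symm hcd had) = trip a d c had hac hcd.symm := trip_ext rfl rfl rfl
    rw [e']
    exact Col.refl M _
  obtain ⟨r, -, -⟩ := hH.ne
  obtain ⟨a⟩ : Nonempty Ω := ⟨t 0⟩
  let X := {x : Ω // x ≠ a}
  let Gr : SimpleGraph X :=
    { Adj := fun c d => ∃ hcd : (c : Ω) ≠ d, Col M (trip a c d c.2.symm d.2.symm hcd) r
      symm := ⟨fun c d h => by
        obtain ⟨hcd, h⟩ := h
        exact ⟨hcd.symm, (hflip d.2.symm c.2.symm hcd.symm).trans h⟩⟩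
      loopless := ⟨fun c h => h.1 rfl⟩ }
  have hdeg : ∀ c : X, Odd (Gr.degree c) := by
    intro c
    obtain ⟨d₀, had₀, hcd₀, hd₀⟩ := exists_col_trip hH.ctx.trans2 c.2.symm r
    have he : Gr.degree c = Nat.card (orbit (stab2 M a c) d₀) := by
      rw [← SimpleGraph.card_neighborSet_eq_degree, ← Nat.card_eq_fintype_card]
      refine Nat.card_congr
        { toFun := fun d => ⟨(d.1 : Ω), ?_⟩
          invFun := fun d => ⟨⟨d.1, ?_⟩, ?_⟩
          left_inv := fun d => rfl
          right_inv := fun d => rfl }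
      · obtain ⟨hcd, h⟩ := d.2
        exact mem_orbit_of_col (hd₀.symm.trans h.symm)
      · exact fun e => orbit_stab2_subset M had₀ hcd₀ d.2 (Or.inl e)
      · have hcd : (c : Ω) ≠ d.1 := fun e => orbit_stab2_subset M had₀ hcd₀ d.2 (Or.inr e.symm)
        exact ⟨hcd, (hd₀.trans (col_trip d.2)).symm⟩
    rw [he]
    exact (hH.two_mul c.2.symm had₀ hcd₀).2
  obtain ⟨c₀, hc₀⟩ : ∃ c : Ω, c ≠ a := by
    haveI := Fintype.one_lt_card_iff_nontrivial.1 (show 1 < Fintype.card Ω by have := hH.ctx.three_lt; omega)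
    exact exists_ne a
  obtain ⟨d₁, h₁, h₂, -⟩ := exists_col_trip hH.ctx.trans2 hc₀.symm r
  obtain ⟨hn, -⟩ := hH.two_mul hc₀.symm h₁ h₂
  have hX : Fintype.card X % 2 = 1 := by
    rw [Fintype.card_subtype_compl, Fintype.card_subtype_eq]
    have := hH.ctx.three_lt
    omega
  have hsum := Gr.sum_degrees_eq_twice_card_edges
  have hodd : (∑ v : X, Gr.degree v) % 2 = 1 := by
    rw [Finset.sum_nat_mod, Finset.sum_congr rfl (fun v _ => Nat.odd_iff.1 (hdeg v)), Finset.sum_const,
      Finset.card_univ, smul_eq_mul, mul_one, hX]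
  omega

/-- Point stabilisers have odd order. -/
theorem odd_stab1 (a : Ω) : Odd (Nat.card (M ⊓ stabilizer G a : Subgroup G)) := by
  classical
  haveI := hH.ctx.normal
  haveI : Fact (Nat.Prime 2) := ⟨Nat.prime_two⟩
  refine Nat.odd_iff.2 (Nat.two_dvd_ne_zero.1 fun hdvd => ?_)
  obtain ⟨⟨x, hxM, hxa⟩, hx⟩ := exists_prime_orderOf_dvd_card' (G := (M ⊓ stabilizer G a : Subgroup G)) 2 hdvd
  have hx2 : x * x = 1 := by
    have h := congrArg Subtype.val (hx ▸ pow_orderOf_eq_one (⟨x, hxM, hxa⟩ : (M ⊓ stabilizer G a : Subgroup G)) :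
      (⟨x, hxM, hxa⟩ : (M ⊓ stabilizer G a : Subgroup G)) ^ 2 = 1)
    simpa [pow_two] using h
  obtain ⟨c, hc⟩ : ∃ c : Ω, x • c ≠ c := by
    by_contra hne
    push Not at hne
    have h1 : x = 1 := FaithfulSMul.eq_of_smul_eq_smul fun c => (hne c).trans (one_smul G c).symm
    rw [← Subgroup.orderOf_coe] at hx
    rw [show ((⟨x, hxM, hxa⟩ : (M ⊓ stabilizer G a : Subgroup G)) : G) = x from rfl, h1, orderOf_one] at hx
    omega
  have hac : a ≠ c := fun e => hc (e ▸ hxa)
  have had : a ≠ x • c := fun e => hac (MulAction.injective x ((show x • a = a from hxa).trans e))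
  have hxx : x • x • c = c := by rw [← mul_smul, hx2, one_smul]
  have h1 : Col M (trip c (x • c) a hc.symm hac.symm had.symm) (swap01 (trip c (x • c) a hc.symm hac.symm had.symm)) :=
    ⟨x, hxM, trip_ext rfl hxx hxa⟩
  exact hH.not_col_swap _ h1

theorem odd_stab2 (a b : Ω) : Odd (Nat.card (stab2 M a b)) :=
  (hH.odd_stab1 a).of_dvd_nat (card_dvd_of_le inf_le_left)

theorem solvable_stab2 (a b : Ω) : Group.IsSolvable (stab2 M a b) :=
  Cfsg.Agent.S0205.result (hH.odd_stab2 a b)

theorem even_card : Even (Fintype.card Ω) := by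
  obtain ⟨r, -, -⟩ := hH.ne
  have h := (hH.two_mul (trip_ne r (show (0 : Fin 3) ≠ 1 by decide)) (trip_ne r (show (0 : Fin 3) ≠ 2 by decide))
    (trip_ne r (show (1 : Fin 3) ≠ 2 by decide))).1
  have := hH.ctx.three_lt
  rw [even_iff_two_dvd]
  omega

/-- Translations at a point. -/
theorem exists_aff (a : Ω) : ∃ V p f, Aff M a V p f := by
  classical
  haveI := hH.ctx.normal
  haveI := Fintype.one_lt_card_iff_nontrivial.1 (show 1 < Fintype.card Ω by have := hH.ctx.three_lt; omega)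
  obtain ⟨b, hb⟩ := exists_ne a
  set A : Subgroup G := stabilizer G a with hA
  set Ma : Subgroup A := M.subgroupOf A with hMa
  have hodd : Odd (Nat.card Ma) := by
    have he : Nat.card Ma = Nat.card (M ⊓ stabilizer G a : Subgroup G) := by
      rw [← card_map_of_injective (K := Ma) A.subtype_injective, hMa, Subgroup.subgroupOf_map_subtype]
    exact he ▸ hH.odd_stab1 a
  obtain ⟨d, hd⟩ : (({a, b} : Set Ω)ᶜ).Nonempty := (Set.ncard_pos (Set.toFinite _)).1 (by
    rw [← Nat.card_coe_set_eq, card_compl_pair hb.symm]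
    have := hH.ctx.three_lt
    omega)
  simp only [Set.mem_compl_iff, Set.mem_insert_iff, Set.mem_singleton_iff, not_or] at hd
  have hMa1 : Ma ≠ ⊥ := by
    obtain ⟨m, hm, h1, h2⟩ := exists_map2 (M := M) hH.ctx.trans2 hb.symm (Ne.symm hd.1)
    intro h
    have h4 : (⟨m, h1⟩ : A) ∈ Ma := mem_subgroupOf.2 hm
    rw [h, mem_bot] at h4
    have h5 : m = 1 := congrArg Subtype.val h4
    rw [h5, one_smul] at h2
    exact hd.2 h2.symm
  obtain ⟨Y, ⟨hYn, hY1, hYM⟩, hYmin⟩ := (Set.toFinite {Y : Subgroup A | Y.Normal ∧ Y ≠ ⊥ ∧ Y ≤ Ma}).exists_minimal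
    ⟨Ma, inferInstance, hMa1, le_rfl⟩
  haveI := hYn
  have hmin : ∀ Z : Subgroup A, Z.Normal → Z ≤ Y → Z = ⊥ ∨ Z = Y := fun Z hZ hZY => by
    rcases eq_or_ne Z ⊥ with h | h
    · exact Or.inl h
    · exact Or.inr (le_antisymm hZY (hYmin ⟨hZ, h, hZY.trans hYM⟩ hZY))
  have hcomm := CfsgLib.Core.commutative_of_minimal_normal Y
    (Cfsg.Agent.S0205.result (hodd.of_dvd_nat (card_dvd_of_le hYM))) hY1 hmin
  exact exists_aff_of_commutative hH.ctx hH.even_card hb Y hYM hY1 hcomm hmin

end Half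

end CfsgLib.Wagner
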