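import Cfsg.Agent.Lib.Perm.Wagner.HalfPair
import Cfsg.Agent.Lib.Perm.Burnside2
import Cfsg.Agent.Lib.Perm.ZassenhausAbelianMain
import Cfsg.Agent.Lib.Fusion.TwoTypes.PSLTwoSylow
import Cfsg.Agent.S0276

/-!
Owner: helper12. S3255 (Wagner), part (b): the normaliser of `stab3` on its fixed points.

* `exists_dihedral_psl`: the Sylow 2-subgroups of `PSL(2, K)`, `K` odd, are dihedral.
* `Frame.fix_structure`: the fixed points of `U = stab3` number `2 k₀ + 2 = p ^ j + 1`, `j` odd, and the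
  normaliser acts on them as a Zassenhaus group isomorphic to `PSL(2, K)`.
* `Frame.sylow_dihedral`: the Sylow 2-subgroups of `M` are dihedral.
-/

set_option autoImplicit false
set_option linter.unusedSectionVars false

namespace CfsgLib.Wagner

open Subgroup MulAction

universe u

variable {G : Type u} [Group G] [Finite G] {Ω : Type u} [Fintype Ω] [MulAction G Ω] [FaithfulSMul G Ω]

theorem exists_dihedral_psl {K : Type} [Field K] [Fintype K] (hK : Fintype.card K % 2 = 1)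
    (S : Sylow 2 (Matrix.ProjectiveSpecialLinearGroup (Fin 2) K)) :
    ∃ n, 2 ≤ n ∧ Nonempty ((S : Subgroup (Matrix.ProjectiveSpecialLinearGroup (Fin 2) K)) ≃* DihedralGroup n) := by
  classical
  rcases (show Fintype.card K % 8 = 3 ∨ Fintype.card K % 8 = 5 ∨ Fintype.card K % 8 = 1 ∨ Fintype.card K % 8 = 7 by omega)
    with h | h | h
  rotate_left 2
  · obtain ⟨k, hk, he⟩ := CfsgLib.Fusion.psl_two_sylow_dihedral_order_ge_eight hK (by
      obtain ⟨j, hj⟩ : ∃ j, Fintype.card K = 8 * j + 1 ∨ Fintype.card K = 8 * j + 7 := ⟨Fintype.card K / 8, by omega⟩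
      rcases hj with hj | hj
      · rw [hj]; exact ⟨4 * j * j + j, by rw [Nat.sub_eq_of_eq_add]; ring⟩
      · rw [hj]; exact ⟨4 * j * j + 7 * j + 3, by rw [Nat.sub_eq_of_eq_add]; ring⟩) S
    exact ⟨2 ^ k, (show 2 ≤ k from hk).trans (Nat.lt_two_pow_self).le, he⟩
  all_goals
    haveI := Cfsg.Agent.S0276.result (F := K) rfl (by omega) S
    exact ⟨2, le_rfl, IsKleinFour.nonempty_mulEquiv⟩

/-- `p ^ j + 1` is `p + 1` times an odd number for odd `j` and odd `p`. -/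
theorem exists_odd_factor {p : ℕ} (hp : Odd p) (i : ℕ) : ∃ s, Odd s ∧ p ^ (2 * i + 1) + 1 = (p + 1) * s := by
  induction i with
  | zero => exact ⟨1, odd_one, by ring⟩
  | succ i ih =>
    obtain ⟨s, hs, he⟩ := ih
    obtain ⟨m, rfl⟩ := hp
    obtain ⟨l, rfl⟩ := hs
    have hle : 2 * m ≤ (2 * m + 1) ^ 2 * (2 * l + 1) := le_trans (by nlinarith) (Nat.le_mul_of_pos_right _ (by omega))
    refine ⟨(2 * m + 1) ^ 2 * (2 * l + 1) - 2 * m, Nat.Odd.sub_even hle ((Odd.pow ⟨m, rfl⟩).mul ⟨l, rfl⟩) (even_two_mul m), ?_⟩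
    have h1 : (2 * m + 1) ^ (2 * (i + 1) + 1) + 1 + (2 * m + 1 + 1) * (2 * m) =
        (2 * m + 1 + 1) * ((2 * m + 1) ^ 2 * (2 * l + 1)) := by
      rw [show 2 * (i + 1) + 1 = 2 + (2 * i + 1) by ring, pow_add]
      calc (2 * m + 1) ^ 2 * (2 * m + 1) ^ (2 * i + 1) + 1 + (2 * m + 1 + 1) * (2 * m)
          = (2 * m + 1) ^ 2 * ((2 * m + 1) ^ (2 * i + 1) + 1) := by ring
        _ = _ := by rw [he]; ring
    rw [Nat.mul_sub]
    omega

namespace Frame

variable {M : Subgroup G} {p f : ℕ} {t₀ : Fin 3 ↪ Ω} {t : G} (D : Frame Ω M p f t₀ t)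
include D

theorem t_inv : t⁻¹ = t := inv_eq_of_mul_eq_one_right D.invol

theorem t_norm : t ∈ normalizer (stab3 M t₀ : Set G) := mem_normalizer_iff.2 fun u => by
  refine ⟨fun hu => ?_, fun hu => ?_⟩
  · rw [D.comm u hu, mul_inv_cancel_right]
    exact hu
  · have h := D.comm _ hu
    rw [show t * (t * u * t⁻¹) = t * t * u * t⁻¹ by group, D.invol, one_mul,
      show t * u * t⁻¹ * t = t * u by group] at h
    have h2 : t * u * t⁻¹ = u := by
      rw [← h, mul_assoc u, ← mul_inv_rev, D.invol, inv_one, mul_one]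
    exact h2 ▸ hu

theorem t_fix {x : Ω} (hx : ∀ u ∈ stab3 M t₀, u • x = x) : ∀ u ∈ stab3 M t₀, u • t • x = t • x := fun u hu => by
  rw [← mul_smul, ← D.comm u hu, mul_smul, hx u hu]

/-- The part of the torus centralising `stab3`. -/
theorem torus_commute {d : G} (hd : d ∈ fit2 M (t₀ 0) (t₀ 1)) (hfix : ∀ u ∈ stab3 M t₀, u • d • t₀ 2 = d • t₀ 2) :
    d ∈ centralizer (stab3 M t₀ : Set G) := by
  haveI := D.ctx.normal
  refine mem_centralizer_iff.2 fun u hu => ?_
  obtain ⟨-, hua, hub, huc⟩ := mem_stab3.1 hu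
  have hd' : u * d * u⁻¹ ∈ fit2 M (t₀ 0) (t₀ 1) := by simpa [hua, hub] using conj_mem_fit2 (M := M) hd u
  have h1 := (D.core _ _ D.ne01).free _ (mul_mem (inv_mem hd') hd) (t₀ 2) (trip_ne t₀ (by decide))
    (trip_ne t₀ (by decide)) (by
      rw [mul_smul, inv_smul_eq_iff, mul_smul, mul_smul, inv_smul_eq_iff.2 huc.symm, hfix u hu])
  exact mul_inv_eq_iff_eq_mul.1 (inv_mul_eq_one.1 h1)

theorem commute_fix {d : G} (hd : d ∈ centralizer (stab3 M t₀ : Set G)) {x : Ω}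
    (hx : ∀ u ∈ stab3 M t₀, u • x = x) : ∀ u ∈ stab3 M t₀, u • d • x = d • x := fun u hu => by
  rw [← mul_smul, mem_centralizer_iff.1 hd u hu, mul_smul, hx u hu]

/-- A point fixed by `stab3` is reached by the torus part centralising it, or by that and `t`. -/
theorem fix_cases {x : Ω} (h0 : t₀ 0 ≠ x) (h1 : t₀ 1 ≠ x) (hx : ∀ u ∈ stab3 M t₀, u • x = x) :
    ∃ d ∈ fit2 M (t₀ 0) (t₀ 1) ⊓ centralizer (stab3 M t₀ : Set G), d • t₀ 2 = x ∨ t • d • t₀ 2 = x := by
  haveI := D.ctx.normal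
  have h02 : t₀ 0 ≠ t₀ 2 := trip_ne t₀ (by decide)
  have h12 : t₀ 1 ≠ t₀ 2 := trip_ne t₀ (by decide)
  have hmem : x ∈ orbit (fit2 M (t₀ 0) (t₀ 1)) (t₀ 2) ∨ t • x ∈ orbit (fit2 M (t₀ 0) (t₀ 1)) (t₀ 2) := by
    by_contra hne
    push Not at hne
    have h0' : t₀ 0 ≠ t • x := fun e => h1 (MulAction.injective t (D.map1.trans e))
    have h1' : t₀ 1 ≠ t • x := fun e => h0 (MulAction.injective t (D.map0.trans e))
    rw [D.orbit_fit2 h02 h12] at hne
    have hcol : ∀ {y : Ω} (hy0 : t₀ 0 ≠ y) (hy1 : t₀ 1 ≠ y), y ∉ orbit (stab2 M (t₀ 0) (t₀ 1)) (t₀ 2) →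
        ¬ Col M (trip (t₀ 0) (t₀ 1) (t₀ 2) D.ne01 h02 h12) (trip (t₀ 0) (t₀ 1) y D.ne01 hy0 hy1) :=
      fun _ _ hn h => hn (mem_orbit_of_col h)
    rcases D.half.two (trip (t₀ 0) (t₀ 1) (t₀ 2) D.ne01 h02 h12) (trip (t₀ 0) (t₀ 1) x D.ne01 h0 h1)
      (trip (t₀ 0) (t₀ 1) (t • x) D.ne01 h0' h1') with h | h | h
    · exact hcol h0 h1 hne.1 h
    · exact hcol h0' h1' hne.2 h
    · have hc := mem_orbit_of_col h
      rw [← D.orbit_fit2 h0 h1] at hc
      exact D.swap h0 h1 hc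
  rcases hmem with ⟨⟨d, hd⟩, he⟩ | ⟨⟨d, hd⟩, he⟩
  · have he' : d • t₀ 2 = x := he
    exact ⟨d, ⟨hd, D.torus_commute hd (he'.symm ▸ hx)⟩, Or.inl he'⟩
  · have he' : d • t₀ 2 = t • x := he
    refine ⟨d, ⟨hd, D.torus_commute hd (he'.symm ▸ D.t_fix hx)⟩, Or.inr ?_⟩
    rw [he', ← mul_smul, D.invol, one_smul]

/-- The normaliser in `M`, on the fixed points of `stab3`. -/
theorem fix_structure : ∃ (k₀ j : ℕ) (P : Subgroup (Equiv.Perm (fixAct Ω (stab3 M t₀))))
    (π : (M ⊓ normalizer (stab3 M t₀ : Set G) : Subgroup G) →* P) (K : Type) (_ : Field K) (_ : Fintype K),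
    Function.Surjective π ∧ Odd (Nat.card π.ker) ∧ Odd k₀ ∧ Odd j ∧ 2 * k₀ + 1 = p ^ j ∧ p % 4 = 3 ∧
      Nat.card P = (p ^ j + 1) * (p ^ j * k₀) ∧ Fintype.card K % 2 = 1 ∧
      Nonempty (P ≃* Matrix.ProjectiveSpecialLinearGroup (Fin 2) K) := by
  classical
  haveI := D.ctx.normal
  set a := t₀ 0 with ha0
  set b := t₀ 1 with hb0
  set c := t₀ 2 with hc0
  have hab : a ≠ b := D.ne01
  have hac : a ≠ c := trip_ne t₀ (by decide)
  have hbc : b ≠ c := trip_ne t₀ (by decide)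
  set U := stab3 M t₀ with hUdef
  set F := fit2 M a b with hFdef
  set Φ := fixAct Ω U with hΦdef
  haveI : Fintype Φ := Fintype.ofFinite _
  have hmemΦ : ∀ {x : Ω}, x ∈ Φ ↔ ∀ u ∈ U, u • x = x :=
    fun {x} => ⟨fun h u hu => h ⟨u, hu⟩, fun h u => h u u.2⟩
  have hU : ∀ i, t₀ i ∈ Φ := fun i => hmemΦ.2 fun u hu => DFunLike.congr_fun hu.2 i
  set F₀ : Subgroup G := F ⊓ centralizer (U : Set G) with hF₀
  set J : Subgroup G := M ⊓ normalizer (U : Set G) with hJ
  have hcN : centralizer (U : Set G) ≤ normalizer (U : Set G) := Subgroup.centralizer_le_normalizer _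
  have hFM : F ≤ M := (fit2_le M a b).trans fun g hg => (mem_stab2.1 hg).1
  have hF₀J : F₀ ≤ J := fun d hd => ⟨hFM hd.1, hcN hd.2⟩
  let π₀ : J →* Equiv.Perm Φ := (fixHom Ω U).comp (inclusion (inf_le_right : J ≤ normalizer (U : Set G)))
  have hπ₀ : ∀ (g : J) (x : Φ), ((π₀ g x : Φ) : Ω) = (g : G) • (x : Ω) := fun g x => rfl
  set P := π₀.range with hP
  let π : J →* P := π₀.rangeRestrict
  have hπ : Function.Surjective π := π₀.rangeRestrict_surjective
  have hπa : ∀ (g : J) (x : Φ), ((π g • x : Φ) : Ω) = (g : G) • (x : Ω) := fun g x => rfl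
  let xa : Φ := ⟨a, hU 0⟩
  let xb : Φ := ⟨b, hU 1⟩
  let xc : Φ := ⟨c, hU 2⟩
  have hxab : xa ≠ xb := fun e => hab (congrArg Subtype.val e)
  have hxac : xa ≠ xc := fun e => hac (congrArg Subtype.val e)
  have hxbc : xb ≠ xc := fun e => hbc (congrArg Subtype.val e)
  -- three fixed points give back `U`
  have hUeq : ∀ {x y z : Ω} (hxy : x ≠ y) (hxz : x ≠ z) (hyz : y ≠ z), x ∈ Φ → y ∈ Φ → z ∈ Φ →
      stab3 M (trip x y z hxy hxz hyz) = U := fun {x y z} hxy hxz hyz hx hy hz =>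
    (eq_of_le_of_card_ge (fun u hu => mem_stab3.2 ⟨(mem_stab3.1 hu).1, hmemΦ.1 hx u hu, hmemΦ.1 hy u hu, hmemΦ.1 hz u hu⟩)
      (card_stab3_eq D.ctx.trans3 _ t₀).le).symm
  have hthree : ∀ (g : J) {x y z : Φ}, x ≠ y → x ≠ z → y ≠ z → (g : G) • (x : Ω) = x → (g : G) • (y : Ω) = y →
      (g : G) • (z : Ω) = z → π g = 1 := by
    intro g x y z hxy hxz hyz hx hy hz
    have hgU : (g : G) ∈ U := hUeq (fun e => hxy (Subtype.ext e)) (fun e => hxz (Subtype.ext e))
      (fun e => hyz (Subtype.ext e)) x.2 y.2 z.2 ▸ mem_stab3.2 ⟨g.2.1, hx, hy, hz⟩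
    exact Subtype.ext (Equiv.ext fun w => Subtype.ext (hmemΦ.1 w.2 _ hgU))
  -- double transitivity
  have hmove : ∀ x y : Φ, x ≠ y → ∃ g : J, (g : G) • a = x ∧ (g : G) • b = y := by
    intro x y hxy
    have hxy' : (x : Ω) ≠ y := fun e => hxy (Subtype.ext e)
    obtain ⟨z, hzΦ, hzx, hzy⟩ : ∃ z, z ∈ Φ ∧ (x : Ω) ≠ z ∧ (y : Ω) ≠ z := by
      by_contra hne
      push Not at hne
      have h : ∀ i, t₀ i = x ∨ t₀ i = y := fun i => by
        by_contra hh
        push Not at hh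
        exact hh.2 (hne _ (hU i) (Ne.symm hh.1)).symm
      rcases h 0 with h0 | h0 <;> rcases h 1 with h1 | h1 <;> rcases h 2 with h2 | h2 <;>
        first
          | exact hab (h0.trans h1.symm) | exact hac (h0.trans h2.symm) | exact hbc (h1.trans h2.symm)
    obtain ⟨m, hm, hmx, hmy⟩ := exists_map2 D.ctx.trans2 hab hxy'
    obtain ⟨w, hw, hwU⟩ := exists_conj_stab3 D.ctx D.aff D.core D.f_odd (m • t₀) (trip (x : Ω) y z hxy' hzx hzy)
      hmx hmy
    obtain ⟨hwM, hwx, hwy⟩ := mem_stab2.1 hw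
    refine ⟨⟨w * m, mul_mem hwM hm, mem_normalizer_iff_map_conj_eq.2 ?_⟩, ?_, ?_⟩
    · conv_rhs => rw [← hUeq hxy' hzx hzy x.2 y.2 hzΦ, ← hwU, ← map_conj_stab3, Subgroup.map_map, ← hUdef]
      congr 1
      ext s
      simp [mul_assoc]
    · show (w * m) • a = x
      rw [mul_smul, hmx]; exact hwx
    · show (w * m) • b = y
      rw [mul_smul, hmy]; exact hwy
  have h2 : IsMultiplyPretransitive P Φ 2 := by
    rw [is_two_pretransitive_iff]
    intro x y x' y' hxy hxy'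
    obtain ⟨g, hg1, hg2⟩ := hmove x y hxy
    obtain ⟨g', hg1', hg2'⟩ := hmove x' y' hxy'
    refine ⟨π (g' * g⁻¹), Subtype.ext ?_, Subtype.ext ?_⟩
    · rw [hπa, Subgroup.coe_mul, mul_smul, ← hg1, Subgroup.coe_inv, inv_smul_smul, hg1']
    · rw [hπa, Subgroup.coe_mul, mul_smul, ← hg2, Subgroup.coe_inv, inv_smul_smul, hg2']
  -- the two-point stabiliser
  have hfix2 : ∀ q : P, q • xa = xa → q • xb = xb → ∃ d : F₀, q = π ⟨d, hF₀J d.2⟩ := by
    intro q hqa hqb
    obtain ⟨g, rfl⟩ := hπ q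
    have ga : (g : G) • a = a := congrArg Subtype.val hqa
    have gb : (g : G) • b = b := congrArg Subtype.val hqb
    have horb : (g : G) • c ∈ orbit F c := by
      rw [D.orbit_fit2 hac hbc]
      exact ⟨⟨g, mem_stab2.2 ⟨g.2.1, ga, gb⟩⟩, rfl⟩
    obtain ⟨⟨d, hd⟩, he⟩ := horb
    have he' : d • c = (g : G) • c := he
    have hdC : d ∈ centralizer (U : Set G) :=
      D.torus_commute hd fun u hu => he' ▸ hmemΦ.1 (hπa g xc ▸ (π g • xc).2) u hu
    refine ⟨⟨d, hd, hdC⟩, ?_⟩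
    set d' : J := ⟨d, hF₀J ⟨hd, hdC⟩⟩
    obtain ⟨-, hda, hdb⟩ := mem_stab2.1 (fit2_le M a b hd)
    have h1 : π (d'⁻¹ * g) = 1 := hthree _ hxab hxac hxbc
      (by show ((d⁻¹ : G) * (g : G)) • a = a; rw [mul_smul, ga, inv_smul_eq_iff, hda])
      (by show ((d⁻¹ : G) * (g : G)) • b = b; rw [mul_smul, gb, inv_smul_eq_iff, hdb])
      (by show ((d⁻¹ : G) * (g : G)) • c = c; rw [mul_smul, ← he', inv_smul_smul])
    rw [map_mul, map_inv, inv_mul_eq_one] at h1
    exact h1.symm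
  have hinj : Function.Injective fun d : F₀ => π ⟨d, hF₀J d.2⟩ := by
    intro d d' he
    have h : (d : G) • c = (d' : G) • c := congrArg (fun q : P => ((q • xc : Φ) : Ω)) he
    have := (D.core a b hab).free _ (mul_mem (inv_mem d'.2.1) d.2.1) c hac hbc (by rw [mul_smul, h, inv_smul_smul])
    exact Subtype.ext (inv_mul_eq_one.1 this).symm
  set k₀ := Nat.card F₀ with hk₀
  have hk₀odd : Odd k₀ := D.two_card.2.of_dvd_nat (card_dvd_of_le inf_le_left)
  -- counting the fixed points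
  have hne2 : ∀ d : F₀, (d : G) • c ∈ Φ ∧ t • (d : G) • c ∈ Φ := fun d => by
    have h1 : ∀ u ∈ U, u • (d : G) • c = (d : G) • c := D.commute_fix d.2.2 (hmemΦ.1 (hU 2))
    exact ⟨hmemΦ.2 h1, hmemΦ.2 (D.t_fix h1)⟩
  have hfree : ∀ d : F₀, a ≠ (d : G) • c ∧ b ≠ (d : G) • c := fun d => by
    obtain ⟨-, hda, hdb⟩ := mem_stab2.1 (fit2_le M a b d.2.1)
    exact ⟨fun e => hac (MulAction.injective (d : G) (hda.trans e)),
      fun e => hbc (MulAction.injective (d : G) (hdb.trans e))⟩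
  have hn0 : Fintype.card Φ = 2 * k₀ + 2 := by
    let e : (F₀ ⊕ F₀) → {x : Φ // ¬ (x = xa ∨ x = xb)} := Sum.elim
      (fun d => ⟨⟨(d : G) • c, (hne2 d).1⟩, by
        rintro (e | e)
        · exact (hfree d).1 (congrArg Subtype.val e).symm
        · exact (hfree d).2 (congrArg Subtype.val e).symm⟩)
      (fun d => ⟨⟨t • (d : G) • c, (hne2 d).2⟩, by
        rintro (e | e)
        · exact (hfree d).2 (MulAction.injective t (D.map1.trans (congrArg Subtype.val e).symm))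
        · exact (hfree d).1 (MulAction.injective t (D.map0.trans (congrArg Subtype.val e).symm))⟩)
    have hcross : ∀ d d' : F₀, (d : G) • c ≠ t • (d' : G) • c := fun d d' he => by
      refine D.swap (hfree d').1 (hfree d').2 ⟨⟨(d : G) * (d' : G)⁻¹, mul_mem d.2.1 (inv_mem d'.2.1)⟩, ?_⟩
      show ((d : G) * (d' : G)⁻¹) • (d' : G) • c = _
      rw [mul_smul, inv_smul_smul, he]
    have hbij : Function.Bijective e := by
      refine ⟨?_, fun x => ?_⟩
      · have hinj' : ∀ d d' : F₀, (d : G) • c = (d' : G) • c → d = d' := fun d d' he =>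
          hinj (Subtype.ext (Equiv.ext fun w => by
            have h1 := (D.core a b hab).free _ (mul_mem (inv_mem d'.2.1) d.2.1) c hac hbc
              (by rw [mul_smul, he, inv_smul_smul])
            rw [(Subtype.ext (inv_mul_eq_one.1 h1).symm : d = d')]))
        rintro (d | d) (d' | d') he
        · exact congrArg Sum.inl (hinj' d d' (congrArg (fun z : {x : Φ // _} => ((z : Φ) : Ω)) he))
        · exact absurd (congrArg (fun z : {x : Φ // _} => ((z : Φ) : Ω)) he) (hcross d d')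
        · exact absurd (congrArg (fun z : {x : Φ // _} => ((z : Φ) : Ω)) he).symm (hcross d' d)
        · exact congrArg Sum.inr (hinj' d d'
            (MulAction.injective t (congrArg (fun z : {x : Φ // _} => ((z : Φ) : Ω)) he)))
      · obtain ⟨x, hx⟩ := x
        push Not at hx
        obtain ⟨d, hd, he | he⟩ := D.fix_cases (x := (x : Ω)) (fun e => hx.1 (Subtype.ext e.symm))
          (fun e => hx.2 (Subtype.ext e.symm)) (hmemΦ.1 x.2)
        · exact ⟨Sum.inl ⟨d, hd⟩, Subtype.ext (Subtype.ext he)⟩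
        · exact ⟨Sum.inr ⟨d, hd⟩, Subtype.ext (Subtype.ext he)⟩
    have h := Nat.card_eq_of_bijective e hbij
    have h2c : Fintype.card {x : Φ // x = xa ∨ x = xb} = 2 := by
      rw [Fintype.card_subtype, show (Finset.univ.filter fun x : Φ => x = xa ∨ x = xb) = {xa, xb} by ext; simp,
        Finset.card_pair hxab]
    rw [Nat.card_sum, Nat.card_eq_fintype_card (α := {x : Φ // ¬ (x = xa ∨ x = xb)}), Fintype.card_subtype_compl,
      h2c] at h
    have : 2 ≤ Fintype.card Φ := Fintype.one_lt_card_iff.2 ⟨xa, xb, hxab⟩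
    omega
  -- the translations
  obtain ⟨V, A⟩ := D.aff a
  set W : Subgroup G := V ⊓ centralizer (U : Set G) with hW
  have hWJ : W ≤ J := fun v hv => ⟨A.le hv.1, hcN hv.2⟩
  have hWfix : ∀ v ∈ W, ∀ x : Φ, v • (x : Ω) ∈ Φ := fun v hv x => hmemΦ.2 (D.commute_fix hv.2 (hmemΦ.1 x.2))
  have hWtr : ∀ y z : Φ, y ≠ xa → z ≠ xa → ∃ v : G, v ∈ W ∧ v • (y : Ω) = z := by
    intro y z hy hz
    have hay : a ≠ (y : Ω) := fun e => hy (Subtype.ext e.symm)
    have haz : a ≠ (z : Ω) := fun e => hz (Subtype.ext e.symm)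
    obtain ⟨v, hv, he⟩ := A.trans hay haz
    refine ⟨v, ⟨hv, mem_centralizer_iff.2 fun u hu => ?_⟩, he⟩
    have hua : u • a = a := hmemΦ.1 (hU 0) u hu
    have := A.eq_of_smul_eq hay (A.norm u hua v hv) hv (by
      rw [A.conj_smul hay hua (hmemΦ.1 y.2 u hu) hv, he, hmemΦ.1 z.2 u hu])
    exact mul_inv_eq_iff_eq_mul.1 this
  obtain ⟨j, -, hj⟩ := (Nat.dvd_prime_pow A.prime).1 (A.card ▸ card_dvd_of_le (inf_le_left : W ≤ V))
  have hn1 : Fintype.card Φ = p ^ j + 1 := by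
    have hbne : ∀ v : W, (⟨(v : G) • b, hWfix v v.2 xb⟩ : Φ) ≠ xa := fun v e =>
      hab (MulAction.injective (v : G) ((A.fixes v.2.1).trans (congrArg Subtype.val e).symm))
    have hbij : Function.Bijective fun v : W => (⟨_, hbne v⟩ : {x : Φ // x ≠ xa}) := by
      refine ⟨fun v v' he => Subtype.ext (A.eq_of_smul_eq hab v.2.1 v'.2.1
        (congrArg (fun z : {x : Φ // x ≠ xa} => ((z : Φ) : Ω)) he)), fun z => ?_⟩
      obtain ⟨v, hv, he⟩ := hWtr xb z hxab.symm z.2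
      exact ⟨⟨v, hv⟩, Subtype.ext (Subtype.ext he)⟩
    have h := Nat.card_eq_of_bijective _ hbij
    rw [hj, Nat.card_eq_fintype_card (α := {x : Φ // x ≠ xa}), Fintype.card_subtype_compl, Fintype.card_subtype_eq] at h
    omega
  have hkj : 2 * k₀ + 1 = p ^ j := by omega
  have hp2 : p % 2 = 1 := by
    rcases A.prime.eq_two_or_odd with h | h
    · exact absurd h A.ne_two
    · exact h
  have hpj : p ^ j % 4 = 3 := by
    have := Nat.odd_iff.1 hk₀odd
    omega
  have hjodd : Odd j := by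
    rw [← Nat.not_even_iff_odd]
    rintro ⟨i, rfl⟩
    rw [← two_mul, pow_mul, Nat.pow_mod, Nat.pow_mod p 2] at hpj
    rcases (show p % 4 = 1 ∨ p % 4 = 3 by omega) with h | h <;> rw [h] at hpj <;> simp at hpj
  have hp4 : p % 4 = 3 := by
    rcases (show p % 4 = 1 ∨ p % 4 = 3 by omega) with h | h
    · rw [Nat.pow_mod, h, one_pow] at hpj
      simp at hpj
    · exact h
  have hk₁ : 1 < k₀ := by
    by_contra hle
    have hk1 : k₀ = 1 := by have := hk₀odd.pos; omega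
    rw [hk1] at hkj
    have hdvd : p ∣ 3 := (dvd_pow_self p hjodd.pos.ne').trans (dvd_of_eq hkj.symm)
    exact A.p_ne_three ((Nat.prime_dvd_prime_iff_eq A.prime Nat.prime_three).1 hdvd)
  -- a Zassenhaus group
  have hfaith : FaithfulSMul P Φ := ⟨fun h => Subtype.ext (Equiv.ext fun x => h x)⟩
  have hZ : Cfsg.IsZassenhausGroup P Φ := by
    refine ⟨hfaith, h2, fun q x y z hxy hyz hxz hx hy hz => ?_, ?_, fun R hR hRt => ?_⟩
    · obtain ⟨g, rfl⟩ := hπ q
      exact hthree g hxy hxz hyz (congrArg Subtype.val hx) (congrArg Subtype.val hy) (congrArg Subtype.val hz)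
    · haveI : Nontrivial F₀ := Finite.one_lt_card_iff_nontrivial.1 hk₁
      obtain ⟨d, hd⟩ := exists_ne (1 : F₀)
      obtain ⟨-, hda, hdb⟩ := mem_stab2.1 (fit2_le M a b d.2.1)
      refine ⟨π ⟨d, hF₀J d.2⟩, fun h => hd (hinj (h.trans (map_one π).symm)), xa, xb, hxab, Subtype.ext hda,
        Subtype.ext hdb⟩
    · refine ⟨xa, fun hreg => ?_⟩
      obtain ⟨r, hr, hrg⟩ := CfsgLib.Perm.Burnside2.isPGroup_of_regular h2 R xa hreg
      haveI := Fact.mk hr
      obtain ⟨i, hi⟩ := IsPGroup.iff_card.1 hrg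
      have hcard : Nat.card R = Fintype.card Φ := by
        rw [← Nat.card_eq_fintype_card, ← index_stabilizer_of_transitive R xa, hreg, index_bot]
      have h2' : 2 ∣ Nat.card R := ⟨k₀ + 1, by rw [hcard, hn0]; ring⟩
      have h3' : 3 ∣ Nat.card R := by
        rw [hcard, hn1]
        refine Nat.dvd_of_mod_eq_zero ?_
        rw [Nat.add_mod, Nat.pow_mod, A.mod_three]
        obtain ⟨i, rfl⟩ := hjodd
        rw [pow_succ, pow_mul]
        norm_num [Nat.mul_mod, Nat.pow_mod]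
      rw [hi] at h2' h3'
      have e2 := (Nat.prime_dvd_prime_iff_eq Nat.prime_two hr).1 (Nat.prime_two.dvd_of_dvd_pow h2')
      have e3 := (Nat.prime_dvd_prime_iff_eq Nat.prime_three hr).1 (Nat.prime_three.dvd_of_dvd_pow h3')
      omega
  -- its order
  have hcardP : Nat.card P = (p ^ j + 1) * (p ^ j * k₀) := by
    haveI := h2
    haveI : IsPretransitive P Φ := isPretransitive_of_is_two_pretransitive
    rw [card_eq_mul_stab2 (M := P) h2 hxab, hn1, Nat.add_sub_cancel]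
    congr 2
    refine (Nat.card_eq_of_bijective (fun d : F₀ =>
      (⟨((π ⟨d, hF₀J d.2⟩ : P) : Equiv.Perm Φ), mem_stab2.2 ⟨(π ⟨d, hF₀J d.2⟩).2,
        Subtype.ext (mem_stab2.1 (fit2_le M a b d.2.1)).2.1, Subtype.ext (mem_stab2.1 (fit2_le M a b d.2.1)).2.2⟩⟩ :
          stab2 P xa xb)) ⟨fun d d' he => hinj (Subtype.ext (congrArg Subtype.val he :)), fun q => ?_⟩).symm
    obtain ⟨hqP, hqa, hqb⟩ := mem_stab2.1 q.2
    obtain ⟨d, hd⟩ := hfix2 ⟨q, hqP⟩ hqa hqb
    exact ⟨d, Subtype.ext (congrArg Subtype.val hd).symm⟩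
  -- the classification
  let ω : W →* P := π.comp (inclusion hWJ)
  have hWab : IsMulCommutative ω.range := ⟨⟨fun x y => by
    obtain ⟨v, hv⟩ := x.2
    obtain ⟨w, hw⟩ := y.2
    exact Subtype.ext (show (x : P) * y = y * x by
      rw [← hv, ← hw, ← map_mul, ← map_mul, show v * w = w * v from Subtype.ext (A.comm _ v.2.1 _ w.2.1)])⟩⟩
  have hclass := CfsgLib.Perm.zass_abelian_kernel_classify hZ xa ω.range
    (by rintro _ ⟨v, rfl⟩; exact Subtype.ext (A.fixes v.2.1)) hWab (fun y z hy hz => by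
      obtain ⟨v, hv, he⟩ := hWtr y z hy hz
      refine ⟨⟨ω ⟨v, hv⟩, ⟨v, hv⟩, rfl⟩, Subtype.ext he, ?_⟩
      rintro ⟨_, w, rfl⟩ hw
      have hw' : (w : G) • (y : Ω) = z := congrArg Subtype.val hw
      have hwv : w = ⟨v, hv⟩ := Subtype.ext (A.eq_of_smul_eq (fun e : a = (y : Ω) => hy (Subtype.ext e.symm)) w.2.1 hv.1
        (hw'.trans he.symm))
      subst hwv
      rfl)
  obtain ⟨K, iK, iKt, hK, hiso⟩ : ∃ (K : Type) (_ : Field K) (_ : Fintype K), ringChar K ≠ 2 ∧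
      Nonempty (P ≃* Matrix.ProjectiveSpecialLinearGroup (Fin 2) K) := by
    rcases hclass with ⟨h3, -⟩ | h
    · exfalso
      have hd1 : (1 : G) ∈ F₀ := one_mem _
      obtain ⟨hne, hne'⟩ := hfree 1
      have hta : a ≠ t • c := fun e => hbc (MulAction.injective t (D.map1.trans e))
      have htb : b ≠ t • c := fun e => hac (MulAction.injective t (D.map0.trans e))
      let xd : Φ := ⟨t • c, hmemΦ.2 (D.t_fix (hmemΦ.1 (hU 2)))⟩
      obtain ⟨q, hq⟩ := h3.exists_smul_eq (trip xa xb xc hxab hxac hxbc)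
        (trip xa xb xd hxab (fun e => hta (congrArg Subtype.val e)) (fun e => htb (congrArg Subtype.val e)))
      obtain ⟨d, rfl⟩ := hfix2 q (DFunLike.congr_fun hq 0) (DFunLike.congr_fun hq 1)
      exact D.swap hac hbc ⟨⟨d, d.2.1⟩, congrArg Subtype.val (DFunLike.congr_fun hq 2)⟩
    · exact h
  have hKodd : Fintype.card K % 2 = 1 := by
    rcases Nat.mod_two_eq_zero_or_one (Fintype.card K) with h | h
    · exact absurd (FiniteField.even_card_iff_char_two.2 h) hK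
    · exact h
  have hker : Odd (Nat.card π.ker) := by
    refine (D.half.odd_stab2 a b).of_dvd_nat ?_
    rw [← card_map_of_injective (K := π.ker) J.subtype_injective]
    refine card_dvd_of_le ?_
    rintro _ ⟨g, hg, rfl⟩
    have hg' : π g = 1 := hg
    have h : ∀ x : Φ, (g : G) • (x : Ω) = x := fun x => by rw [← hπa, hg', one_smul]
    exact mem_stab2.2 ⟨g.2.1, h xa, h xb⟩
  exact ⟨k₀, j, P, π, K, iK, iKt, hπ, hker, hk₀odd, hjodd, hkj, hp4, hcardP, hKodd, hiso⟩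

theorem sylow_dihedral (S : Sylow 2 M) : ∃ n, 2 ≤ n ∧ Nonempty ((S : Subgroup M) ≃* DihedralGroup n) := by
  classical
  haveI : Fact (Nat.Prime 2) := ⟨Nat.prime_two⟩
  have hfs := D.fix_structure
  set J : Subgroup G := M ⊓ normalizer (stab3 M t₀ : Set G) with hJ
  obtain ⟨k₀, j, P, π, K, iK, iKt, hπ, hker, hk, hj, hkj, hp4, hP, hK, ⟨ε⟩⟩ := hfs
  set J' : Subgroup M := J.subgroupOf M with hJ'
  let e : J' ≃* J := subgroupOfEquivOfLe inf_le_left
  have hp : Odd p := Nat.odd_iff.2 (by omega)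
  obtain ⟨s, hs, hps⟩ : ∃ s, Odd s ∧ p ^ j + 1 = (p + 1) * s := by
    obtain ⟨i, rfl⟩ := hj
    exact exists_odd_factor hp i
  obtain ⟨s', hs', hps'⟩ : ∃ s, Odd s ∧ Fintype.card Ω = (p + 1) * s := by
    obtain ⟨V, A⟩ := D.aff (t₀ 0)
    obtain ⟨i, hi⟩ := D.f_odd
    rw [← A.degree, hi]
    exact exists_odd_factor hp i
  -- the index is odd
  have hidx : ¬ 2 ∣ J'.index := by
    have hM := card_eq_mul_stab2 D.ctx.trans2 D.ne01
    have hJc : Nat.card J' = (p + 1) * (s * (p ^ j * k₀) * Nat.card π.ker) := by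
      rw [Nat.card_congr e.toEquiv, ← index_mul_card π.ker, index_ker, MonoidHom.range_eq_top.2 hπ, card_top, hP, hps]
      ring
    rw [← index_mul_card J', hJc, hps'] at hM
    have h1 : J'.index * (s * (p ^ j * k₀) * Nat.card π.ker) =
        s' * (((p + 1) * s' - 1) * Nat.card (stab2 M (t₀ 0) (t₀ 1))) := by
      refine Nat.eq_of_mul_eq_mul_left (show 0 < p + 1 by omega) ?_
      rw [← mul_assoc (p + 1) s']
      rw [← hM]
      ring
    have hev : Even ((p + 1) * s') := (even_iff_two_dvd.2 (by omega : 2 ∣ p + 1)).mul_right _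
    have hodd : Odd ((p + 1) * s' - 1) := by
      obtain ⟨i, hi⟩ := hev
      have : 0 < (p + 1) * s' := Nat.mul_pos (by omega) hs'.pos
      exact ⟨i - 1, by omega⟩
    have hr : Odd (J'.index * (s * (p ^ j * k₀) * Nat.card π.ker)) := h1 ▸ hs'.mul (hodd.mul (D.half.odd_stab2 _ _))
    exact Nat.not_even_iff_odd.2 (Nat.odd_mul.1 hr).1 ∘ even_iff_two_dvd.2
  obtain ⟨T⟩ : Nonempty (Sylow 2 J') := inferInstance
  let ψ : J' →* Matrix.ProjectiveSpecialLinearGroup (Fin 2) K := ε.toMonoidHom.comp (π.comp e.toMonoidHom)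
  have hψ : Function.Surjective ψ := ε.surjective.comp (hπ.comp e.surjective)
  obtain ⟨n, hn, ⟨η⟩⟩ := exists_dihedral_psl hK (T.mapSurjective hψ)
  have hψT : Function.Injective (ψ.comp (T : Subgroup J').subtype) := (injective_iff_map_eq_one _).2 fun x hx => by
    have hx' : (e (x : J')) ∈ π.ker := (map_eq_one_iff _ ε.injective).1 hx
    obtain ⟨i, hi⟩ := T.isPGroup' x
    have h2 := orderOf_dvd_of_pow_eq_one hi
    have h1 : orderOf x ∣ Nat.card π.ker := by
      rw [← Subgroup.orderOf_coe, ← e.orderOf_eq]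
      exact Subgroup.orderOf_dvd_natCard _ hx'
    obtain ⟨l, -, hl⟩ := (Nat.dvd_prime_pow Nat.prime_two).1 h2
    rcases l with _ | l
    · exact orderOf_eq_one_iff.1 hl
    · exact absurd (hker.of_dvd_nat ((hl ▸ dvd_pow_self 2 (Nat.succ_ne_zero l)).trans h1)) (by decide)
  have hT : Nat.card ((T : Subgroup J').map J'.subtype) = 2 ^ (Nat.card M).factorization 2 := by
    rw [card_map_of_injective J'.subtype_injective, T.card_eq_multiplicity, ← index_mul_card J',
      Nat.factorization_mul J'.index_ne_zero_of_finite Nat.card_pos.ne', Finsupp.add_apply,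
      Nat.factorization_eq_zero_of_not_dvd hidx, zero_add]
  set S₀ : Sylow 2 M := Sylow.ofCard _ hT with hS₀
  let ρ₁ : ((T : Subgroup J').map J'.subtype : Subgroup M) ≃* (T : Subgroup J') :=
    ((T : Subgroup J').equivMapOfInjective _ J'.subtype_injective).symm
  let ρ₂ : (T : Subgroup J') ≃* (ψ.comp (T : Subgroup J').subtype).range := MonoidHom.ofInjective hψT
  have hrange : (ψ.comp (T : Subgroup J').subtype).range = ((T.mapSurjective hψ : Sylow 2 _) : Subgroup _) := by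
    rw [Sylow.coe_mapSurjective, MonoidHom.range_comp, range_subtype]
  exact ⟨n, hn, ⟨(S.equiv S₀).trans ((MulEquiv.subgroupCongr (Sylow.coe_ofCard _ hT)).trans
    (ρ₁.trans (ρ₂.trans ((MulEquiv.subgroupCongr hrange).trans η))))⟩⟩

end Frame

end CfsgLib.Wagner
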