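import Cfsg.Agent.Lib.Perm.Wagner.HalfBasic

/-!
Owner: helper12. S3255 (Wagner), part (b): an involution at a pair.

* `Frame Ω M p f t₀ t`: translations everywhere, the cores, and an involution `t` of `M` exchanging `t₀ 0` and
  `t₀ 1` that centralises `stab3 M t₀`.
* `Frame.orbit_fit2`, `Frame.two_card`, `Frame.swap`: the torus `fit2` and the exchange of its two orbits.
* `Half.exists_frame`.
-/

set_option autoImplicit false
set_option linter.unusedSectionVars false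

namespace CfsgLib.Wagner

open Subgroup MulAction

universe u

variable {G : Type u} [Group G] [Finite G] {Ω : Type u} [Fintype Ω] [MulAction G Ω] [FaithfulSMul G Ω]

variable (Ω) in
/-- The data of part (b) at a triple. -/
structure Frame (M : Subgroup G) (p f : ℕ) (t₀ : Fin 3 ↪ Ω) (t : G) : Prop where
  half : Half Ω M
  aff : ∀ a : Ω, ∃ V, Aff M a V p f
  core : ∀ a b : Ω, a ≠ b → Core M a b f
  f_odd : Odd f
  mem : t ∈ M
  invol : t * t = 1
  map0 : t • t₀ 0 = t₀ 1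
  map1 : t • t₀ 1 = t₀ 0
  comm : ∀ u ∈ stab3 M t₀, t * u = u * t

/-- A power of an element exchanging two points, with odd stabiliser, is an involution exchanging them. -/
theorem exists_invol_of_swap {M : Subgroup G} {a b : Ω} (hodd : Odd (Nat.card (stab2 M a b))) {m : G} (hm : m ∈ M)
    (h0 : m • a = b) (h1 : m • b = a) : ∃ t ∈ zpowers m, t * t = 1 ∧ t • a = b ∧ t • b = a := by
  obtain ⟨e, d, hd, hord⟩ := Nat.exists_eq_pow_mul_and_not_dvd (orderOf_pos m).ne' 2 (by decide)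
  obtain ⟨j, rfl⟩ : ∃ j, d = 2 * j + 1 := ⟨d / 2, by omega⟩
  have h20 : ∀ i : ℕ, (m ^ (2 * i)) • a = a ∧ (m ^ (2 * i)) • b = b := fun i => by
    induction i with
    | zero => simp
    | succ i ih =>
      rw [Nat.mul_succ, pow_add, pow_two, mul_smul, mul_smul, mul_smul, mul_smul, h0, h1, h0]
      exact ih
  set t := m ^ (2 * j + 1) with ht
  have hta : t • a = b := by rw [ht, pow_succ', mul_smul, (h20 j).1, h0]
  have htb : t • b = a := by rw [ht, pow_succ', mul_smul, (h20 j).2, h1]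
  refine ⟨t, pow_mem (mem_zpowers m) _, ?_, hta, htb⟩
  have htM : t * t ∈ stab2 M a b :=
    mem_stab2.2 ⟨mul_mem (pow_mem hm _) (pow_mem hm _), by rw [mul_smul, hta, htb], by rw [mul_smul, htb, hta]⟩
  have hpow : (t * t) ^ 2 ^ e = 1 := by
    rw [← pow_two, ← pow_mul, ht, ← pow_mul, show (2 * j + 1) * (2 * 2 ^ e) = 2 ^ e * (2 * j + 1) * 2 by ring,
      pow_mul, ← hord, pow_orderOf_eq_one, one_pow]
  obtain ⟨i, -, hi⟩ := (Nat.dvd_prime_pow Nat.prime_two).1 (orderOf_dvd_of_pow_eq_one hpow)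
  rcases i with _ | i
  · exact orderOf_eq_one_iff.1 hi
  · exact absurd (hodd.of_dvd_nat ((hi ▸ dvd_pow_self 2 (Nat.succ_ne_zero i)).trans
      (Subgroup.orderOf_dvd_natCard _ htM))) (by decide)

namespace Frame

variable {M : Subgroup G} {p f : ℕ} {t₀ : Fin 3 ↪ Ω} {t : G} (D : Frame Ω M p f t₀ t)
include D

theorem ctx : Ctx Ω M := D.half.ctx

theorem ne01 : t₀ 0 ≠ t₀ 1 := trip_ne t₀ (by decide)

/-- The orbits of the torus are those of the two-point stabiliser. -/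
theorem orbit_fit2 {c : Ω} (hac : t₀ 0 ≠ c) (hbc : t₀ 1 ≠ c) :
    orbit (fit2 M (t₀ 0) (t₀ 1)) c = orbit (stab2 M (t₀ 0) (t₀ 1)) c := by
  have hsub : orbit (fit2 M (t₀ 0) (t₀ 1)) c ⊆ orbit (stab2 M (t₀ 0) (t₀ 1)) c := by
    rintro _ ⟨⟨y, hy⟩, rfl⟩
    exact ⟨⟨y, fit2_le M _ _ hy⟩, rfl⟩
  refine Set.eq_of_subset_of_ncard_le hsub ?_ (Set.toFinite _)
  rw [← Nat.card_coe_set_eq, (card_orbit_eq_fit2 D.aff D.ctx D.ne01 (D.core _ _ D.ne01) D.f_odd hac hbc).1,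
    ← Nat.card_coe_set_eq]
  refine Nat.card_le_card_of_injective (fun g : fit2 M (t₀ 0) (t₀ 1) =>
    (⟨(g : G) • c, ⟨g, rfl⟩⟩ : orbit (fit2 M (t₀ 0) (t₀ 1)) c)) ?_
  intro g g' he
  have he' : (g : G) • c = (g' : G) • c := congrArg Subtype.val he
  have : (g' : G)⁻¹ * g = 1 := (D.core _ _ D.ne01).free _ (mul_mem (inv_mem g'.2) g.2) c hac hbc
    (by rw [mul_smul, he', inv_smul_smul])
  exact Subtype.ext (inv_mul_eq_one.1 this).symm

theorem two_card : Fintype.card Ω - 2 = 2 * Nat.card (fit2 M (t₀ 0) (t₀ 1)) ∧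
    Odd (Nat.card (fit2 M (t₀ 0) (t₀ 1))) := by
  have h02 : t₀ 0 ≠ t₀ 2 := trip_ne t₀ (by decide)
  have h12 : t₀ 1 ≠ t₀ 2 := trip_ne t₀ (by decide)
  have h := D.half.two_mul D.ne01 h02 h12
  rwa [(card_orbit_eq_fit2 D.aff D.ctx D.ne01 (D.core _ _ D.ne01) D.f_odd h02 h12).1] at h

/-- The involution exchanges the two orbits. -/
theorem swap {c : Ω} (hac : t₀ 0 ≠ c) (hbc : t₀ 1 ≠ c) :
    t • c ∉ orbit (fit2 M (t₀ 0) (t₀ 1)) c := by
  rw [D.orbit_fit2 hac hbc]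
  intro h
  have hac' : t₀ 0 ≠ t • c := fun e => hbc (MulAction.injective t (D.map1.trans e))
  have hbc' : t₀ 1 ≠ t • c := fun e => hac (MulAction.injective t (D.map0.trans e))
  have h1 : Col M (trip (t₀ 0) (t₀ 1) c D.ne01 hac hbc) (trip (t₀ 0) (t₀ 1) (t • c) D.ne01 hac' hbc') := col_trip h
  have h2 : Col M (trip (t₀ 0) (t₀ 1) c D.ne01 hac hbc) (swap01 (trip (t₀ 0) (t₀ 1) (t • c) D.ne01 hac' hbc')) :=
    ⟨t, D.mem, trip_ext D.map0 D.map1 rfl⟩
  exact D.half.not_col_swap _ (h1.symm.trans h2)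

end Frame

theorem Half.exists_frame {M : Subgroup G} (hH : Half Ω M) :
    ∃ (p f : ℕ) (t₀ : Fin 3 ↪ Ω) (t : G), Frame Ω M p f t₀ t := by
  classical
  haveI := hH.ctx.normal
  obtain ⟨t₀, -, -⟩ := hH.ne
  obtain ⟨V, p, f, A⟩ := hH.exists_aff (t₀ 0)
  have hA := A.all hH.ctx
  have hcore : ∀ a b : Ω, a ≠ b → Core M a b f := fun a b hab =>
    (hA a).choose_spec.core hH.ctx hab (hH.solvable_stab2 a b)
  set a := t₀ 0 with ha0
  set b := t₀ 1 with hb0
  have hab : a ≠ b := trip_ne t₀ (by decide)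
  set U := stab3 M t₀ with hUdef
  obtain ⟨m, hm, h0, h1⟩ := exists_map2 hH.ctx.trans2 hab hab.symm
  obtain ⟨t₁, ht₁, ht₁2, ht₁a, ht₁b⟩ := exists_invol_of_swap (hH.odd_stab2 a b) hm h0 h1
  have ht₁M : t₁ ∈ M := zpowers_le.2 hm ht₁
  -- the conjugate of `U` is a complement over the same pair
  set c' := t₁ • t₀ 2 with hc'
  have hac' : a ≠ c' := fun e => trip_ne t₀ (show (1 : Fin 3) ≠ 2 by decide)
    (MulAction.injective t₁ (ht₁b.trans e))
  have hbc' : b ≠ c' := fun e => trip_ne t₀ (show (0 : Fin 3) ≠ 2 by decide)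
    (MulAction.injective t₁ (ht₁a.trans e))
  have hU1 : U.map (MulAut.conj t₁).toMonoidHom = stab3 M (trip a b c' hab hac' hbc') := by
    rw [hUdef, map_conj_stab3]
    ext g
    simp only [mem_stab3, trip_zero, trip_one, trip_two, smul_trip_apply]
    rw [← ha0, ← hb0, ht₁a, ht₁b]
    tauto
  obtain ⟨x, hx, hxU⟩ := exists_conj_stab3 hH.ctx hA hcore A.f_odd (trip a b c' hab hac' hbc') t₀ rfl rfl
  obtain ⟨hxM, hxa, hxb⟩ := mem_stab2.1 hx
  set m' := x * t₁ with hm'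
  have hm'N : m' ∈ normalizer (U : Set G) := by
    refine mem_normalizer_iff_map_conj_eq.2 ?_
    conv_rhs => rw [hUdef, ← hxU, ← hU1, Subgroup.map_map]
    congr 1
    ext y
    simp [hm', mul_assoc]
  obtain ⟨t, ht, ht2, hta, htb⟩ := exists_invol_of_swap (hH.odd_stab2 a b) (mul_mem hxM ht₁M)
    (show m' • a = b by rw [hm', mul_smul, ht₁a, hxb]) (show m' • b = a by rw [hm', mul_smul, ht₁b, hxa])
  have htM : t ∈ M := zpowers_le.2 (mul_mem hxM ht₁M) ht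
  have htN : t ∈ normalizer (U : Set G) := zpowers_le.2 hm'N ht
  refine ⟨p, f, t₀, t, hH, hA, hcore, A.f_odd, htM, ht2, hta, htb, fun u hu => ?_⟩
  have hu' : t * u * t⁻¹ ∈ U := (mem_normalizer_iff.1 htN u).1 hu
  obtain ⟨-, hua, hub, huc⟩ := mem_stab3.1 hu
  obtain ⟨e, he⟩ := exists_actPow hH.ctx hab (hcore a b hab) hua hub
  have he' := (he.conj t)
  rw [hta, htb] at he'
  have he'' := he'.symm
  have hK := hcore a b hab
  have hmem2 : u⁻¹ * (t * u * t⁻¹) ∈ U := mul_mem (inv_mem hu) hu'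
  have hF : u⁻¹ * (t * u * t⁻¹) ∈ fit2 M a b := by
    refine hK.self _ (stab3_le_stab2 M t₀ hmem2) fun y hy => mul_inv_eq_iff_eq_mul.1 ?_
    rw [show u⁻¹ * (t * u * t⁻¹) * y * (u⁻¹ * (t * u * t⁻¹))⁻¹ = u⁻¹ * ((t * u * t⁻¹) * y * (t * u * t⁻¹)⁻¹) * u by group,
      he'' y hy, ← he y hy]
    group
  obtain ⟨-, -, -, hc⟩ := mem_stab3.1 hmem2
  have h1' := hK.free _ hF (t₀ 2) (trip_ne t₀ (by decide)) (trip_ne t₀ (by decide)) hc
  have h2' : u = t * u * t⁻¹ := inv_mul_eq_one.1 h1'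
  conv_rhs => rw [h2', inv_mul_cancel_right]

end CfsgLib.Wagner
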