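import Mathlib
import Cfsg.Agent.Lib.Core.HallHigman
import Cfsg.Agent.Lib.Recog.Huppert.Ppd

/-!
Owner: helper12. S3255 (Wagner): finite groups transitive on the nonzero vectors of an odd dimensional space.

* `Semi`: `L` acts faithfully on `W` of order `p ^ f`, `f` odd, transitively outside zero.
* `Irred`: an element without proper invariant subgroups; `free`, `cent_cyclic`, `pow_commute`.
* `Good`: it centralises each nilpotent subgroup it normalises; `exists_irred_good`, `prime_irred_good`.
-/

set_option autoImplicit false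
set_option linter.unusedSectionVars false

namespace CfsgLib.Wagner

open Subgroup

universe u v

variable {L : Type u} [Group L] [Finite L] {W : Type v} [AddCommGroup W] [Finite W]

theorem end_mul_apply (a b : AddMonoid.End W) (w : W) : (a * b) w = a (b w) := rfl

theorem finite_end : Finite (AddMonoid.End W) := Finite.of_injective _ DFunLike.coe_injective

/-- In a finite cyclic group two elements of one order generate the same subgroup. -/
theorem mem_zpowers_of_orderOf_eq {X : Type*} [Group X] [Finite X] [IsCyclic X] {a b : X}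
    (h : orderOf a = orderOf b) : a ∈ zpowers b := by
  classical
  haveI := Fintype.ofFinite X
  let S : Finset X := Finset.univ.filter fun z => z ^ orderOf b = 1
  have h1 : S.card ≤ orderOf b := IsCyclic.card_pow_eq_one_le (orderOf_pos b)
  have h2 : (Finset.univ.filter fun z => z ∈ zpowers b) ⊆ S := fun z hz => by
    obtain ⟨i, rfl⟩ := mem_zpowers_iff.1 (Finset.mem_filter.1 hz).2
    exact Finset.mem_filter.2 ⟨Finset.mem_univ _, by
      rw [← zpow_natCast, ← zpow_mul, mul_comm, zpow_mul, zpow_natCast, pow_orderOf_eq_one, one_zpow]⟩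
  have h3 : (Finset.univ.filter fun z => z ∈ zpowers b).card = orderOf b := by
    rw [← Nat.card_zpowers, Nat.card_eq_fintype_card, Fintype.card_subtype]
  have ha : a ∈ S := Finset.mem_filter.2 ⟨Finset.mem_univ _, h ▸ pow_orderOf_eq_one a⟩
  rw [← Finset.eq_of_subset_of_card_le h2 (h3.symm ▸ h1)] at ha
  exact (Finset.mem_filter.1 ha).2

/-- A subgroup containing a Sylow subgroup for each prime is everything. -/
theorem eq_top_of_sylow {X : Type*} [Group X] [Finite X] (D : Subgroup X)
    (h : ∀ (s : ℕ) [Fact s.Prime], ∃ P : Sylow s X, (P : Subgroup X) ≤ D) : D = ⊤ := by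
  refine Subgroup.eq_top_of_card_eq D (Nat.dvd_antisymm D.card_subgroup_dvd_card ?_)
  refine (Nat.factorization_le_iff_dvd Nat.card_pos.ne' Nat.card_pos.ne').1 fun s => ?_
  by_cases hs : s.Prime
  · haveI := Fact.mk hs
    obtain ⟨P, hP⟩ := h s
    rw [← hs.pow_dvd_iff_le_factorization Nat.card_pos.ne', ← P.card_eq_multiplicity]
    exact card_dvd_of_le hP
  · simp [Nat.factorization_eq_zero_of_not_prime _ hs]

/-- A faithful representation on `p ^ f` vectors, `f` odd, transitive outside zero. -/
structure Semi (r : L →* AddMonoid.End W) (p f : ℕ) : Prop where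
  prime : p.Prime
  f_odd : Odd f
  card : Nat.card W = p ^ f
  faith : ∀ y : L, (∀ w, r y w = w) → y = 1
  trans : ∀ v w : W, v ≠ 0 → w ≠ 0 → ∃ y, r y v = w

/-- No proper subgroup is invariant. -/
def Irred (r : L →* AddMonoid.End W) (x : L) : Prop :=
  ∀ S : AddSubgroup W, (∀ w ∈ S, r x w ∈ S) → S = ⊥ ∨ S = ⊤

/-- Each nilpotent normalised subgroup is centralised. -/
def Good (x : L) : Prop :=
  ∀ R : Subgroup L, Group.IsNilpotent R → (∀ y ∈ R, x * y * x⁻¹ ∈ R) → ∀ y ∈ R, Commute x y

variable {r : L →* AddMonoid.End W} {p f : ℕ} (hS : Semi r p f)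
include hS

namespace Semi

theorem apply_inv (y : L) (w : W) : r y (r y⁻¹ w) = w := by
  rw [← end_mul_apply, ← map_mul, mul_inv_cancel, map_one]
  rfl

theorem eq_of_apply {y z : L} (h : r y = r z) : y = z := by
  refine mul_inv_eq_one.1 (hS.faith _ fun w => ?_)
  rw [map_mul, end_mul_apply, h, hS.apply_inv]

theorem f_pos : 0 < f := hS.f_odd.pos

theorem nontrivial : Nontrivial W :=
  Finite.one_lt_card_iff_nontrivial.1 (hS.card ▸ Nat.one_lt_pow hS.f_pos.ne' hS.prime.one_lt)

theorem smul_prime (hf : f = 1) (S : AddSubgroup W) : S = ⊥ ∨ S = ⊤ := by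
  haveI := Fact.mk hS.prime
  rcases (Nat.dvd_prime hS.prime).1
    (show Nat.card S ∣ p by simpa [hS.card, hf] using AddSubgroup.card_addSubgroup_dvd_card S) with h | h
  · exact Or.inl (AddSubgroup.eq_bot_of_card_eq S h)
  · exact Or.inr (AddSubgroup.eq_top_of_card_eq S (by rw [h, hS.card, hf, pow_one]))

theorem nsmul_eq_zero (v : W) : p • v = 0 := by
  haveI := Fact.mk hS.prime
  rcases eq_or_ne v 0 with rfl | hv
  · exact nsmul_zero p
  obtain ⟨w, hw⟩ := exists_prime_addOrderOf_dvd_card' (G := W) p (hS.card ▸ dvd_pow_self p hS.f_pos.ne')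
  have hw0 : w ≠ 0 := fun h => by
    rw [h, addOrderOf_zero] at hw
    exact hS.prime.one_lt.ne hw
  obtain ⟨y, rfl⟩ := hS.trans w v hw0 hv
  rw [← map_nsmul, ← hw, addOrderOf_nsmul_eq_zero, map_zero]

theorem card_dvd : p ^ f - 1 ∣ Nat.card L := by
  classical
  haveI := hS.nontrivial
  obtain ⟨v, hv⟩ := exists_ne (0 : W)
  letI : MulAction L W :=
    { smul := fun y w => r y w
      one_smul := fun w => by
        show r 1 w = w
        rw [map_one]
        rfl
      mul_smul := fun y z w => by
        show r (y * z) w = r y (r z w)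
        rw [map_mul]
        rfl }
  have hO : MulAction.orbit L v = ({0} : Set W)ᶜ := by
    ext w
    refine ⟨?_, fun hw => hS.trans v w hv hw⟩
    rintro ⟨y, rfl⟩ h
    refine hv ?_
    have h0 : r y v = 0 := h
    rw [← hS.apply_inv y⁻¹ v, inv_inv, h0, map_zero]
  have h := Nat.card_congr (MulAction.orbitProdStabilizerEquivGroup L v)
  rw [Nat.card_prod, hO, Nat.card_coe_set_eq, Set.ncard_compl, Set.ncard_singleton, hS.card] at h
  exact h ▸ dvd_mul_right _ _

end Semi

omit hS in
theorem comm_apply {x y : L} (h : Commute x y) (w : W) : r x (r y w) = r y (r x w) := by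
  rw [← end_mul_apply, ← map_mul, h.eq, map_mul, end_mul_apply]

variable {x : L} (hx : Irred r x)
include hx

/-- What commutes with an irreducible element fixes no vector. -/
theorem Irred.free {y : L} (hc : Commute x y) {w : W} (hw : w ≠ 0) (h : r y w = w) : y = 1 := by
  let S : AddSubgroup W :=
    { carrier := {v | r y v = v}
      add_mem' := fun {a b} ha hb => by show r y (a + b) = a + b; rw [map_add, ha, hb]
      zero_mem' := map_zero _
      neg_mem' := fun {a} ha => by show r y (-a) = -a; rw [map_neg, ha] }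
  rcases hx S fun v hv => (by show r y (r x v) = r x v; rw [← comm_apply hc, show r y v = v from hv]) with h' | h'
  · exact absurd (show w ∈ (⊥ : AddSubgroup W) from h' ▸ h) (by simpa using hw)
  · exact hS.faith y fun v => (h' ▸ AddSubgroup.mem_top v : v ∈ S)

/-- The endomorphisms commuting with an irreducible element form a domain. -/
theorem Irred.isDomain : IsDomain (Subring.centralizer ({r x} : Set (AddMonoid.End W))) := by
  haveI := hS.nontrivial
  set K := Subring.centralizer ({r x} : Set (AddMonoid.End W))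
  have hinj : ∀ z : K, z ≠ 0 → Function.Injective (z : AddMonoid.End W) := by
    intro z hz
    let S : AddSubgroup W := AddMonoidHom.ker (z : AddMonoid.End W)
    have hinv : ∀ v ∈ S, r x v ∈ S := fun v hv => by
      have hc : r x * (z : AddMonoid.End W) = z * r x := Subring.mem_centralizer_iff.1 z.2 _ rfl
      show (z : AddMonoid.End W) (r x v) = 0
      rw [← end_mul_apply, ← hc, end_mul_apply, show (z : AddMonoid.End W) v = 0 from hv,
        map_zero]
    rcases hx S hinv with h | h
    · exact (AddMonoidHom.ker_eq_bot_iff _).1 h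
    · refine absurd (Subtype.ext (AddMonoidHom.ext fun v => ?_)) hz
      exact (h ▸ AddSubgroup.mem_top v : v ∈ S)
  haveI : Nontrivial K := ⟨⟨0, 1, fun h => by
    obtain ⟨v, hv⟩ := exists_ne (0 : W)
    exact hv (DFunLike.congr_fun (congrArg Subtype.val h) v).symm⟩⟩
  haveI : NoZeroDivisors K := ⟨fun {a b} h => by
    by_contra hne
    push Not at hne
    refine hne.2 (Subtype.ext (AddMonoidHom.ext fun v => hinj a hne.1 ?_))
    show (a : AddMonoid.End W) ((b : AddMonoid.End W) v) = (a : AddMonoid.End W) 0
    rw [map_zero]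
    exact DFunLike.congr_fun (congrArg Subtype.val h) v⟩
  exact NoZeroDivisors.to_isDomain K

theorem Irred.cent_cyclic : IsCyclic (centralizer ({x} : Set L)) := by
  haveI := hx.isDomain hS
  haveI : Finite (AddMonoid.End W) := finite_end
  set K := Subring.centralizer ({r x} : Set (AddMonoid.End W))
  letI : Field K := (Finite.isDomain_to_isField K).toField
  have hmem : ∀ y ∈ centralizer ({x} : Set L), r y ∈ K := fun y hy =>
    Subring.mem_centralizer_iff.2 fun g hg => by
      rw [Set.mem_singleton_iff.1 hg, ← map_mul, ← map_mul, mem_centralizer_singleton_iff.1 hy]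
  let φ : centralizer ({x} : Set L) →* K :=
    { toFun := fun y => ⟨r y.1, hmem y.1 y.2⟩
      map_one' := Subtype.ext (by simp)
      map_mul' := fun y z => Subtype.ext (by simp) }
  exact isCyclic_of_subgroup_isDomain φ fun y z h => Subtype.ext (hS.eq_of_apply (congrArg Subtype.val h))

/-- The Galois group of the field spanned by a centralised subgroup has order dividing `f`. -/
theorem Irred.pow_commute {F : Subgroup L} (hF : ∀ y ∈ F, Commute x y) {u : L}
    (hu : ∀ y ∈ F, u * y * u⁻¹ ∈ F) {y : L} (hy : y ∈ F) : Commute (u ^ f) y := by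
  haveI := hS.nontrivial
  haveI := Fact.mk hS.prime
  set E := AddMonoid.End W
  haveI := hx.isDomain hS
  haveI : Finite E := finite_end
  set K₀ : Subring E := Subring.closure (r '' F) with hK₀
  have hle : K₀ ≤ Subring.centralizer ({r x} : Set E) := Subring.closure_le.2 <| by
    rintro _ ⟨z, hz, rfl⟩
    exact Subring.mem_centralizer_iff.2 fun g hg => by
      rw [Set.mem_singleton_iff.1 hg, ← map_mul, ← map_mul, (hF z hz).eq]
  haveI : IsDomain K₀ := Function.Injective.isDomain (Subring.inclusion hle) (Subring.inclusion_injective hle)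
  letI : Field K₀ := (Finite.isDomain_to_isField K₀).toField
  haveI : CharP K₀ p := (CharP.charP_iff_prime_eq_zero hS.prime).2 <| Subtype.ext <| AddMonoidHom.ext fun v => by
    show (((p : K₀) : E)) v = 0
    rw [SubringClass.coe_natCast, AddMonoid.End.natCast_apply]
    exact hS.nsmul_eq_zero v
  letI : Algebra (ZMod p) K₀ := ZMod.algebra K₀ p
  -- conjugation
  let c : E →+* E :=
    { toFun := fun e => r u * e * r u⁻¹
      map_one' := by rw [mul_one, ← map_mul, mul_inv_cancel, map_one]
      map_mul' := fun a b => by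
        rw [show r u * a * r u⁻¹ * (r u * b * r u⁻¹) = r u * a * (r u⁻¹ * r u) * b * r u⁻¹ by
          simp only [mul_assoc], ← map_mul r u⁻¹, inv_mul_cancel, map_one, mul_one]
        simp only [mul_assoc]
      map_zero' := by rw [mul_zero, zero_mul]
      map_add' := fun a b => by rw [mul_add, add_mul] }
  have hc : ∀ z, c (r z) = r (u * z * u⁻¹) := fun z => by
    show r u * r z * r u⁻¹ = _
    rw [map_mul, map_mul]
  have hcK : K₀ ≤ K₀.comap c := Subring.closure_le.2 <| by
    rintro _ ⟨z, hz, rfl⟩
    show c (r z) ∈ K₀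
    rw [hc]
    exact Subring.subset_closure ⟨_, hu z hz, rfl⟩
  let c₀ : K₀ →+* K₀ := (c.comp K₀.subtype).codRestrict K₀ fun z => hcK z.2
  have hc₀ : Function.Injective c₀ := RingHom.injective c₀
  let φ : K₀ ≃ₐ[ZMod p] K₀ :=
    AlgEquiv.ofRingEquiv (f := RingEquiv.ofBijective c₀ (Finite.injective_iff_bijective.1 hc₀)) fun z =>
      DFunLike.congr_fun (RingHom.ext_zmod (c₀.comp (algebraMap (ZMod p) K₀)) (algebraMap (ZMod p) K₀)) z
  have hpow : ∀ (i : ℕ) (z : L) (hz : r z ∈ K₀), (((φ ^ i) ⟨r z, hz⟩ : K₀) : E) = r (u ^ i * z * (u ^ i)⁻¹) := by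
    intro i
    induction i with
    | zero => intro z hz; simp
    | succ i ih =>
      intro z hz
      rw [pow_succ', AlgEquiv.mul_apply]
      show r u * (((φ ^ i) ⟨r z, hz⟩ : K₀) : E) * r u⁻¹ = _
      rw [ih, ← map_mul, ← map_mul]
      congr 1
      group
  -- the degree divides `f`
  have hdvd : Module.finrank (ZMod p) K₀ ∣ f := by
    have h1 : Nat.card K₀ = p ^ Module.finrank (ZMod p) K₀ := by
      rw [Module.natCard_eq_pow_finrank (K := ZMod p), Nat.card_zmod]
    have h2 : Nat.card W = Nat.card K₀ ^ Module.finrank K₀ W := Module.natCard_eq_pow_finrank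
    rw [hS.card, h1, ← pow_mul] at h2
    exact ⟨_, Nat.pow_right_injective hS.prime.two_le h2⟩
  have hφ : φ ^ f = 1 := by
    refine orderOf_dvd_iff_pow_eq_one.1 ((orderOf_dvd_natCard φ).trans ?_)
    rw [IsGalois.card_aut_eq_finrank]
    exact hdvd
  have h := hpow f y (Subring.subset_closure ⟨y, hy, rfl⟩)
  rw [hφ] at h
  exact mul_inv_eq_iff_eq_mul.1 (hS.eq_of_apply h.symm)

omit hx in
/-- An element of order a primitive prime divisor of `p ^ f - 1` is irreducible and good. -/
theorem prime_irred_good {l : ℕ} (hl : l.Prime) (hld : l ∣ p ^ f - 1)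
    (hlk : ∀ k, 0 < k → k < f → ¬ l ∣ p ^ k - 1) (hf : f ≠ 1) {x : L} (hxl : orderOf x = l) :
    Irred r x ∧ Good x := by
  classical
  haveI := Fact.mk hS.prime
  haveI := Fact.mk hl
  have hlp : l ≠ p := CfsgLib.Recog.Huppert.ppd_ne hS.prime.pos hS.f_pos.ne' hl hld
  have hsub : ∀ i j, j ≤ i → i ≤ f → p ^ i % l = p ^ j % l → i = j ∨ (i = f ∧ j = 0) := by
    intro i j hji hif h
    have h1 : l ∣ p ^ i - p ^ j := (Nat.modEq_iff_dvd' (Nat.pow_le_pow_right hS.prime.pos hji)).1 h.symm
    have h2 : p ^ i - p ^ j = p ^ j * (p ^ (i - j) - 1) := by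
      rw [Nat.mul_sub, mul_one, ← pow_add, Nat.add_sub_cancel' hji]
    rw [h2] at h1
    rcases hl.dvd_mul.1 h1 with h3 | h3
    · exact absurd ((Nat.prime_dvd_prime_iff_eq hl hS.prime).1 (hl.dvd_of_dvd_pow h3)) hlp
    · by_contra hne
      exact hlk (i - j) (by omega) (by omega) h3
  -- counting fixed points on an invariant subgroup
  have hmod : ∀ (S : AddSubgroup W), (∀ w ∈ S, r x w ∈ S) → ∀ (T : AddSubgroup W),
      (∀ w, w ∈ T ↔ w ∈ S ∧ r x w = w) → Nat.card S ≡ Nat.card T [MOD l] := by
    intro S hinv T hT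
    let g : S → S := fun w => ⟨r x w, hinv w w.2⟩
    have hg : Function.Bijective g := Finite.injective_iff_bijective.1 fun a b e => Subtype.ext (by
      have := congrArg (r x⁻¹) (congrArg Subtype.val e)
      have hx1 : ∀ w, r x⁻¹ (r x w) = w := fun w => by
        have h' := hS.apply_inv x⁻¹ w
        rwa [inv_inv] at h'
      simpa [g, hx1] using this)
    let σ : Equiv.Perm S := Equiv.ofBijective g hg
    have hpow : ∀ (i : ℕ) (w : S), (((σ ^ i) w : S) : W) = r (x ^ i) w := by
      intro i
      induction i with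
      | zero => intro w; simp
      | succ i ih =>
        intro w
        rw [pow_succ', Equiv.Perm.mul_apply]
        show r x (((σ ^ i) w : S) : W) = _
        rw [ih, pow_succ', map_mul, end_mul_apply]
    have hσ : σ ^ l = 1 := Equiv.ext fun w => Subtype.ext (by
      rw [hpow, ← hxl, pow_orderOf_eq_one, map_one]; rfl)
    exact (CfsgLib.Recog.Huppert.modEq_perm σ hσ).trans (CfsgLib.Recog.Huppert.modEq_of_eq (Nat.card_congr
      { toFun := fun a => ⟨a.1.1, (hT _).2 ⟨a.1.2, congrArg Subtype.val a.2⟩⟩
        invFun := fun a => ⟨⟨a.1, ((hT _).1 a.2).1⟩, Subtype.ext ((hT _).1 a.2).2⟩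
        left_inv := fun a => rfl
        right_inv := fun a => rfl }))
  let C : AddSubgroup W :=
    { carrier := {v | r x v = v}
      add_mem' := fun {a b} ha hb => by show r x (a + b) = a + b; rw [map_add, ha, hb]
      zero_mem' := map_zero _
      neg_mem' := fun {a} ha => by show r x (-a) = -a; rw [map_neg, ha] }
  have hcard : ∀ S : AddSubgroup W, ∃ i, i ≤ f ∧ Nat.card S = p ^ i := fun S =>
    (Nat.dvd_prime_pow hS.prime).1 (hS.card ▸ AddSubgroup.card_addSubgroup_dvd_card S)
  have htop : Nat.card (⊤ : AddSubgroup W) = p ^ f := by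
    rw [← hS.card]; exact Nat.card_congr AddSubgroup.topEquiv.toEquiv
  have hfix : ∀ w, r x w = w → w = 0 := by
    have h := hmod ⊤ (fun _ _ => AddSubgroup.mem_top _) C fun w =>
      ⟨fun hw => ⟨AddSubgroup.mem_top _, hw⟩, fun hw => hw.2⟩
    obtain ⟨i, hi, hci⟩ := hcard C
    rw [htop, hci] at h
    rcases hsub f i hi le_rfl h with h' | ⟨-, h'⟩
    · have hCt : C = ⊤ := AddSubgroup.eq_top_of_card_eq C (by rw [hci, hS.card, h'])
      have hx1 : x = 1 := hS.faith x fun w => (hCt ▸ AddSubgroup.mem_top w : w ∈ C)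
      rw [hx1, orderOf_one] at hxl
      exact absurd hxl.symm hl.one_lt.ne'
    · rw [h', pow_zero] at hci
      intro w hw
      have : w ∈ (⊥ : AddSubgroup W) := AddSubgroup.eq_bot_of_card_eq C hci ▸ (hw : w ∈ C)
      simpa using this
  have hirr : Irred r x := by
    intro S hinv
    obtain ⟨i, hi, hci⟩ := hcard S
    have h := hmod S hinv ⊥ fun w =>
      ⟨fun hw => by rw [AddSubgroup.mem_bot.1 hw]; exact ⟨S.zero_mem, map_zero _⟩,
        fun hw => AddSubgroup.mem_bot.2 (hfix w hw.2)⟩
    rw [AddSubgroup.card_bot, hci, ← pow_zero p] at h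
    rcases hsub i 0 (Nat.zero_le _) hi h with h' | ⟨h', -⟩
    · exact Or.inl (AddSubgroup.eq_bot_of_card_eq S (by rw [hci, h', pow_zero]))
    · exact Or.inr (AddSubgroup.eq_top_of_card_eq S (by rw [hci, h', hS.card]))
  refine ⟨hirr, fun R hR hRx y hy => ?_⟩
  haveI := hirr.cent_cyclic hS
  -- a group of prime power order
  have hprim : ∀ (s : ℕ), s.Prime → ∀ T : Subgroup L, IsPGroup s T → (∀ y ∈ T, x * y * x⁻¹ ∈ T) →
      ∀ y ∈ T, Commute x y := by
    intro s hs T hT hTx y hy
    haveI := Fact.mk hs
    rcases eq_or_ne s p with rfl | hsp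
    · -- fixed vectors
      letI : MulAction T W :=
        { smul := fun y w => r (y : L) w
          one_smul := fun w => by show r (1 : L) w = w; rw [map_one]; rfl
          mul_smul := fun y z w => by show r ((y : L) * z) w = r (y : L) (r (z : L) w); rw [map_mul]; rfl }
      let F : AddSubgroup W :=
        { carrier := {v | ∀ z ∈ T, r z v = v}
          add_mem' := fun {a b} ha hb z hz => by rw [map_add, ha z hz, hb z hz]
          zero_mem' := fun z _ => map_zero _
          neg_mem' := fun {a} ha z hz => by rw [map_neg, ha z hz] }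
      have hFne : F ≠ ⊥ := by
        intro hbot
        have hd : s ∣ Nat.card W := hS.card ▸ dvd_pow_self s hS.f_pos.ne'
        obtain ⟨w, hw, hw0⟩ := hT.exists_fixed_point_of_prime_dvd_card_of_fixed_point W hd
          (a := (0 : W)) (fun z => map_zero (r (z : L)))
        have : w ∈ F := fun z hz => hw ⟨z, hz⟩
        rw [hbot, AddSubgroup.mem_bot] at this
        exact hw0 this.symm
      have hFinv : ∀ v ∈ F, r x v ∈ F := fun v hv z hz => by
        have hz' : x⁻¹ * z * x ∈ T := by
          have hbij : ∀ w ∈ T, ∃ w' ∈ T, x * w' * x⁻¹ = w := by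
            have hm : T.map (MulAut.conj x).toMonoidHom ≤ T := by
              rintro _ ⟨w, hw, rfl⟩
              exact hTx w hw
            have := Subgroup.eq_of_le_of_card_ge hm
              (card_map_of_injective (MulAut.conj x).injective).ge
            exact fun w hw => by rwa [← this] at hw
          obtain ⟨w', hw', he⟩ := hbij z hz
          rw [← he]
          simpa [mul_assoc] using hw'
        rw [← end_mul_apply, ← map_mul, show z * x = x * (x⁻¹ * z * x) by group, map_mul, end_mul_apply,
          hv _ hz']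
      rcases (hirr F hFinv).resolve_left hFne with h
      have : y = 1 := hS.faith y fun w => (h ▸ AddSubgroup.mem_top w : w ∈ F) y hy
      exact this ▸ Commute.one_right x
    rcases eq_or_ne s l with rfl | hsl
    · -- a central element of order `l`
      have hxN : zpowers x ≤ normalizer (T : Set L) := zpowers_le.2 <| by
        refine mem_normalizer_iff_map_conj_eq.2 (Subgroup.eq_of_le_of_card_ge ?_
          (card_map_of_injective (MulAut.conj x).injective).ge)
        rintro _ ⟨w, hw, rfl⟩
        exact hTx w hw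
      have hB : IsPGroup s (T ⊔ zpowers x : Subgroup L) :=
        IsPGroup.to_sup_of_normal_left' hT (IsPGroup.of_card (n := 1) (by rw [Nat.card_zpowers, hxl, pow_one])) hxN
      set B := T ⊔ zpowers x with hBdef
      have hxB : x ∈ B := mem_sup_right (mem_zpowers x)
      haveI : Nontrivial B := ⟨⟨x, hxB⟩, 1, fun h => by
        have hx1 : x = 1 := congrArg Subtype.val h
        rw [hx1, orderOf_one] at hxl
        exact hl.one_lt.ne hxl⟩
      haveI := hB.center_nontrivial
      obtain ⟨c, hc⟩ := exists_prime_orderOf_dvd_card' (G := center B) s (by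
        obtain ⟨k, hk, hk'⟩ := (hB.to_subgroup (center B)).nontrivial_iff_card.1 inferInstance
        exact hk' ▸ dvd_pow_self s (Nat.ne_of_gt hk))
      have hcz : ((c : B) : L) ∈ centralizer ({x} : Set L) := mem_centralizer_singleton_iff.2
        (congrArg Subtype.val (mem_center_iff.1 c.2 ⟨x, hxB⟩)).symm
      set z : centralizer ({x} : Set L) := ⟨_, hcz⟩ with hzdef
      set x' : centralizer ({x} : Set L) := ⟨x, mem_centralizer_singleton_iff.2 rfl⟩ with hx'def
      have hzo : orderOf z = s := by
        rw [← Subgroup.orderOf_coe, hzdef]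
        show orderOf ((c : B) : L) = s
        rw [Subgroup.orderOf_coe, Subgroup.orderOf_coe, hc]
      have hxo : orderOf x' = s := by rw [← Subgroup.orderOf_coe, hx'def]; exact hxl
      obtain ⟨i, hi⟩ := mem_zpowers_iff.1 (CfsgLib.Wagner.mem_zpowers_of_orderOf_eq (hxo.trans hzo.symm))
      have hxi : x = ((c : B) : L) ^ i := (congrArg Subtype.val hi).symm
      rw [hxi]
      exact Commute.zpow_left (congrArg Subtype.val (mem_center_iff.1 c.2 ⟨y, mem_sup_left hy⟩)).symm i
    -- the critical case
    obtain ⟨k, hk⟩ := IsPGroup.iff_card.1 hT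
    have hcs : (Nat.card T).Coprime l := hk ▸ ((Nat.coprime_primes hs hl).2 hsl).pow_left k
    have hlodd : ¬ (2 ∣ Nat.card T ∧ ∃ j, l = 2 ^ j + 1) := by
      rintro ⟨-, j, hj⟩
      have ho : orderOf (p : ZMod l) = f := by
        refine (orderOf_eq_iff hS.f_pos).2 ⟨(CfsgLib.Recog.Huppert.dvd_pow_sub_one_iff hS.prime.pos f).1 hld,
          fun i hi hi0 h => hlk i hi0 hi ((CfsgLib.Recog.Huppert.dvd_pow_sub_one_iff hS.prime.pos i).2 h)⟩
      have hne : (p : ZMod l) ≠ 0 := fun h =>
        hlp ((Nat.prime_dvd_prime_iff_eq hl hS.prime).1 ((ZMod.natCast_eq_zero_iff _ _).1 h))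
      have h1 : f ∣ 2 ^ j := by
        have h' := ho ▸ ZMod.orderOf_dvd_card_sub_one hne
        rwa [hj, Nat.add_sub_cancel] at h'
      obtain ⟨i, -, hi⟩ := (Nat.dvd_prime_pow Nat.prime_two).1 h1
      rcases i with _ | i
      · exact hf (by rw [hi, pow_zero])
      · have := hS.f_odd
        rw [hi, Nat.odd_pow_iff (Nat.succ_ne_zero i)] at this
        exact absurd this (by decide)
    haveI := Fact.mk hl
    have hθ : (MulAut.conj x : MulAut L) ^ l = 1 := by rw [← map_pow, ← hxl, pow_orderOf_eq_one, map_one]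
    have h := CfsgLib.Core.HH.fixed_of_fpf_module (Y := L) (M := W) r (MulAut.conj x) (r x) hθ
      (by rw [← map_pow, ← hxl, pow_orderOf_eq_one, map_one])
      (fun z m => by
        show r x (r z m) = r (x * z * x⁻¹) (r x m)
        rw [← end_mul_apply, ← end_mul_apply, ← map_mul, ← map_mul, inv_mul_cancel_right])
      hfix (hS.card ▸ ((Nat.coprime_primes hS.prime hl).2 hlp.symm).pow_left f)
      (F := T) hT.isNilpotent hTx hcs
      (hS.card ▸ hk ▸ (((Nat.coprime_primes hS.prime hs).2 hsp.symm).pow f k))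
      (fun z _ hz => hS.faith z hz) hlodd y hy
    exact mul_inv_eq_iff_eq_mul.1 h
  -- a nilpotent group
  set D : Subgroup R := (centralizer ({x} : Set L)).subgroupOf R with hD
  suffices hDt : D = ⊤ by
    exact ((mem_centralizer_singleton_iff.1 (mem_subgroupOf.1 (hDt ▸ mem_top (⟨y, hy⟩ : R) : _ ∈ D)))).symm
  refine CfsgLib.Wagner.eq_top_of_sylow D fun s _ => ?_
  obtain ⟨P⟩ : Nonempty (Sylow s R) := inferInstance
  refine ⟨P, ?_⟩
  haveI := hR
  haveI : (P : Subgroup R).Normal := inferInstance
  haveI := P.characteristic_of_normal inferInstance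
  have hinv : ∀ z ∈ (P : Subgroup R).map R.subtype, x * z * x⁻¹ ∈ (P : Subgroup R).map R.subtype := by
    have hm : R.map (MulAut.conj x).toMonoidHom = R := Subgroup.eq_of_le_of_card_ge
      (by rintro _ ⟨w, hw, rfl⟩; exact hRx w hw) (card_map_of_injective (MulAut.conj x).injective).ge
    let e : R ≃* R := (R.equivMapOfInjective _ (MulAut.conj x).injective).trans (MulEquiv.subgroupCongr hm)
    rintro _ ⟨w, hw, rfl⟩
    refine ⟨e w, ?_, rfl⟩
    have := Subgroup.characteristic_iff_map_eq.1 (inferInstance : (P : Subgroup R).Characteristic) e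
    exact this ▸ mem_map_of_mem _ hw
  intro z hz
  exact mem_subgroupOf.2 (mem_centralizer_singleton_iff.2
    (hprim s Fact.out _ (P.isPGroup'.map _) hinv z (mem_map_of_mem _ hz)).eq.symm)

end CfsgLib.Wagner
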