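import Cfsg.Agent.Lib.Perm.Wagner.Linear
import Cfsg.Agent.Lib.ThreePrimeUse.Basic
import Cfsg.Agent.Lib.LocalEven.Zsigmondy
import Cfsg.Agent.Lib.Core.Coprime
import Cfsg.Agent.Lib.Components.FStar

/-!
Owner: helper12. S3255 (Wagner): normal subgroups of order prime to three in a group transitive on the nonzero
vectors of an odd dimensional space.

* `exists_irred_good`: there is an irreducible good element.
* `isSolvable_of_three_free`: such a normal subgroup is solvable, given `ThreePrimeSimple`.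
* `semi_core`: its Fitting subgroup `F` is cyclic, semiregular, self centralising, and every `u ^ f` centralises it.
-/

set_option autoImplicit false
set_option linter.unusedSectionVars false

namespace CfsgLib.Wagner

open Subgroup
open scoped commutatorElement

universe u v

variable {L : Type u} [Group L] [Finite L] {W : Type v} [AddCommGroup W] [Finite W]
variable {r : L →* AddMonoid.End W} {p f : ℕ} (hS : Semi r p f)
include hS

theorem Semi.ppd (hf : f ≠ 1) : ∃ l, l.Prime ∧ l ≠ 2 ∧ l ∣ p ^ f - 1 ∧ ∀ k, 0 < k → k < f → ¬ l ∣ p ^ k - 1 := by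
  obtain ⟨j, hj⟩ := hS.f_odd
  obtain ⟨l, hl, hld, hlk⟩ := CfsgLib.Zsigmondy.exists_primitive_prime_divisor (a := p) (n := f)
    hS.prime.one_lt (by omega) (fun h => by omega) (fun h => by omega)
  have := CfsgLib.Recog.Huppert.ppd_lt hS.prime hS.f_pos.ne' hl hld hlk
  exact ⟨l, hl, by omega, hld, hlk⟩

theorem Semi.irred_of_f_one (hf : f = 1) (x : L) : Irred r x := fun S _ => hS.smul_prime hf S

theorem Semi.comm_of_f_one (hf : f = 1) (y z : L) : y * z = z * y := by
  haveI := (hS.irred_of_f_one hf 1).cent_cyclic hS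
  let e : ∀ y : L, centralizer ({(1 : L)} : Set L) := fun y =>
    ⟨y, mem_centralizer_singleton_iff.2 (by simp)⟩
  letI := IsCyclic.commGroup (α := centralizer ({(1 : L)} : Set L))
  exact congrArg Subtype.val (mul_comm (e y) (e z))

theorem exists_irred_good : ∃ x : L, Irred r x ∧ Good x := by
  by_cases hf : f = 1
  · exact ⟨1, hS.irred_of_f_one hf 1, fun R _ _ y _ => Commute.one_left y⟩
  obtain ⟨l, hl, -, hld, hlk⟩ := hS.ppd hf
  haveI := Fact.mk hl
  obtain ⟨x, hx⟩ := exists_prime_orderOf_dvd_card' (G := L) l (hld.trans hS.card_dvd)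
  exact ⟨x, prime_irred_good hS hl hld hlk hf hx⟩

omit hS in
/-- A good element centralises a normalised subgroup of order prime to its own. -/
theorem Good.centralizes {x : L} (hg : Good x) {E : Subgroup L} (hE : ∀ y ∈ E, x * y * x⁻¹ ∈ E)
    (hcop : (orderOf x).Coprime (Nat.card E)) : ∀ y ∈ E, Commute x y := by
  classical
  have hnorm : zpowers x ≤ normalizer (E : Set L) := zpowers_le.2 <| mem_normalizer_iff_map_conj_eq.2 <|
    Subgroup.eq_of_le_of_card_ge (by rintro _ ⟨w, hw, rfl⟩; exact hE w hw)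
      (card_map_of_injective (MulAut.conj x).injective).ge
  set D : Subgroup E := (centralizer ({x} : Set L)).subgroupOf E with hD
  have hDt : D = ⊤ := eq_top_of_sylow D fun s _ => by
    obtain ⟨P, hP⟩ := CfsgLib.Core.exists_invariant_sylow hnorm (by rwa [Nat.card_zpowers])
      (Or.inl (by letI := IsCyclic.commGroup (α := zpowers x); infer_instance)) s
    refine ⟨P, fun z hz => mem_subgroupOf.2 (mem_centralizer_singleton_iff.2 ?_)⟩
    exact (hg _ (P.isPGroup'.map _).isNilpotent
      (fun w hw => (mem_normalizer_iff.1 (hP (mem_zpowers x)) w).1 hw) z (mem_map_of_mem _ hz)).eq.symm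
  intro y hy
  exact (mem_centralizer_singleton_iff.1 (mem_subgroupOf.1 (hDt ▸ mem_top (⟨y, hy⟩ : E) : _ ∈ D))).symm

variable (h3 : CfsgLib.ThreePrimeUse.ThreePrimeSimple.{u})
include h3

/-- A normal subgroup of order prime to three is solvable. -/
theorem isSolvable_of_three_free (N : Subgroup L) [N.Normal] (hN : ¬ 3 ∣ Nat.card N) :
    Group.IsSolvable N := by
  classical
  by_contra hns
  by_cases hf : f = 1
  · exact hns (Group.isSolvable_of_comm fun a b => Subtype.ext (hS.comm_of_f_one hf a b))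
  obtain ⟨l, hl, hl2, hld, hlk⟩ := hS.ppd hf
  haveI := Fact.mk hl
  have hgen : ∀ x : L, orderOf x = l → Irred r x ∧ Good x := fun x hx => prime_irred_good hS hl hld hlk hf hx
  have hcc : ∀ x : L, orderOf x = l → ∀ a b : L, Commute x a → Commute x b → Commute a b := by
    intro x hx a b ha hb
    haveI := (hgen x hx).1.cent_cyclic hS
    letI := IsCyclic.commGroup (α := centralizer ({x} : Set L))
    exact congrArg Subtype.val (mul_comm (⟨a, mem_centralizer_singleton_iff.2 ha.eq.symm⟩ : centralizer ({x} : Set L))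
      ⟨b, mem_centralizer_singleton_iff.2 hb.eq.symm⟩)
  -- a minimal nonsolvable normal subgroup
  obtain ⟨E, ⟨hEn, hEN, hEns⟩, hEmin⟩ :=
    (Set.toFinite {E : Subgroup L | E.Normal ∧ E ≤ N ∧ ¬ Group.IsSolvable E}).exists_minimal ⟨N, inferInstance, le_rfl, hns⟩
  haveI := hEn
  have hperf : commutator E = ⊤ := by
    by_contra hne
    have hD : ⁅E, E⁆ < E := lt_of_le_of_ne (commutator_le_self E) fun h => hne <| by
      apply map_injective E.subtype_injective
      rw [map_subtype_commutator, h, ← MonoidHom.range_eq_map, range_subtype]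
    have hDs : Group.IsSolvable (⁅E, E⁆ : Subgroup L) := by
      by_contra h
      exact hD.not_ge (hEmin ⟨inferInstance, hD.le.trans hEN, h⟩ hD.le)
    refine hEns ?_
    haveI : Group.IsSolvable (commutator E) := by
      have e := (commutator E).equivMapOfInjective _ E.subtype_injective
      rw [map_subtype_commutator] at e
      exact Group.isSolvable_of_isSolvable_injective (f := e.toMonoidHom) e.injective
    haveI : Group.IsSolvable (E ⧸ commutator E) := Group.isSolvable_of_comm fun a b => by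
      induction a using QuotientGroup.induction_on with
      | H a =>
        induction b using QuotientGroup.induction_on with
        | H b =>
          refine (QuotientGroup.eq).2 ?_
          have h := commutator_mem_commutator (mem_top b⁻¹) (mem_top a⁻¹)
          rw [commutatorElement_def, inv_inv, inv_inv] at h
          rw [_root_.commutator_def]
          simpa [mul_assoc] using h
    exact Group.isSolvable_of_ker_le_range (commutator E).subtype (QuotientGroup.mk' (commutator E))
      (by rw [QuotientGroup.ker_mk', range_subtype])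
  haveI : Nontrivial E := by
    by_contra h
    rw [not_nontrivial_iff_subsingleton] at h
    exact hEns inferInstance
  -- an element of order `l` inside
  have hlE : l ∣ Nat.card E := by
    by_contra hnd
    obtain ⟨x, hx⟩ := exists_prime_orderOf_dvd_card' (G := L) l (hld.trans hS.card_dvd)
    have hc := (hgen x hx).2.centralizes (E := E) (fun y hy => hEn.conj_mem y hy x)
      (hx ▸ hl.coprime_iff_not_dvd.2 hnd)
    exact hEns (Group.isSolvable_of_comm fun a b => Subtype.ext (hcc x hx a b (hc a a.2) (hc b b.2)).eq)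
  -- a simple quotient
  obtain ⟨K, ⟨hKn, hKt⟩, hKmax⟩ :=
    (Set.toFinite {K : Subgroup E | K.Normal ∧ K ≠ ⊤}).exists_maximal ⟨⊥, inferInstance, bot_ne_top⟩
  haveI := hKn
  set π := QuotientGroup.mk' K with hπ
  have hπs : Function.Surjective π := QuotientGroup.mk'_surjective K
  haveI : Nontrivial (E ⧸ K) := QuotientGroup.nontrivial_iff.2 hKt
  haveI hQs : IsSimpleGroup (E ⧸ K) := by
    refine ⟨fun H hH => ?_⟩
    by_cases ht : H = ⊤
    · exact Or.inr ht
    refine Or.inl ?_
    have hle : K ≤ H.comap π := fun k hk => by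
      show π k ∈ H
      rw [show π k = 1 from (QuotientGroup.eq_one_iff k).2 hk]
      exact one_mem H
    have hne : H.comap π ≠ ⊤ := fun h => ht (by
      rw [← map_comap_eq_self_of_surjective hπs H, h, ← MonoidHom.range_eq_map, MonoidHom.range_eq_top.2 hπs])
    have he := le_antisymm (hKmax ⟨hH.comap π, hne⟩ hle) hle
    rw [← map_comap_eq_self_of_surjective hπs H, he, Subgroup.map_eq_bot_iff, hπ, QuotientGroup.ker_mk']
  have hQperf : commutator (E ⧸ K) = ⊤ := by
    rw [_root_.commutator_def, ← map_top_of_surjective π hπs, ← map_commutator, ← _root_.commutator_def, hperf]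
  have hQna : ¬ IsMulCommutative (E ⧸ K) := fun h => by
    refine bot_ne_top (α := Subgroup (E ⧸ K)) (Eq.trans ?_ hQperf)
    rw [eq_comm, _root_.commutator_def, eq_bot_iff, commutator_le]
    intro a _ b _
    rw [mem_bot, commutatorElement_eq_one_iff_mul_comm]
    exact h.is_comm.comm a b
  -- `l` does not divide the order of `K`
  have hlK : ¬ l ∣ Nat.card K := by
    intro hd
    obtain ⟨P⟩ : Nonempty (Sylow l K) := inferInstance
    obtain ⟨y, hy⟩ := exists_prime_orderOf_dvd_card' (G := (P : Subgroup K)) l (P.dvd_card_of_dvd_card hd)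
    have hyo : orderOf (((y : K) : E) : L) = l := by rwa [Subgroup.orderOf_coe, Subgroup.orderOf_coe, Subgroup.orderOf_coe]
    set PE : Subgroup E := (P : Subgroup K).map K.subtype with hPE
    set PL : Subgroup L := PE.map E.subtype with hPL
    have hyPL : (((y : K) : E) : L) ∈ PL := mem_map_of_mem _ (mem_map_of_mem _ y.2)
    have hcP : ∀ z ∈ PL, Commute (((y : K) : E) : L) z :=
      (hgen _ hyo).2 PL ((P.isPGroup'.map _).map _).isNilpotent fun z hz =>
        mul_mem (mul_mem hyPL hz) (inv_mem hyPL)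
    haveI := ((hgen _ hyo).1).cent_cyclic hS
    -- the normaliser of the Sylow subgroup normalises the subgroup of order `l`
    have hnorm : ∀ g ∈ normalizer (PE : Set E), ∃ i : ℤ,
        (g : L) * (((y : K) : E) : L) * (g : L)⁻¹ = (((y : K) : E) : L) ^ i := by
      intro g hg
      have hmem : (g : L) * (((y : K) : E) : L) * (g : L)⁻¹ ∈ PL :=
        ⟨g * ((y : K) : E) * g⁻¹, (mem_normalizer_iff.1 hg _).1 (mem_map_of_mem _ y.2), rfl⟩
      set y' : centralizer ({(((y : K) : E) : L)} : Set L) := ⟨_, mem_centralizer_singleton_iff.2 rfl⟩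
      set z' : centralizer ({(((y : K) : E) : L)} : Set L) := ⟨_, mem_centralizer_singleton_iff.2 (hcP _ hmem).eq.symm⟩
      have ho : orderOf z' = orderOf y' := by
        rw [← Subgroup.orderOf_coe z', ← Subgroup.orderOf_coe y']
        exact MulEquiv.orderOf_eq (MulAut.conj (g : L)) _
      obtain ⟨i, hi⟩ := mem_zpowers_iff.1 (mem_zpowers_of_orderOf_eq ho)
      exact ⟨i, (congrArg Subtype.val hi).symm⟩
    have hcom : ∀ g ∈ normalizer (PE : Set E), ∀ h ∈ normalizer (PE : Set E),
        Commute (((y : K) : E) : L) ((⁅g, h⁆ : E) : L) := by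
      intro g hg h hh
      set a : L := (((y : K) : E) : L)
      let Z : Subgroup L := zpowers a
      have key : ∀ g : L, (∃ i : ℤ, g * a * g⁻¹ = a ^ i) → g ∈ normalizer (Z : Set L) := fun g ⟨i, hi⟩ =>
        mem_normalizer_iff_map_conj_eq.2 <| Subgroup.eq_of_le_of_card_ge (by
          rintro _ ⟨w, hw, rfl⟩
          obtain ⟨j, rfl⟩ := mem_zpowers_iff.1 hw
          refine mem_zpowers_iff.2 ⟨i * j, ?_⟩
          show a ^ (i * j) = g * a ^ j * g⁻¹
          rw [← conj_zpow, hi, zpow_mul]) (card_map_of_injective (MulAut.conj g).injective).ge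
      obtain ⟨i, hi⟩ := hnorm g hg
      obtain ⟨j, hj⟩ := hnorm h hh
      have hg' : (g : L)⁻¹ ∈ normalizer (Z : Set L) := inv_mem (key _ ⟨i, hi⟩)
      have hh' : (h : L)⁻¹ ∈ normalizer (Z : Set L) := inv_mem (key _ ⟨j, hj⟩)
      obtain ⟨i', hi'⟩ := mem_zpowers_iff.1 ((mem_normalizer_iff.1 hg' a).1 (mem_zpowers a))
      obtain ⟨j', hj'⟩ := mem_zpowers_iff.1 ((mem_normalizer_iff.1 hh' a).1 (mem_zpowers a))
      rw [inv_inv] at hi' hj'
      have e1 : ∀ k : ℤ, (g : L) * a ^ k * (g : L)⁻¹ = a ^ (i * k) := fun k => by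
        rw [← conj_zpow, hi, zpow_mul]
      have e2 : ∀ k : ℤ, (h : L) * a ^ k * (h : L)⁻¹ = a ^ (j * k) := fun k => by
        rw [← conj_zpow, hj, zpow_mul]
      have e3 : ∀ k : ℤ, (g : L)⁻¹ * a ^ k * (g : L) = a ^ (i' * k) := fun k => by
        have := conj_zpow (i := k) (a := (g : L)⁻¹) (b := a)
        rw [inv_inv] at this
        rw [← this, ← hi', zpow_mul]
      have e4 : ∀ k : ℤ, (h : L)⁻¹ * a ^ k * (h : L) = a ^ (j' * k) := fun k => by
        have := conj_zpow (i := k) (a := (h : L)⁻¹) (b := a)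
        rw [inv_inv] at this
        rw [← this, ← hj', zpow_mul]
      have hgg : a ^ (i * i') = a := by rw [← e1 i', hi']; group
      have hhh : a ^ (j * j') = a := by rw [← e2 j', hj']; group
      have hfin : ((⁅g, h⁆ : E) : L) * a * ((⁅g, h⁆ : E) : L)⁻¹ = a := by
        have e : ((⁅g, h⁆ : E) : L) * a * ((⁅g, h⁆ : E) : L)⁻¹ =
            (g : L) * ((h : L) * ((g : L)⁻¹ * ((h : L)⁻¹ * a * h) * g) * (h : L)⁻¹) * (g : L)⁻¹ := by
          simp [commutatorElement_def, mul_assoc]
        rw [e, ← hj', e3, e2, e1, show i * (j * (i' * j')) = (i * i') * (j * j') by ring, zpow_mul, hgg, hhh]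
      exact (mul_inv_eq_iff_eq_mul.1 hfin).symm
    -- Frattini
    set Zc : Subgroup (E ⧸ K) := ((centralizer ({(((y : K) : E) : L)} : Set L)).subgroupOf E).map π
    have hsur : ∀ a : E ⧸ K, ∃ g ∈ normalizer (PE : Set E), π g = a := by
      intro a
      obtain ⟨e, rfl⟩ := hπs a
      have he : e ∈ normalizer (PE : Set E) ⊔ K := by
        rw [hPE, Sylow.normalizer_sup_eq_top P]; exact mem_top e
      obtain ⟨g, hg, k, hk, rfl⟩ := Subgroup.mem_sup_of_normal_right.1 he
      exact ⟨g, hg, by rw [map_mul, show π k = 1 from (QuotientGroup.eq_one_iff k).2 hk, mul_one]⟩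
    have hle : commutator (E ⧸ K) ≤ Zc := by
      rw [_root_.commutator_def, commutator_le]
      intro a _ b _
      obtain ⟨g, hg, rfl⟩ := hsur a
      obtain ⟨h, hh, rfl⟩ := hsur b
      exact ⟨⁅g, h⁆, mem_subgroupOf.2 (mem_centralizer_singleton_iff.2 (hcom g hg h hh).eq.symm),
        map_commutatorElement π g h⟩
    refine hQna ⟨⟨fun a b => ?_⟩⟩
    obtain ⟨g, hg, rfl⟩ := hle (hQperf ▸ mem_top a : a ∈ commutator (E ⧸ K))
    obtain ⟨h, hh, rfl⟩ := hle (hQperf ▸ mem_top b : b ∈ commutator (E ⧸ K))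
    rw [← map_mul, ← map_mul]
    congr 1
    exact Subtype.ext (hcc _ hyo g h (mem_centralizer_singleton_iff.1 (mem_subgroupOf.1 hg)).symm
      (mem_centralizer_singleton_iff.1 (mem_subgroupOf.1 hh)).symm).eq
  -- an element of order `l` is inverted modulo `K`
  obtain ⟨x, hx⟩ := exists_prime_orderOf_dvd_card' (G := E) l hlE
  have hxL : orderOf (x : L) = l := by rw [Subgroup.orderOf_coe, hx]
  have hπx : orderOf (π x) = l := by
    refine orderOf_eq_prime (by rw [← map_pow, ← hx, pow_orderOf_eq_one, map_one]) fun h => hlK ?_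
    exact hx ▸ Subgroup.orderOf_dvd_natCard K ((QuotientGroup.eq_one_iff x).1 h)
  have hQ3 : ¬ 3 ∣ Nat.card (E ⧸ K) := fun h => hN <| h.trans <|
    (Subgroup.card_quotient_dvd_card K).trans (card_dvd_of_le hEN)
  obtain ⟨n, hn⟩ := CfsgLib.ThreePrimeUse.exists_inverting (h3 _ hQs hQna hQ3) hl hl2 hπx
  obtain ⟨g, rfl⟩ := hπs n
  have hk : x * (g * x * g⁻¹) ∈ K :=
    (QuotientGroup.eq_one_iff _).1 (show π (x * (g * x * g⁻¹)) = 1 by
      rw [map_mul, map_mul π, map_mul π, map_inv, hn, mul_inv_cancel])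
  set k : E := x * (g * x * g⁻¹) with hkdef
  have hxk : Commute (x : L) (k : L) := by
    refine (hgen _ hxL).2.centralizes (E := K.map E.subtype) ?_ ?_ _ (mem_map_of_mem _ hk)
    · rintro _ ⟨z, hz, rfl⟩
      exact ⟨x * z * x⁻¹, hKn.conj_mem z hz x, rfl⟩
    · rw [hxL, card_map_of_injective E.subtype_injective]
      exact hl.coprime_iff_not_dvd.2 hlK
  have hk1 : k = 1 := by
    have hcE : Commute x k := Subtype.ext hxk.eq
    have hkl : k ^ l = 1 := by
      have h1 : g * x * g⁻¹ = x⁻¹ * k := by rw [hkdef]; group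
      have h2 : (g * x * g⁻¹) ^ l = 1 := by rw [conj_pow, ← hx, pow_orderOf_eq_one, mul_one, mul_inv_cancel]
      rw [h1, hcE.inv_left.mul_pow, inv_pow, ← hx, pow_orderOf_eq_one, inv_one, one_mul, hx] at h2
      exact h2
    have hd : orderOf k ∣ l := orderOf_dvd_of_pow_eq_one hkl
    rcases (Nat.dvd_prime hl).1 hd with h | h
    · exact orderOf_eq_one_iff.1 h
    · exact absurd (h ▸ Subgroup.orderOf_dvd_natCard K hk) hlK
  have hinv : (g : L) * x * (g : L)⁻¹ = (x : L)⁻¹ := by
    have := congrArg Subtype.val hk1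
    simp only [hkdef, Subgroup.coe_mul, Subgroup.coe_inv, Subgroup.coe_one] at this
    exact eq_inv_of_mul_eq_one_right this
  have hf' : Commute ((g : L) ^ f) (x : L) := (hgen _ hxL).1.pow_commute hS (F := zpowers (x : L))
    (fun y hy => by obtain ⟨i, rfl⟩ := mem_zpowers_iff.1 hy; exact Commute.zpow_right (Commute.refl _) i)
    (fun y hy => by
      obtain ⟨i, rfl⟩ := mem_zpowers_iff.1 hy
      rw [← conj_zpow, hinv]
      exact zpow_mem (inv_mem (mem_zpowers _)) i)
    (mem_zpowers _)
  have h2 : Commute ((g : L) ^ 2) (x : L) := by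
    refine mul_inv_eq_iff_eq_mul.1 ?_
    rw [pow_two, mul_inv_rev, show (g : L) * g * x * ((g : L)⁻¹ * (g : L)⁻¹) = g * (g * x * (g : L)⁻¹) * (g : L)⁻¹ by group,
      hinv, show (g : L) * (x : L)⁻¹ * (g : L)⁻¹ = ((g : L) * x * (g : L)⁻¹)⁻¹ by group, hinv, inv_inv]
  obtain ⟨j, hj⟩ := hS.f_odd
  have h1 : Commute (g : L) (x : L) := by
    have h2j : Commute (((g : L) ^ 2) ^ j) (x : L) := h2.pow_left j
    rw [hj, pow_succ', pow_mul] at hf'
    have := hf'.mul_left h2j.inv_left
    rwa [mul_inv_cancel_right] at this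
  have hxx : (x : L) ^ 2 = 1 := by
    rw [h1.eq, mul_inv_cancel_right] at hinv
    rw [pow_two]
    nth_rewrite 2 [hinv]
    exact mul_inv_cancel _
  have := orderOf_dvd_of_pow_eq_one hxx
  rw [hxL] at this
  exact hl2 ((Nat.prime_dvd_prime_iff_eq hl Nat.prime_two).1 this)

/-- The Fitting subgroup of a normal subgroup of order prime to three. -/
theorem semi_core (N : Subgroup L) [N.Normal] (hN : ¬ 3 ∣ Nat.card N) :
    ∃ F : Subgroup L, F ≤ N ∧ F.Normal ∧ IsCyclic F ∧
      (∀ y ∈ N, (∀ z ∈ F, Commute y z) → y ∈ F) ∧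
      (∀ y ∈ F, ∀ w : W, w ≠ 0 → r y w = w → y = 1) ∧
      ∀ u : L, ∀ y ∈ F, Commute (u ^ f) y := by
  obtain ⟨x, hx, hg⟩ := exists_irred_good hS
  haveI := isSolvable_of_three_free hS h3 N hN
  set F := (Cfsg.fittingSubgroup N).map N.subtype with hF
  have hFn : F.Normal := inferInstance
  haveI := CfsgLib.Core.isNilpotent_fittingSubgroup N
  have hFc : ∀ y ∈ F, Commute x y := hg F (CfsgLib.Core.isNilpotent_map _ _) fun y hy => hFn.conj_mem y hy x
  refine ⟨F, map_subtype_le _, hFn, ?_, fun y hy hc => ?_, fun y hy w hw h => hx.free hS (hFc y hy) hw h,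
    fun u y hy => hx.pow_commute hS hFc (fun z hz => hFn.conj_mem z hz u) hy⟩
  · haveI := hx.cent_cyclic hS
    exact Subgroup.isCyclic_of_le (fun y hy => mem_centralizer_singleton_iff.2 (hFc y hy).eq.symm :
      F ≤ centralizer ({x} : Set L))
  · refine ⟨⟨y, hy⟩, CfsgLib.Components.centralizer_fitting_le_of_isSolvable (mem_centralizer_iff.2 fun z hz => ?_), rfl⟩
    exact Subtype.ext (hc _ (mem_map_of_mem _ hz)).eq.symm

end CfsgLib.Wagner
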