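import Cfsg.Agent.Lib.ThreePrimeUse.Basic
import Cfsg.Agent.Lib.ThreePrime.Sz.Facts
import Cfsg.Agent.Lib.Perm.Burnside2

/-!
Owner: helper16. The nonabelian socle in the proof of S3255, given the simple groups of order prime to three.

* `two_transitive_of_suzuki`: a Suzuki group primitive of odd degree is doubly transitive.
* `two_transitive_of_socle`: a normal 3'-subgroup with a nonabelian minimal normal subgroup of a doubly
  transitive group of odd degree is doubly transitive.
-/

set_option autoImplicit false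
set_option linter.style.haveILetI false

namespace CfsgLib.Wagner

open Subgroup MulAction
open CfsgLib.ThreePrimeUse (ThreePrimeSimple)

universe u v

/-- A Suzuki group primitive of odd degree is doubly transitive. -/
theorem two_transitive_of_suzuki {Y : Type u} [Group Y] [Finite Y] {Ω : Type v} [Finite Ω] [Nontrivial Ω]
    [MulAction Y Ω] [IsPreprimitive Y Ω] (hY : Cfsg.Lie.IsoSuzuki Y) (hodd : Odd (Nat.card Ω)) :
    IsMultiplyPretransitive Y Ω 2 := by
  haveI := Fact.mk Nat.prime_two
  haveI := ThreePrime.Sz.isSimple hY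
  have key : ∀ b c d : Ω, c ≠ b → d ≠ b → ∃ y : Y, y • b = b ∧ y • c = d := by
    intro b c d hc hd
    have hidx : ¬ 2 ∣ (stabilizer Y b).index := by
      rw [index_stabilizer_of_transitive]
      exact fun h2 => Nat.not_even_iff_odd.2 hodd (even_iff_two_dvd.2 h2)
    obtain ⟨P₀⟩ := (inferInstance : Nonempty (Sylow 2 (stabilizer Y b)))
    obtain ⟨P, hP⟩ : ∃ P : Sylow 2 Y, (P : Subgroup Y) ≤ stabilizer Y b :=
      ⟨(P₀.isPGroup'.map (stabilizer Y b).subtype).toSylow (by
        rw [index_map_subtype]; exact Nat.prime_two.not_dvd_mul P₀.not_dvd_index hidx),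
        by rw [IsPGroup.toSylow_coe]; exact map_subtype_le _⟩
    obtain ⟨j, hj, hPj⟩ := ThreePrime.Sz.exists_sylow_eq hY P
    rw [hPj] at hP
    have htop : stabilizer Y b ≠ ⊤ := fun e => by
      obtain ⟨g, hg⟩ := exists_smul_eq Y b c
      exact hc (hg ▸ mem_stabilizer_iff.1 (e ▸ mem_top g))
    -- an overgroup of a Sylow subgroup lies in its normaliser
    have hle : stabilizer Y b ≤ normalizer (centralizer ({j} : Set Y) : Set Y) := by
      intro g hg
      by_contra hgN
      refine htop (eq_top_iff.2 ?_)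
      have hall : ∀ (h x : Y), x ∈ centralizer ({j} : Set Y) → h * x * h⁻¹ ∈ stabilizer Y b := by
        intro h x hx
        by_cases hh : h ∈ normalizer (centralizer ({j} : Set Y) : Set Y)
        · exact hP ((mem_normalizer_iff.1 hh x).1 hx)
        · obtain ⟨w, hw, hn⟩ := ThreePrime.Sz.cent_trans hY hj hgN hh
          have h1 : (h⁻¹ * (w * g))⁻¹ * x * ((h⁻¹ * (w * g))⁻¹)⁻¹ ∈ centralizer ({j} : Set Y) :=
            (mem_normalizer_iff.1 (inv_mem hn) x).1 hx
          have hwg : w * g ∈ stabilizer Y b := mul_mem (hP hw) hg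
          rw [show h * x * h⁻¹ = w * g * ((h⁻¹ * (w * g))⁻¹ * x * ((h⁻¹ * (w * g))⁻¹)⁻¹) * (w * g)⁻¹ by group]
          exact mul_mem (mul_mem hwg (hP h1)) (inv_mem hwg)
      have hcl : normalClosure (centralizer ({j} : Set Y) : Set Y) ≤ stabilizer Y b := by
        refine (closure_le _).2 fun z hz => ?_
        obtain ⟨x, hx, hzx⟩ := Group.mem_conjugatesOfSet_iff.1 hz
        obtain ⟨h, rfl⟩ := isConj_iff.1 hzx
        exact hall h x hx
      rcases Subgroup.Normal.eq_bot_or_eq_top
        (normalClosure_normal (s := (centralizer ({j} : Set Y) : Set Y))) with e | e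
      · exfalso
        have h1 := subset_normalClosure (s := (centralizer ({j} : Set Y) : Set Y))
          (mem_centralizer_singleton_iff.2 (rfl : j * j = j * j))
        rw [e] at h1
        rw [mem_bot.1 h1, orderOf_one] at hj
        omega
      · exact e ▸ hcl
    have heq : stabilizer Y b = normalizer (centralizer ({j} : Set Y) : Set Y) :=
      ((IsPreprimitive.isCoatom_stabilizer_of_isPreprimitive (G := Y) b).le_iff_eq (ThreePrime.Sz.normalizer_ne_top hY hj)).1 hle |>.symm
    obtain ⟨g₁, hg₁⟩ := exists_smul_eq Y b c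
    obtain ⟨g₂, hg₂⟩ := exists_smul_eq Y b d
    have h₁ : g₁ ∉ normalizer (centralizer ({j} : Set Y) : Set Y) := fun h => hc (by
      rw [← heq] at h; rw [← hg₁]; exact h)
    have h₂ : g₂ ∉ normalizer (centralizer ({j} : Set Y) : Set Y) := fun h => hd (by
      rw [← heq] at h; rw [← hg₂]; exact h)
    obtain ⟨w, hw, hn⟩ := ThreePrime.Sz.cent_trans hY hj h₁ h₂
    refine ⟨w, hP hw, ?_⟩
    rw [← heq] at hn
    have h3 : (g₂⁻¹ * (w * g₁)) • b = b := hn
    rw [mul_smul, mul_smul, hg₁, inv_smul_eq_iff, hg₂] at h3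
    exact h3
  rw [is_two_pretransitive_iff]
  intro a b c d hab hcd
  obtain ⟨g, hg⟩ := exists_smul_eq Y a c
  obtain ⟨y, hy₁, hy₂⟩ := key c (g • b) d (fun e => hab (smul_left_cancel g (hg.trans e.symm))) hcd.symm
  exact ⟨y * g, by rw [mul_smul, hg, hy₁], by rw [mul_smul, hy₂]⟩

/-- A normal 3'-subgroup with a nonabelian minimal normal subgroup of a doubly transitive group of odd degree is
doubly transitive. -/
theorem two_transitive_of_socle (h3 : ThreePrimeSimple.{u}) {A : Type u} [Group A] [Finite A] {Ω : Type v}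
    [Finite Ω] [Nontrivial Ω] [MulAction A Ω] [FaithfulSMul A Ω] (h2 : IsMultiplyPretransitive A Ω 2)
    (hodd : Odd (Nat.card Ω)) (M Y : Subgroup A) [Y.Normal] (hM : ¬ 3 ∣ Nat.card M) (hYM : Y ≤ M) (hY : Y ≠ ⊥)
    (hmin : ∀ N : Subgroup A, N.Normal → N ≤ Y → N = ⊥ ∨ N = Y) (hnc : ¬ IsMulCommutative Y) :
    IsMultiplyPretransitive M Ω 2 := by
  haveI : IsPreprimitive A Ω := isPreprimitive_of_is_two_pretransitive h2
  haveI : IsPretransitive Y Ω := by
    refine IsQuasiPreprimitive.isPretransitive_of_normal fun h => hY ?_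
    refine Y.eq_bot_iff_forall.2 fun n hn => FaithfulSMul.eq_of_smul_eq_smul (α := Ω) fun y => ?_
    rw [one_smul]
    exact Set.eq_univ_iff_forall.1 h y ⟨n, hn⟩
  obtain ⟨a⟩ := (inferInstance : Nonempty Ω)
  have hnreg : stabilizer Y a ≠ ⊥ := by
    intro h
    obtain ⟨p, hp, hpg⟩ := CfsgLib.Perm.Burnside2.isPGroup_of_regular h2 Y a h
    haveI := Fact.mk hp
    haveI := hpg.isNilpotent
    exact hnc (CfsgLib.Core.commutative_of_minimal_normal Y inferInstance hY hmin)
  haveI := CfsgLib.Perm.Burnside2.isPreprimitive_of_minimal_normal h2 Y hmin a hnreg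
  haveI := CfsgLib.Perm.Burnside2.isSimpleGroup_of_primitive h2 Y hY hmin
  have hiso := h3 Y inferInstance hnc fun h => hM (h.trans (card_dvd_of_le hYM))
  have hY2 := two_transitive_of_suzuki (Ω := Ω) hiso hodd
  rw [is_two_pretransitive_iff] at hY2 ⊢
  intro a b c d hab hcd
  obtain ⟨⟨y, hy⟩, h⟩ := hY2 hab hcd
  exact ⟨⟨y, hYM hy⟩, h⟩

end CfsgLib.Wagner
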