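import Cfsg.Agent.Lib.Perm.Wagner.Setting
import Cfsg.Agent.Lib.Perm.Wagner.Socle
import Cfsg.Agent.Lib.ThreePrime.Induction

/-!
Owner: helper16. The socle step of S3255, given the simple groups of order prime to three.
-/

set_option autoImplicit false

namespace CfsgLib.Wagner

universe u

/-- The socle step. -/
theorem socleStep (h3 : ThreePrimeUse.ThreePrimeSimple.{u}) : SocleStep.{u} := by
  intro A X _ _ _ _ _ h2 hodd M _ hM ⟨Y, hYn, hYM, hY, hnc, hmin⟩
  haveI : Nontrivial X := by
    by_contra hX
    rw [not_nontrivial_iff_subsingleton] at hX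
    haveI : Subsingleton A := ⟨fun s t => FaithfulSMul.eq_of_smul_eq_smul (α := X) fun x => Subsingleton.elim _ _⟩
    exact hY (Subgroup.eq_bot_iff_forall _ |>.2 fun a _ => Subsingleton.elim _ _)
  exact two_transitive_of_socle h3 h2 (by rwa [Nat.card_eq_fintype_card]) M Y hM hYM hY hmin hnc

/-- The socle step from the classification of simple groups of order prime to three. -/
theorem socleStep_of_goal (h : CfsgLib.ThreePrime.Goal.{u}) : SocleStep.{u} :=
  socleStep fun X _ _ => h X

end CfsgLib.Wagner
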