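import Cfsg.Agent.Lib.Perm.Wagner.AffineMain
import Cfsg.Agent.Lib.Perm.Wagner.SocleProof

/-!
Owner: helper12. S3255 (Wagner): the reduction to a simple doubly transitive normal subgroup, and the induction.

* `exists_ctx`: inside each nontrivial normal subgroup there is a subgroup `M` with `Ctx`.
* `twoCol_of_ctx`, `twoColBelow`, `twoCol_normal`: at most two colours.
-/

set_option autoImplicit false
set_option linter.unusedSectionVars false

namespace CfsgLib.Wagner

open Subgroup MulAction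

universe u

variable {G : Type u} [Group G] [Finite G] {Ω : Type u} [Fintype Ω] [MulAction G Ω] [FaithfulSMul G Ω]

theorem exists_ctx (h3 : IsMultiplyPretransitive G Ω 3) (hd : 3 ∣ Fintype.card Ω) (hn : 3 < Fintype.card Ω)
    (H : Subgroup G) (hH : H.Normal) (hH1 : H ≠ ⊥) : ∃ M : Subgroup G, M ≤ H ∧ Ctx Ω M := by
  classical
  haveI : Fact (Nat.Prime 3) := ⟨Nat.prime_three⟩
  haveI : Nontrivial Ω := Fintype.one_lt_card_iff_nontrivial.1 (by omega)
  haveI := h3
  have h2 : IsMultiplyPretransitive G Ω 2 :=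
    MulAction.isMultiplyPretransitive_of_le' (show 2 ≤ 3 by omega) (by rw [ENat.card_eq_coe_fintype_card]; exact_mod_cast hn.le)
  obtain ⟨M, ⟨hMn, hM1, hMH⟩, hMmin⟩ := (Set.toFinite {M : Subgroup G | M.Normal ∧ M ≠ ⊥ ∧ M ≤ H}).exists_minimal
    ⟨H, hH, hH1, le_rfl⟩
  haveI := hMn
  have hmin : ∀ Z : Subgroup G, Z.Normal → Z ≤ M → Z = ⊥ ∨ Z = M := fun Z hZ hZM => by
    rcases eq_or_ne Z ⊥ with h | h
    · exact Or.inl h
    · exact Or.inr (le_antisymm hZM (hMmin ⟨hZ, h, hZM.trans hMH⟩ hZM))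
  haveI : IsPreprimitive G Ω := isPreprimitive_of_is_two_pretransitive h2
  haveI hMt : IsPretransitive M Ω := by
    refine IsQuasiPreprimitive.isPretransitive_of_normal fun h => hM1 ?_
    refine M.eq_bot_iff_forall.2 fun n hn => FaithfulSMul.eq_of_smul_eq_smul (α := Ω) fun y => ?_
    rw [one_smul]
    exact Set.eq_univ_iff_forall.1 h y ⟨n, hn⟩
  obtain ⟨a⟩ : Nonempty Ω := Fintype.card_pos_iff.1 (by omega)
  -- not regular
  have hnreg : stabilizer M a ≠ ⊥ := by
    intro hreg
    obtain ⟨p, hp, hpg⟩ := CfsgLib.Perm.Burnside2.isPGroup_of_regular h2 M a hreg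
    haveI := Fact.mk hp
    haveI := hpg.isNilpotent
    have hcomm := CfsgLib.Core.commutative_of_minimal_normal M inferInstance hM1 hmin
    have hcard : Nat.card M = Fintype.card Ω := by
      rw [← Nat.card_eq_fintype_card, ← index_stabilizer_of_transitive M a, hreg, index_bot]
    have hp3 : p = 3 := by
      obtain ⟨i, hi⟩ := IsPGroup.iff_card.1 hpg
      rw [← hcard, hi] at hd
      exact ((Nat.prime_dvd_prime_iff_eq Nat.prime_three hp).1 (Nat.prime_three.dvd_of_dvd_pow hd)).symm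
    subst hp3
    obtain ⟨v, hv, hv1⟩ := (Subgroup.bot_or_exists_ne_one M).resolve_left hM1
    have hfix : ∀ m ∈ M, m • a = a → m = 1 := fun m hm he => by
      have : (⟨m, hm⟩ : M) ∈ stabilizer M a := he
      rw [hreg, mem_bot] at this
      exact congrArg Subtype.val this
    have hinj : ∀ m ∈ M, ∀ m' ∈ M, m • a = m' • a → m = m' := fun m hm m' hm' he =>
      (inv_mul_eq_one.1 (hfix _ (mul_mem (inv_mem hm') hm) (by rw [mul_smul, he, inv_smul_smul]))).symm
    have hvv : v ≠ v⁻¹ := fun e => hv1 <| by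
      have h2' : (⟨v, hv⟩ : M) ^ 2 = 1 := Subtype.ext (by
        show v ^ 2 = 1
        rw [pow_two]
        nth_rewrite 2 [e]
        exact mul_inv_cancel v)
      obtain ⟨i, hi⟩ := hpg ⟨v, hv⟩
      have h := Nat.dvd_gcd (orderOf_dvd_of_pow_eq_one h2') (orderOf_dvd_of_pow_eq_one hi)
      rw [Nat.Coprime.gcd_eq_one (Nat.Coprime.pow_right i (by decide)), Nat.dvd_one, orderOf_eq_one_iff] at h
      exact congrArg Subtype.val h
    obtain ⟨d, hda, hdv, hdv'⟩ : ∃ d : Ω, d ≠ a ∧ d ≠ v • a ∧ d ≠ v⁻¹ • a := by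
      obtain ⟨d, hd'⟩ : ∃ d : Ω, d ∉ ({a, v • a, v⁻¹ • a} : Finset Ω) := by
        by_contra hne
        push Not at hne
        have := Finset.card_le_card (show (Finset.univ : Finset Ω) ⊆ {a, v • a, v⁻¹ • a} from fun x _ => hne x)
        rw [Finset.card_univ] at this
        have := Finset.card_le_three (a := a) (b := v • a) (c := v⁻¹ • a)
        omega
      simp only [Finset.mem_insert, Finset.mem_singleton, not_or] at hd'
      exact ⟨d, hd'⟩
    have hav : a ≠ v • a := fun e => hv1 (hfix v hv e.symm)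
    have hav' : a ≠ v⁻¹ • a := fun e => hv1 (inv_eq_one.1 (hfix _ (inv_mem hv) e.symm))
    have hvv' : v • a ≠ v⁻¹ • a := fun e => hvv (hinj v hv _ (inv_mem hv) e)
    obtain ⟨g, hg⟩ := exists_smul_eq G (trip a (v • a) (v⁻¹ • a) hav hav' hvv')
      (trip a (v • a) d hav hda.symm hdv.symm)
    have g0 : g • a = a := DFunLike.congr_fun hg 0
    have g1 : g • v • a = v • a := DFunLike.congr_fun hg 1
    have g2 : g • v⁻¹ • a = d := DFunLike.congr_fun hg 2
    have hginv : g⁻¹ • a = a := inv_smul_eq_iff.2 g0.symm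
    have hgv : g * v * g⁻¹ = v := hinj _ (hMn.conj_mem v hv g) v hv (by rw [mul_smul, hginv, mul_smul, g1])
    refine hdv' ?_
    rw [← g2]
    have : g * v⁻¹ * g⁻¹ = v⁻¹ := by rw [← conj_inv, hgv]
    conv_rhs => rw [← this, mul_smul, hginv, mul_smul]
  haveI hMp := CfsgLib.Perm.Burnside2.isPreprimitive_of_minimal_normal h2 M hmin a hnreg
  haveI hMs := CfsgLib.Perm.Burnside2.isSimpleGroup_of_primitive h2 M hM1 hmin
  have hnonab : ¬ IsMulCommutative M := fun hc => hnreg <| (Subgroup.eq_bot_iff_forall _).2 fun m hm => by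
    refine Subtype.ext (FaithfulSMul.eq_of_smul_eq_smul (α := Ω) fun x => ?_)
    obtain ⟨g, rfl⟩ := exists_smul_eq M a x
    rw [OneMemClass.coe_one, one_smul]
    show m • g • a = g • a
    rw [← mul_smul, hc.is_comm.comm m g, mul_smul, show m • a = a from hm]
  -- double transitivity
  have hM2 : IsMultiplyPretransitive M Ω 2 := by
    rw [is_two_pretransitive_iff]
    intro c d c' d' hcd hcd'
    obtain ⟨m, hm⟩ := exists_smul_eq M c c'
    set K : Subgroup G := M ⊓ stabilizer G c' with hK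
    have hK1 : K ≠ ⊥ := by
      obtain ⟨g, hg⟩ := exists_smul_eq M a c'
      obtain ⟨s, hs, hs1⟩ := (Subgroup.bot_or_exists_ne_one (stabilizer M a)).resolve_left hnreg
      intro h
      have hmem : (g : G) * s * (g : G)⁻¹ ∈ K := ⟨mul_mem (mul_mem g.2 (s : M).2) (M.inv_mem g.2), by
        show ((g : G) * s * (g : G)⁻¹) • c' = c'
        rw [← hg]
        show ((g : G) * s * (g : G)⁻¹) • (g : G) • a = (g : G) • a
        rw [mul_smul, mul_smul, inv_smul_smul, show (s : G) • a = a from hs]⟩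
      rw [h, mem_bot, mul_inv_eq_one, mul_eq_left] at hmem
      exact hs1 (Subtype.ext hmem)
    have hne : c' ≠ m • d := fun e => hcd (MulAction.injective m (hm.trans e))
    obtain ⟨k, hk, hkd⟩ := transitive_of_normalised h3 hK1 inf_le_right (fun g hg k hk =>
      ⟨hMn.conj_mem k hk.1 g, by
        show (g * k * g⁻¹) • c' = c'
        rw [mul_smul, mul_smul, inv_smul_eq_iff.2 hg.symm, show k • c' = c' from hk.2, hg]⟩) hne hcd'
    exact ⟨⟨k, hk.1⟩ * m, by rw [mul_smul, hm]; exact hk.2, by rw [mul_smul]; exact hkd⟩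
  -- cyclic colours
  have hcyc : ∀ t : Fin 3 ↪ Ω, Col M t (rot t) := by
    have h3M : 3 ∣ Nat.card M := by
      refine hd.trans ?_
      rw [← Nat.card_eq_fintype_card, ← index_stabilizer_of_transitive M a]
      exact index_dvd_card _
    obtain ⟨y, hy⟩ := exists_prime_orderOf_dvd_card' (G := M) 3 h3M
    have hy3 : (y : G) * ((y : G) * (y : G)) = 1 := by
      have h := congrArg Subtype.val (hy ▸ pow_orderOf_eq_one y : y ^ 3 = 1)
      simpa [pow_succ, mul_assoc] using h
    obtain ⟨c, hc⟩ : ∃ c : Ω, (y : G) • c ≠ c := by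
      by_contra hne
      push Not at hne
      have h1 : y = 1 := Subtype.ext (FaithfulSMul.eq_of_smul_eq_smul fun x => (hne x).trans (one_smul G x).symm)
      rw [h1, orderOf_one] at hy
      omega
    have h01 : c ≠ (y : G) • c := Ne.symm hc
    have h12 : (y : G) • c ≠ (y : G) • (y : G) • c := fun e => h01 (MulAction.injective (y : G) e)
    have h02 : c ≠ (y : G) • (y : G) • c := fun e => hc <| by
      conv_lhs => rw [e]
      rw [← mul_smul, ← mul_smul, mul_assoc, hy3, one_smul]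
    intro t
    obtain ⟨g, rfl⟩ := exists_smul_eq G (trip c ((y : G) • c) ((y : G) • (y : G) • c) h01 h02 h12) t
    rw [← smul_rot]
    refine Col.smul g ⟨y, y.2, trip_ext rfl rfl ?_⟩
    show (y : G) • (y : G) • (y : G) • c = c
    rw [← mul_smul, ← mul_smul, mul_assoc, hy3, one_smul]
  exact ⟨M, hMH, h3, hd, hn, hMn, hMs, hnonab, hM2, hcyc⟩

/-- At most two colours for the simple subgroup, given the smaller degrees. -/
theorem twoCol_of_ctx (hgoal : CfsgLib.ThreePrime.Goal.{u}) {M : Subgroup G} (hC : Ctx Ω M)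
    (hIH : TwoColBelow.{u} (Fintype.card Ω)) : TwoCol Ω M := by
  rcases twoCol_or_three_free hC hIH with h | hfree
  · exact h
  rcases Nat.even_or_odd (Fintype.card Ω) with he | ho
  · obtain ⟨a⟩ : Nonempty Ω := Fintype.card_pos_iff.1 (by have := hC.three_lt; omega)
    rcases aff_or_transitive (socleStep_of_goal hgoal) hC he hfree a with h | ⟨V, p, f, A⟩
    · exact h
    · exact twoCol_of_aff (fun X _ _ => hgoal X) hC hIH hfree A
  · rcases twoCol_or_odd hC hIH ho hfree with h | h
    · exact h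
    · exact twoCol_odd_degree hC ho h

omit [FaithfulSMul G Ω] in
theorem twoColBelow (hgoal : CfsgLib.ThreePrime.Goal.{u}) (n : ℕ) : TwoColBelow.{u} n := by
  induction n with
  | zero => intro G Ω _ _ _ _ _ h; exact absurd h (Nat.not_lt_zero _)
  | succ n ih =>
    intro G Ω _ _ _ _ _ hlt h3 hd hn H hH hH1
    obtain ⟨M, hMH, hC⟩ := exists_ctx h3 hd hn H hH hH1
    refine (twoCol_of_ctx hgoal hC ?_).mono hMH
    intro G' Ω' _ _ _ _ _ hlt' h3' hd' hn' H' hH' hH1'
    exact ih G' Ω' (by omega) h3' hd' hn' H' hH' hH1'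

/-- The first conclusion of S3255. -/
theorem twoCol_normal (hgoal : CfsgLib.ThreePrime.Goal.{u}) (h3 : IsMultiplyPretransitive G Ω 3)
    (hd : 3 ∣ Fintype.card Ω) (hn : 3 < Fintype.card Ω) (H : Subgroup G) (hH : H.Normal) (hH1 : H ≠ ⊥) :
    TwoCol Ω H :=
  twoColBelow hgoal (Fintype.card Ω + 1) G Ω (Nat.lt_succ_self _) h3 hd hn H hH hH1

end CfsgLib.Wagner
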