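import Cfsg.Agent.Lib.Perm.Wagner.Sylow
import Cfsg.Agent.Lib.Bender.Gen.Final
import Cfsg.Agent.Lib.ZStar.Apps
import Cfsg.Agent.S0205

/-!
Owner: helper12. S3255 (Wagner): odd degree.

The stabiliser in `M` of a point is strongly embedded; Bender's theorem gives a normal 2-subgroup `U` regular
on the other points; it is abelian as the stabiliser in `G` is primitive there, and `M_ab` is transitive on its
involutions.
-/

set_option autoImplicit false
set_option linter.unusedSectionVars false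

namespace CfsgLib.Wagner

open Subgroup MulAction

universe u

theorem exists_four_of_simple {X : Type u} [Group X] [Finite X] [IsSimpleGroup X]
    (hX : ¬ IsMulCommutative X) : ∃ E : Subgroup X, IsKleinFour E := by
  have heven : Even (Nat.card X) := by
    rw [← Nat.not_odd_iff_even]
    intro hodd
    haveI := Cfsg.Agent.S0205.result hodd
    exact hX ⟨⟨IsSimpleGroup.comm_iff_isSolvable.2 inferInstance⟩⟩
  by_contra hne
  push Not at hne
  haveI : Fact (Nat.Prime 2) := ⟨Nat.prime_two⟩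
  obtain ⟨P⟩ : Nonempty (Sylow 2 X) := inferInstance
  obtain ⟨z, hz, hz2, huniq⟩ := CfsgLib.ZStar.exists_unique_involution heven hne P
  have hmem := CfsgLib.ZStar.mem_oddCore_of_unique P hz2 hz huniq
  haveI : (Cfsg.oddCore X).Normal := inferInstance
  rcases Subgroup.Normal.eq_bot_or_eq_top (H := Cfsg.oddCore X) inferInstance with hO | hO
  · have hc : ∀ g : X, z * g = g * z := fun g => by
      have h := hmem g
      rw [hO, mem_bot, mul_inv_eq_one, mul_inv_eq_iff_eq_mul] at h
      exact h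
    have hzc : z ∈ center X := mem_center_iff.2 fun g => (hc g).symm
    rcases Subgroup.Normal.eq_bot_or_eq_top (H := center X) inferInstance with hZ | hZ
    · exact CfsgLib.Signalizer.involution_ne_one hz2 (mem_bot.1 (hZ ▸ hzc))
    · exact hX ⟨⟨fun a b => mem_center_iff.1 (hZ ▸ mem_top b) a⟩⟩
  · have := CfsgLib.ZStar.odd_card_oddCore X
    rw [hO, card_top] at this
    exact Nat.not_even_iff_odd.2 this heven

variable {G : Type u} [Group G] [Finite G] {Ω : Type u} [Fintype Ω] [MulAction G Ω] [FaithfulSMul G Ω]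

/-- A nontrivial subgroup normalised by a doubly transitive point stabiliser is transitive on the other points. -/
theorem transitive_of_normalised (h3 : IsMultiplyPretransitive G Ω 3) {a : Ω} {K : Subgroup G}
    (hK : K ≠ ⊥) (hKa : K ≤ stabilizer G a)
    (hnorm : ∀ g : G, g • a = a → ∀ k ∈ K, g * k * g⁻¹ ∈ K) {c d : Ω} (hc : a ≠ c) (hd : a ≠ d) :
    ∃ k ∈ K, k • c = d := by
  haveI := h3
  obtain ⟨k, hk, hk1⟩ := (Subgroup.bot_or_exists_ne_one K).resolve_left hK
  obtain ⟨x, hx⟩ : ∃ x : Ω, k • x ≠ x := by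
    by_contra hne
    push Not at hne
    exact hk1 (FaithfulSMul.eq_of_smul_eq_smul fun x => by rw [hne x, one_smul])
  have hxa : a ≠ x := fun e => hx (e ▸ hKa hk)
  have hkxa : a ≠ k • x := fun e => hxa (MulAction.injective k ((show k • a = a from hKa hk).trans e))
  rcases eq_or_ne c d with rfl | hcd
  · exact ⟨1, one_mem _, one_smul _ _⟩
  obtain ⟨g, hg⟩ := exists_smul_eq G (trip a x (k • x) hxa hkxa (Ne.symm hx)) (trip a c d hc hd hcd)
  have h0 : g • a = a := DFunLike.congr_fun hg 0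
  have h1 : g • x = c := DFunLike.congr_fun hg 1
  have h2 : g • k • x = d := DFunLike.congr_fun hg 2
  refine ⟨g * k * g⁻¹, hnorm g h0 k hk, ?_⟩
  rw [← h1, mul_smul, mul_smul, inv_smul_smul, h2]

/-- Odd degree with two-point stabilisers of odd order: one colour. -/
theorem twoCol_odd_degree {M : Subgroup G} (hC : Ctx Ω M) (hodd : Odd (Fintype.card Ω))
    (hstab : ∀ a b : Ω, a ≠ b → Odd (Nat.card (stab2 M a b))) : TwoCol Ω M := by
  classical
  haveI : Fact (Nat.Prime 2) := ⟨Nat.prime_two⟩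
  haveI := hC.normal
  haveI := hC.simple
  haveI h2 := hC.trans2
  obtain ⟨E, hE⟩ := exists_four_of_simple hC.nonab
  -- a point fixed by `E`
  have hE2 : IsPGroup 2 E := IsPGroup.of_card (n := 2) hE.card_four
  obtain ⟨a, ha⟩ : (fixedPoints E Ω).Nonempty := by
    refine hE2.nonempty_fixed_point_of_prime_not_dvd_card Ω ?_
    rw [Nat.card_eq_fintype_card]
    exact fun h => Nat.not_even_iff_odd.2 hodd (even_iff_two_dvd.2 h)
  set H : Subgroup M := stabilizer M a with hH
  have hn1 : 1 < Fintype.card Ω := by have := hC.three_lt; omega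
  haveI := Fintype.one_lt_card_iff_nontrivial.1 hn1
  obtain ⟨b, hb⟩ := exists_ne a
  have hEH : ∀ e : M, e ∈ E → e ∈ H := fun e he => ha ⟨e, he⟩
  -- `H` is strongly embedded
  have hSE : Cfsg.IsStronglyEmbedded H := by
    refine ⟨fun htop => hb ?_, even_iff_two_dvd.2 ?_, fun g hg => ?_⟩
    · obtain ⟨m, hm, h1, h2'⟩ := exists_map2 (M := M) h2 hb.symm hb
      have h3' : (⟨m, hm⟩ : M) ∈ H := htop ▸ mem_top _
      exact h1.symm.trans h3'
    · exact (dvd_mul_right 2 2).trans ((show Nat.card E = 2 * 2 from hE.card_four) ▸ card_dvd_of_le hEH)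
    · have hne : a ≠ g • a := fun e => hg e.symm
      have h1 : (H ⊓ H.map (MulAut.conj g).toMonoidHom).map M.subtype ≤ stab2 M a (g • a) := by
        rintro _ ⟨x, ⟨hx, y, hy, rfl⟩, rfl⟩
        refine mem_stab2.2 ⟨((MulAut.conj g) y).2, hx, ?_⟩
        show ((MulAut.conj g) y : M) • g • a = g • a
        rw [MulAut.conj_apply, mul_smul, mul_smul, inv_smul_smul]
        exact congrArg _ hy
      have h2' := card_dvd_of_le h1
      rw [card_map_of_injective M.subtype_injective] at h2'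
      exact (hstab _ _ hne).of_dvd_nat h2'
  have hfour : ∃ s ∈ H, ∃ t ∈ H, orderOf s = 2 ∧ orderOf t = 2 ∧ s ≠ t ∧ s * t = t * s := by
    haveI := hE
    obtain ⟨x, y, hx, hy, hxy⟩ : ∃ x y : E, x ≠ 1 ∧ y ≠ 1 ∧ x ≠ y := by
      haveI := Fintype.ofFinite E
      have h4 : 3 ≤ Nat.card {x : E // x ≠ 1} := by
        rw [Nat.card_eq_fintype_card, Fintype.card_subtype_compl, Fintype.card_subtype_eq,
          ← Nat.card_eq_fintype_card, hE.card_four]
      haveI : Nontrivial {x : E // x ≠ 1} := Finite.one_lt_card_iff_nontrivial.1 (by omega)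
      obtain ⟨p, q, hpq⟩ := exists_pair_ne {x : E // x ≠ 1}
      exact ⟨p, q, p.2, q.2, fun e => hpq (Subtype.ext e)⟩
    have ho : ∀ z : E, z ≠ 1 → orderOf (z : M) = 2 := fun z hz => by
      rw [Subgroup.orderOf_coe]
      have h := Monoid.pow_exponent_eq_one z
      rw [IsKleinFour.exponent_two] at h
      exact orderOf_eq_prime h hz
    exact ⟨x, hEH _ x.2, y, hEH _ y.2, ho x hx, ho y hy, fun e => hxy (Subtype.ext e),
      congrArg Subtype.val (mul_comm_of_exponent_two IsKleinFour.exponent_two x y)⟩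
  obtain ⟨hS, hsol⟩ := CfsgLib.Bender.benderGen M H hSE hfour
  have hcore : H.normalCore = ⊥ := by
    rcases Subgroup.Normal.eq_bot_or_eq_top (H := H.normalCore) inferInstance with h | h
    · exact h
    · exact absurd (top_unique (h ▸ normalCore_le H)) hSE.1
  set o : M ⧸ H := ((1 : M) : M ⧸ H) with ho
  obtain ⟨U, hUa, hUn, htr, hfree, hU, -⟩ :=
    hS.exists_regular (CfsgLib.Bender.smallerOK _) (CfsgLib.Bender.faithful_of_core hcore) o hsol
  rw [CfsgLib.Bender.stab_base] at hUa hUn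
  let φ : M ⧸ H → Ω := MulAction.ofQuotientStabilizer M a
  have hφinj : Function.Injective φ := MulAction.injective_ofQuotientStabilizer M a
  have hφo : φ o = a := one_smul M a
  have hφs : ∀ (g : M) (q : M ⧸ H), φ (g • q) = g • φ q := fun g q =>
    MulAction.ofQuotientStabilizer_smul M a g q
  have hφsur : ∀ c : Ω, ∃ q, φ q = c := fun c => by
    obtain ⟨d, hd⟩ := exists_ne c
    obtain ⟨m, hm, h1, -⟩ := exists_map2 (M := M) h2 hb.symm (Ne.symm hd)
    exact ⟨((⟨m, hm⟩ : M) : M ⧸ H), h1⟩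
  set U' := U.map M.subtype with hU'
  have hU'a : U' ≤ stabilizer G a := by
    rintro _ ⟨u, hu, rfl⟩
    exact hUa hu
  have htr' : ∀ {c d : Ω}, a ≠ c → a ≠ d → ∃ u ∈ U', u • c = d := by
    intro c d hc hd
    obtain ⟨q, rfl⟩ := hφsur c
    obtain ⟨r, rfl⟩ := hφsur d
    obtain ⟨u, hu, he⟩ := htr q r (fun e => hc (by rw [e, hφo])) (fun e => hd (by rw [e, hφo]))
    exact ⟨u, ⟨u, hu, rfl⟩, (hφs u q).symm.trans (congrArg φ he)⟩
  have hfree' : ∀ {c : Ω}, a ≠ c → ∀ u ∈ U', u • c = c → u = 1 := by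
    rintro c hc _ ⟨u, hu, rfl⟩ he
    obtain ⟨q, rfl⟩ := hφsur c
    have h1 : u • q = q := hφinj ((hφs u q).trans he)
    rw [hfree q (fun e => hc (by rw [e, hφo])) u hu h1]
    rfl
  -- `U'` is normalised by the stabiliser in `G`
  have hUp : IsPGroup 2 U := IsPGroup.of_card hU
  let S₀ : Sylow 2 M := Sylow.ofCard U hU
  have huniq : ∀ V : Subgroup M, IsPGroup 2 V → V ≤ H → V ≤ U := fun V hV hVH => by
    have hp : IsPGroup 2 (V ⊔ U : Subgroup M) := hV.to_sup_of_normal_right' hUp (hVH.trans hUn)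
    exact le_sup_left.trans (S₀.is_maximal' hp le_sup_right).le
  have hnorm : ∀ g : G, g • a = a → ∀ k ∈ U', g * k * g⁻¹ ∈ U' := by
    rintro g hg _ ⟨u, hu, rfl⟩
    let f : M →* M := (MulAut.conjNormal g : MulAut M).toMonoidHom
    have hf : ∀ x : M, ((f x : M) : G) = g * x * g⁻¹ := fun x => MulAut.conjNormal_apply g x
    have h1 : U.map f ≤ U := by
      refine huniq _ (hUp.map f) ?_
      rintro _ ⟨x, hx, rfl⟩
      show ((f x : M) : G) • a = a
      rw [hf, mul_smul, mul_smul, inv_smul_eq_iff.2 hg.symm, show (x : G) • a = a from hUa hx, hg]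
    exact ⟨f u, h1 ⟨u, hu, rfl⟩, hf u⟩
  have hU'p : IsPGroup 2 U' := hUp.map _
  have hU1 : U' ≠ ⊥ := fun h => by
    obtain ⟨d, hda, hdb⟩ : ∃ d : Ω, d ≠ a ∧ d ≠ b := by
      by_contra hne
      push Not at hne
      have : (Finset.univ : Finset Ω) ⊆ {a, b} := fun x _ => by
        rcases eq_or_ne x a with h | h
        · simp [h]
        · simp [hne x h]
      have h3' := Finset.card_le_card this
      have := hC.three_lt
      have := Finset.card_le_two (a := a) (b := b)
      simp only [Finset.card_univ] at h3'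
      omega
    obtain ⟨u, hu, hub⟩ := htr' hb.symm hda.symm
    rw [h, mem_bot] at hu
    rw [hu, one_smul] at hub
    exact hdb hub.symm
  -- the centre is transitive, so `U'` is abelian
  have hab : ∀ x ∈ U', ∀ y ∈ U', x * y = y * x := by
    intro x hx y hy
    set Z := (center U').map U'.subtype with hZ
    haveI : Nontrivial U' := (U').nontrivial_iff_ne_bot.2 hU1
    have hZ1 : Z ≠ ⊥ := by
      haveI := hU'p.center_nontrivial
      obtain ⟨z, hz⟩ := exists_ne (1 : center U')
      intro h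
      have : ((z : U') : G) ∈ Z := ⟨z, z.2, rfl⟩
      rw [h, mem_bot] at this
      exact hz (Subtype.ext (Subtype.ext this))
    have hZn : ∀ g : G, g • a = a → ∀ k ∈ Z, g * k * g⁻¹ ∈ Z := by
      rintro g hg _ ⟨z, hz, rfl⟩
      refine ⟨⟨g * z * g⁻¹, hnorm g hg z z.2⟩, mem_center_iff.2 fun w => Subtype.ext ?_, rfl⟩
      have hw : g⁻¹ * (w : G) * g ∈ U' := by
        simpa using hnorm g⁻¹ (inv_smul_eq_iff.2 hg.symm) w w.2
      have hcomm : (g⁻¹ * (w : G) * g) * (z : G) = (z : G) * (g⁻¹ * (w : G) * g) :=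
        congrArg Subtype.val (mem_center_iff.1 hz ⟨_, hw⟩)
      show (w : G) * (g * z * g⁻¹) = g * z * g⁻¹ * w
      calc (w : G) * (g * z * g⁻¹) = g * ((g⁻¹ * w * g) * z) * g⁻¹ := by group
        _ = g * (z * (g⁻¹ * w * g)) * g⁻¹ := by rw [hcomm]
        _ = g * z * g⁻¹ * w := by group
    have hZle : Z ≤ U' := map_subtype_le _
    have hall : ∀ v ∈ U', v ∈ Z := by
      intro v hv
      have hvb : a ≠ v • b := fun e => hb.symm (MulAction.injective v ((show v • a = a from hU'a hv).trans e))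
      obtain ⟨z, hz, he⟩ := transitive_of_normalised hC.trans3 hZ1 (hZle.trans hU'a) hZn hb.symm hvb
      have h1 : v⁻¹ * z = 1 := hfree' hb.symm _ (mul_mem (inv_mem hv) (hZle hz))
        (by rw [mul_smul, he, inv_smul_smul])
      rwa [show v = z from inv_mul_eq_one.1 h1]
    obtain ⟨z, hz, rfl⟩ := hall x hx
    exact congrArg Subtype.val (mem_center_iff.1 hz ⟨y, hy⟩).symm
  -- `U'` is elementary
  have hsq : ∀ x ∈ U', x * x = 1 := by
    set J : Subgroup G :=
      { carrier := {x | x ∈ U' ∧ x * x = 1}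
        one_mem' := ⟨one_mem _, one_mul 1⟩
        mul_mem' := fun {x y} hx hy => ⟨mul_mem hx.1 hy.1, by
          rw [mul_assoc, ← mul_assoc y, ← hab x hx.1 y hy.1, mul_assoc x y, hy.2, mul_one, hx.2]⟩
        inv_mem' := fun {x} hx => ⟨inv_mem hx.1, by rw [← mul_inv_rev, hx.2, inv_one]⟩ } with hJ
    have hJ1 : J ≠ ⊥ := by
      haveI : Nontrivial U' := (U').nontrivial_iff_ne_bot.2 hU1
      obtain ⟨w, hw⟩ := exists_prime_orderOf_dvd_card' (G := U') 2 (by
        obtain ⟨k, hk0, hk⟩ := hU'p.nontrivial_iff_card.1 ‹_›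
        exact hk ▸ dvd_pow_self 2 hk0.ne')
      intro h
      have h1 : (w : G) ∈ J := ⟨w.2, congrArg Subtype.val
        (show w * w = 1 by rw [← pow_two, ← hw, pow_orderOf_eq_one])⟩
      rw [h, mem_bot] at h1
      rw [Subtype.ext (a1 := w) (a2 := 1) h1, orderOf_one] at hw
      exact absurd hw (by decide)
    intro x hx
    have hxb : a ≠ x • b := fun e => hb.symm (MulAction.injective x ((show x • a = a from hU'a hx).trans e))
    obtain ⟨z, hz, he⟩ := transitive_of_normalised hC.trans3 hJ1 (fun y hy => hU'a hy.1)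
      (fun g hg y hy => ⟨hnorm g hg y hy.1, by
        rw [show g * y * g⁻¹ * (g * y * g⁻¹) = g * (y * y) * g⁻¹ by group, hy.2, mul_one, mul_inv_cancel]⟩)
      hb.symm hxb
    have h1 : x⁻¹ * z = 1 := hfree' hb.symm _ (mul_mem (inv_mem hx) hz.1)
      (by rw [mul_smul, he, inv_smul_smul])
    rw [show x = z from inv_mul_eq_one.1 h1]
    exact hz.2
  -- one colour
  refine twoCol_of_pair h2 hb.symm fun c d e hac hbc had hbd _ _ => Or.inl ?_
  obtain ⟨qb, hqb⟩ := hφsur b
  have hoq : o ≠ qb := fun e => hb.symm (by rw [← hφo, e, hqb])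
  have hinv : ∀ {x : Ω}, a ≠ x → b ≠ x → ∃ u : M, u ∈ U ∧ (u : G) • b = x ∧ CfsgLib.Bender.InvAt u o := by
    intro x hax hbx
    obtain ⟨_, ⟨u, hu, rfl⟩, hub⟩ := htr' hb.symm hax
    refine ⟨u, hu, hub, ?_, ?_⟩
    · refine orderOf_eq_prime (Subtype.ext ?_) fun e => hbx ?_
      · show ((u ^ 2 : M) : G) = 1
        rw [pow_two]
        exact hsq _ ⟨u, hu, rfl⟩
      · rw [← hub, e]
        exact (one_smul G b).symm
    · exact hφinj ((hφs u o).trans (by rw [hφo]; exact hUa hu))
  obtain ⟨u, hu, hub, hu'⟩ := hinv hac hbc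
  obtain ⟨v, hv, hvb, hv'⟩ := hinv had hbd
  obtain ⟨w, hw, hwe⟩ := hS.conj_fixing hoq hu' hv'
  have hwa : (w : G) • a = a := by
    have := congrArg φ (show w • o = o from hw.1)
    rwa [hφs, hφo] at this
  have hwb : (w : G) • b = b := by
    have := congrArg φ (show w • qb = qb from hw.2)
    rwa [hφs, hqb] at this
  refine ⟨⟨(w : G), mem_stab2.2 ⟨w.2, hwa, hwb⟩⟩, ?_⟩
  show (w : G) • c = d
  have he : (w : G) * u * (w : G)⁻¹ = v := congrArg Subtype.val hwe
  rw [← hub, ← hvb, ← he, mul_smul, mul_smul, inv_smul_eq_iff.2 hwb.symm]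

end CfsgLib.Wagner
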