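import Mathlib
import Cfsg.Agent.Lib.Perm.Burnside2

/-!
Owner: helper12. S3255 (Wagner): normal subgroups of triply transitive groups of degree divisible by three.

* `trip`, `Col`, `TwoCol`: triples of points, the colours (orbits of `M` on triples), "at most two colours".
* `Ctx M`: `M` is a normal subgroup, doubly transitive, with cyclically symmetric colours.
* `TwoColBelow n`: the theorem for the smaller degrees.
* `SocleStep`: the input for a point stabiliser with nonabelian socle.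
-/

set_option autoImplicit false
set_option linter.unusedSectionVars false

namespace CfsgLib.Wagner

open Subgroup MulAction

universe u

variable {G : Type u} [Group G] {Ω : Type u} [MulAction G Ω]

/-- A triple of distinct points. -/
def trip (a b c : Ω) (hab : a ≠ b) (hac : a ≠ c) (hbc : b ≠ c) : Fin 3 ↪ Ω :=
  ⟨![a, b, c], by
    intro i j h
    fin_cases i <;> fin_cases j <;>
      first
        | rfl
        | exact absurd h hab | exact absurd h hac | exact absurd h hbc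
        | exact absurd h.symm hab | exact absurd h.symm hac | exact absurd h.symm hbc⟩

@[simp] theorem trip_zero {a b c : Ω} (hab : a ≠ b) (hac : a ≠ c) (hbc : b ≠ c) :
    trip a b c hab hac hbc 0 = a := rfl
@[simp] theorem trip_one {a b c : Ω} (hab : a ≠ b) (hac : a ≠ c) (hbc : b ≠ c) :
    trip a b c hab hac hbc 1 = b := rfl
@[simp] theorem trip_two {a b c : Ω} (hab : a ≠ b) (hac : a ≠ c) (hbc : b ≠ c) :
    trip a b c hab hac hbc 2 = c := rfl

theorem trip_ne (t : Fin 3 ↪ Ω) {i j : Fin 3} (h : i ≠ j) : t i ≠ t j := fun e => h (t.injective e)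

/-- The rotation of a triple. -/
def rot (t : Fin 3 ↪ Ω) : Fin 3 ↪ Ω :=
  trip (t 1) (t 2) (t 0) (trip_ne t (by decide)) (trip_ne t (by decide)) (trip_ne t (by decide))

theorem smul_trip_apply (g : G) (t : Fin 3 ↪ Ω) (i : Fin 3) : (g • t) i = g • t i := rfl

theorem smul_rot (g : G) (t : Fin 3 ↪ Ω) : g • rot t = rot (g • t) := by
  ext i; fin_cases i <;> rfl

theorem trip_ext {s t : Fin 3 ↪ Ω} (h0 : s 0 = t 0) (h1 : s 1 = t 1) (h2 : s 2 = t 2) : s = t := by
  ext i; fin_cases i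
  · exact h0
  · exact h1
  · exact h2

/-- Two triples have the same colour. -/
def Col (M : Subgroup G) (s t : Fin 3 ↪ Ω) : Prop := ∃ m ∈ M, m • s = t

theorem Col.refl (M : Subgroup G) (t : Fin 3 ↪ Ω) : Col M t t := ⟨1, one_mem M, one_smul _ _⟩

theorem Col.symm {M : Subgroup G} {s t : Fin 3 ↪ Ω} (h : Col M s t) : Col M t s := by
  obtain ⟨m, hm, rfl⟩ := h
  exact ⟨m⁻¹, inv_mem hm, inv_smul_smul _ _⟩

theorem Col.trans {M : Subgroup G} {r s t : Fin 3 ↪ Ω} (h : Col M r s) (h' : Col M s t) : Col M r t := by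
  obtain ⟨m, hm, rfl⟩ := h
  obtain ⟨m', hm', rfl⟩ := h'
  exact ⟨m' * m, mul_mem hm' hm, mul_smul _ _ _⟩

theorem Col.mono {M N : Subgroup G} (hMN : M ≤ N) {s t : Fin 3 ↪ Ω} (h : Col M s t) : Col N s t := by
  obtain ⟨m, hm, rfl⟩ := h
  exact ⟨m, hMN hm, rfl⟩

theorem Col.smul {M : Subgroup G} [M.Normal] {s t : Fin 3 ↪ Ω} (g : G) (h : Col M s t) :
    Col M (g • s) (g • t) := by
  obtain ⟨m, hm, rfl⟩ := h
  exact ⟨g * m * g⁻¹, Subgroup.Normal.conj_mem inferInstance m hm g, by simp [mul_smul]⟩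

variable (Ω) in
/-- At most two colours. -/
def TwoCol (M : Subgroup G) : Prop :=
  ∀ r s t : Fin 3 ↪ Ω, Col M r s ∨ Col M r t ∨ Col M s t

theorem TwoCol.mono {M N : Subgroup G} (hMN : M ≤ N) (h : TwoCol Ω M) : TwoCol Ω N := fun r s t => by
  rcases h r s t with h | h | h
  · exact Or.inl (h.mono hMN)
  · exact Or.inr (Or.inl (h.mono hMN))
  · exact Or.inr (Or.inr (h.mono hMN))

/-- The subgroup of `M` fixing two points. -/
def stab2 (M : Subgroup G) (a b : Ω) : Subgroup G := M ⊓ stabilizer G a ⊓ stabilizer G b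

/-- The subgroup of `M` fixing a triple. -/
def stab3 (M : Subgroup G) (t : Fin 3 ↪ Ω) : Subgroup G := M ⊓ stabilizer G t

theorem mem_stab2 {M : Subgroup G} {a b : Ω} {g : G} :
    g ∈ stab2 M a b ↔ g ∈ M ∧ g • a = a ∧ g • b = b := by
  simp [stab2, and_assoc]

theorem stab2_comm (M : Subgroup G) (a b : Ω) : stab2 M a b = stab2 M b a := by
  ext g; simp only [mem_stab2]; tauto

theorem mem_stab3 {M : Subgroup G} {t : Fin 3 ↪ Ω} {g : G} :
    g ∈ stab3 M t ↔ g ∈ M ∧ g • t 0 = t 0 ∧ g • t 1 = t 1 ∧ g • t 2 = t 2 := by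
  constructor
  · rintro ⟨h, h'⟩
    exact ⟨h, DFunLike.congr_fun h' 0, DFunLike.congr_fun h' 1, DFunLike.congr_fun h' 2⟩
  · rintro ⟨h, h0, h1, h2⟩
    exact ⟨h, trip_ext h0 h1 h2⟩

theorem stab3_le_stab2 (M : Subgroup G) (t : Fin 3 ↪ Ω) : stab3 M t ≤ stab2 M (t 0) (t 1) := fun g hg => by
  obtain ⟨h, h0, h1, -⟩ := mem_stab3.1 hg
  exact mem_stab2.2 ⟨h, h0, h1⟩

variable (Ω) in
/-- The situation of the induction. -/
structure Ctx [Finite G] [Fintype Ω] [FaithfulSMul G Ω] (M : Subgroup G) : Prop where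
  trans3 : IsMultiplyPretransitive G Ω 3
  three_dvd : 3 ∣ Fintype.card Ω
  three_lt : 3 < Fintype.card Ω
  normal : M.Normal
  simple : IsSimpleGroup M
  nonab : ¬ IsMulCommutative M
  trans2 : IsMultiplyPretransitive M Ω 2
  cyc : ∀ t : Fin 3 ↪ Ω, Col M t (rot t)

/-- The theorem for the groups of degree less than `n`. -/
def TwoColBelow (n : ℕ) : Prop :=
  ∀ (G : Type u) (Ω : Type u) [Group G] [Finite G] [Fintype Ω] [MulAction G Ω] [FaithfulSMul G Ω],
    Fintype.card Ω < n → IsMultiplyPretransitive G Ω 3 → 3 ∣ Fintype.card Ω → 3 < Fintype.card Ω →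
    ∀ H : Subgroup G, H.Normal → H ≠ ⊥ → TwoCol Ω H

/-- A point stabiliser with a nonabelian socle, its normal subgroup being of order prime to three. -/
def SocleStep : Prop :=
  ∀ (A : Type u) (X : Type u) [Group A] [Finite A] [Fintype X] [MulAction A X] [FaithfulSMul A X],
    IsMultiplyPretransitive A X 2 → Odd (Fintype.card X) → ∀ M : Subgroup A, M.Normal → ¬ 3 ∣ Nat.card M →
    (∃ Y : Subgroup A, Y.Normal ∧ Y ≤ M ∧ Y ≠ ⊥ ∧ ¬ IsMulCommutative Y ∧
      ∀ Z : Subgroup A, Z.Normal → Z ≤ Y → Z = ⊥ ∨ Z = Y) →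
    IsMultiplyPretransitive M X 2

end CfsgLib.Wagner
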