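import Cfsg.Agent.Lib.Perm.Wagner.Witt

/-!
Owner: helper12. S3255 (Wagner): two colours when a two-point stabiliser has a nontrivial Sylow subgroup
fixing a third point.

* `card_stab1_eq`: `|M_a| = (n - 1) |M_ab|`.
* `three_dvd_fixed`: when `M_a` has order prime to three, the fixed point sets of Witt's lemma have size `0 mod 3`.
* `twoCol_or_three_free`: either two colours, or `M_ab` has order prime to three.
* `twoCol_or_odd`: for odd degree, either two colours or `M_ab` has odd order.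
-/

set_option autoImplicit false
set_option linter.unusedSectionVars false

namespace CfsgLib.Wagner

open Subgroup MulAction

universe u

variable {G : Type u} [Group G] [Finite G] {Ω : Type u} [Fintype Ω] [MulAction G Ω]

theorem card_stab1_eq {M : Subgroup G} (h2 : IsMultiplyPretransitive M Ω 2) {a b : Ω} (hab : a ≠ b) :
    Nat.card (M ⊓ stabilizer G a : Subgroup G) = (Fintype.card Ω - 1) * Nat.card (stab2 M a b) := by
  classical
  set A : Subgroup G := M ⊓ stabilizer G a with hA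
  have horb : orbit A b = ({a} : Set Ω)ᶜ := by
    ext x
    constructor
    · rintro ⟨⟨g, hg⟩, rfl⟩ e
      exact hab (MulAction.injective g ((show g • a = a from hg.2).trans (Set.mem_singleton_iff.1 e).symm))
    · intro hx
      obtain ⟨m, hm, h1, h2'⟩ := exists_map2 h2 hab (Ne.symm (show x ≠ a from hx))
      exact ⟨⟨m, hm, h1⟩, h2'⟩
  have hst : Nat.card (stabilizer A b) = Nat.card (stab2 M a b) := by
    refine Nat.card_congr
      { toFun := fun g => ⟨g.1.1, g.1.2, g.2⟩
        invFun := fun g => ⟨⟨g.1, g.2.1⟩, g.2.2⟩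
        left_inv := fun g => rfl
        right_inv := fun g => rfl }
  have hc : Nat.card (({a} : Set Ω)ᶜ : Set Ω) = Fintype.card Ω - 1 := by
    rw [Nat.card_coe_set_eq, Set.ncard_compl, Set.ncard_singleton, Nat.card_eq_fintype_card]
  rw [← hc, ← horb, ← hst, ← Nat.card_prod]
  exact (Nat.card_congr (MulAction.orbitProdStabilizerEquivGroup A b)).symm

theorem three_free_stab1 {M : Subgroup G} (h2 : IsMultiplyPretransitive M Ω 2) (h3 : 3 ∣ Fintype.card Ω)
    (hfree : ∀ a b : Ω, a ≠ b → ¬ 3 ∣ Nat.card (stab2 M a b)) (a : Ω) :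
    ¬ 3 ∣ Nat.card (M ⊓ stabilizer G a : Subgroup G) := by
  have h1 : 1 < Fintype.card Ω :=
    lt_of_lt_of_le (by decide) (Nat.le_of_dvd (Fintype.card_pos_iff.2 ⟨a⟩) h3)
  haveI := Fintype.one_lt_card_iff_nontrivial.1 h1
  obtain ⟨b, hb⟩ := exists_ne a
  rw [card_stab1_eq h2 hb.symm, Nat.prime_three.dvd_mul, not_or]
  exact ⟨fun h => by omega, hfree a b hb.symm⟩

variable [FaithfulSMul G Ω]

/-- When point stabilisers have order prime to three, three divides the number of fixed points of `U`. -/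
theorem three_dvd_fixed {M : Subgroup G} (hfree : ∀ a : Ω, ¬ 3 ∣ Nat.card (M ⊓ stabilizer G a : Subgroup G))
    (hcyc : ∀ t : Fin 3 ↪ Ω, Col M t (rot t)) {U : Subgroup G} (t₀ : Fin 3 ↪ Ω) (hfix : U ≤ stab3 M t₀)
    [M.Normal]
    (hA : ∀ g : G, U.map (MulAut.conj g).toMonoidHom ≤ stab3 M t₀ →
      ∃ h ∈ stab3 M t₀, (U.map (MulAut.conj g).toMonoidHom).map (MulAut.conj h).toMonoidHom = U) :
    3 ∣ Nat.card (fixedPoints U Ω) := by
  classical
  haveI : Fact (Nat.Prime 3) := ⟨Nat.prime_three⟩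
  obtain ⟨m, hm, hmt⟩ := hcyc t₀
  have hrot : stab3 M (rot t₀) = stab3 M t₀ := by
    ext g
    simp only [mem_stab3, rot, trip_zero, trip_one, trip_two]
    tauto
  have h1 : U.map (MulAut.conj m).toMonoidHom ≤ stab3 M t₀ :=
    (map_mono hfix).trans (le_of_eq (by rw [map_conj_stab3, hmt, hrot]))
  obtain ⟨h, hh, he⟩ := hA m h1
  set g := h * m with hg
  have hgN : g ∈ normalizer (U : Set G) := by
    refine mem_normalizer_iff_map_conj_eq.2 ?_
    conv_rhs => rw [← he, Subgroup.map_map]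
    congr 1
    ext x
    simp [hg, mul_assoc]
  have hgM : g ∈ M := mul_mem hh.1 hm
  have hgt : g • t₀ = rot t₀ := by
    rw [hg, mul_smul, hmt]
    exact (hrot.symm ▸ hh : h ∈ stab3 M (rot t₀)).2
  -- the 3-part of `g`
  obtain ⟨e, d, hd, hord⟩ := Nat.exists_eq_pow_mul_and_not_dvd (orderOf_pos g).ne' 3 (by decide)
  have hg3 : (g ^ 3) • t₀ = t₀ := by
    have hr : g • rot t₀ = rot (rot t₀) := by rw [smul_rot, hgt]
    have hr2 : g • rot (rot t₀) = t₀ := by
      rw [smul_rot, hr]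
      exact trip_ext rfl rfl rfl
    rw [pow_succ, pow_succ, pow_one, mul_smul, mul_smul, hgt, hr, hr2]
  set x := g ^ d with hx
  have hxne : x ≠ 1 := by
    intro hx1
    have h2 : g • t₀ = t₀ := by
      have hxt : (g ^ d) • t₀ = t₀ := by rw [← hx, hx1, one_smul]
      obtain ⟨i, hi⟩ : ∃ i, d = 3 * i + 1 ∨ d = 3 * i + 2 := ⟨d / 3, by omega⟩
      have hp : ∀ i : ℕ, (g ^ (3 * i)) • t₀ = t₀ := fun i => by
        induction i with
        | zero => simp
        | succ i ih => rw [Nat.mul_succ, pow_add, mul_smul, hg3, ih]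
      rcases hi with rfl | rfl
      · rwa [pow_succ', mul_smul, hp] at hxt
      · have h4 : (g ^ 2) • t₀ = t₀ := by rwa [Nat.add_comm, pow_add, mul_smul, hp] at hxt
        have h5 := hg3
        rw [pow_succ', mul_smul, h4] at h5
        exact h5
    rw [hgt] at h2
    exact trip_ne t₀ (show (1 : Fin 3) ≠ 0 by decide) (DFunLike.congr_fun h2 0)
  let n : normalizer (U : Set G) := ⟨x, pow_mem hgN d⟩
  have hP : IsPGroup 3 (zpowers n) := by
    refine IsPGroup.iff_card.2 ⟨_, ((Nat.dvd_prime_pow Nat.prime_three).1 (show Nat.card (zpowers n) ∣ 3 ^ e from ?_)).choose_spec.2⟩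
    rw [Nat.card_zpowers]
    refine orderOf_dvd_of_pow_eq_one (Subtype.ext ?_)
    show (g ^ d) ^ 3 ^ e = 1
    rw [← pow_mul, mul_comm, ← hord, pow_orderOf_eq_one]
  have hempty : fixedPoints (zpowers n) (fixAct Ω U) = ∅ := by
    refine Set.eq_empty_iff_forall_notMem.2 fun y hy => hfree (y : Ω) ?_
    have hy' : x • (y : Ω) = y := congrArg Subtype.val (hy ⟨n, mem_zpowers n⟩)
    have hxmem : x ∈ M ⊓ stabilizer G (y : Ω) := ⟨pow_mem hgM d, hy'⟩
    have ho : orderOf x ∣ Nat.card (M ⊓ stabilizer G (y : Ω) : Subgroup G) :=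
      (M ⊓ stabilizer G (y : Ω)).orderOf_dvd_natCard hxmem
    obtain ⟨j, hj, hj'⟩ := (Nat.dvd_prime_pow Nat.prime_three).1
      (show orderOf x ∣ 3 ^ e from orderOf_dvd_of_pow_eq_one (by rw [hx, ← pow_mul, mul_comm, ← hord, pow_orderOf_eq_one]))
    rcases j with _ | j
    · exact absurd (orderOf_eq_one_iff.1 hj') hxne
    · exact ((dvd_pow_self 3 (Nat.succ_ne_zero j)).trans (hj'.symm.dvd)).trans ho
  haveI : Fintype (fixAct Ω U) := Fintype.ofFinite _
  have hmod := hP.card_modEq_card_fixedPoints (α := fixAct Ω U)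
  rw [hempty] at hmod
  have h0 : Nat.card (∅ : Set (fixAct Ω U)) = 0 := by rw [Nat.card_coe_set_eq, Set.ncard_empty]
  rw [h0] at hmod
  exact Nat.modEq_zero_iff_dvd.1 hmod

/-- Witt's lemma for a Sylow subgroup of a two-point stabiliser. -/
theorem twoCol_of_sylow {M : Subgroup G} (hC : Ctx Ω M) (hIH : TwoColBelow.{u} (Fintype.card Ω))
    {p : ℕ} [Fact p.Prime] {a b : Ω} (hab : a ≠ b) (hp : p ∣ Nat.card (stab2 M a b))
    (hn : ¬ p ∣ Fintype.card Ω - 2)
    (hmod : p = 3 ∨ ∀ a : Ω, ¬ 3 ∣ Nat.card (M ⊓ stabilizer G a : Subgroup G)) : TwoCol Ω M := by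
  classical
  haveI := hC.normal
  obtain ⟨P⟩ : Nonempty (Sylow p (stab2 M a b)) := inferInstance
  set U := (P : Subgroup (stab2 M a b)).map (stab2 M a b).subtype with hUdef
  have hU2 : U ≤ stab2 M a b := map_subtype_le _
  have hUp : IsPGroup p U := P.isPGroup'.map _
  have hcard : ∀ c d : Ω, c ≠ d → Nat.card U = p ^ (Nat.card (stab2 M c d)).factorization p := fun c d hcd => by
    rw [hUdef, ← Nat.card_congr ((P : Subgroup (stab2 M a b)).equivMapOfInjective _
      (stab2 M a b).subtype_injective).toEquiv, P.card_eq_multiplicity, card_stab2_eq hC.trans2 hab hcd]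
  have hU1 : U ≠ ⊥ := fun h => by
    have h1 := hcard a b hab
    rw [h, card_bot] at h1
    have h2 := (Fact.out : p.Prime).factorization_pos_of_dvd Nat.card_pos.ne' hp
    exact absurd h1.symm (Nat.one_lt_pow h2.ne' (Fact.out : p.Prime).one_lt).ne'
  have hUa : a ∈ fixedPoints U Ω := fun u => (mem_stab2.1 (hU2 u.2)).2.1
  have hUb : b ∈ fixedPoints U Ω := fun u => (mem_stab2.1 (hU2 u.2)).2.2
  obtain ⟨c, hac, hbc, hc⟩ := exists_third_fixed hUp hab hUa hUb hn
  set t₀ := trip a b c hab hac hbc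
  have hfix : U ≤ stab3 M t₀ := fun u hu =>
    mem_stab3.2 ⟨(mem_stab2.1 (hU2 hu)).1, hUa ⟨u, hu⟩, hUb ⟨u, hu⟩, hc ⟨u, hu⟩⟩
  -- conjugacy among the subgroups of this order
  have hconj : ∀ (K : Subgroup G) (c d : Ω), c ≠ d → K ≤ stab2 M c d → ∀ V W : Subgroup G,
      V ≤ K → W ≤ K → Nat.card V = Nat.card U → Nat.card W = Nat.card U →
      ∃ k ∈ K, V.map (MulAut.conj k).toMonoidHom = W := by
    intro K c d hcd hK V W hV hW cV cW
    have hfac : p ^ (Nat.card K).factorization p = Nat.card U := by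
      refine Nat.dvd_antisymm ?_ ?_
      · rw [hcard c d hcd]
        exact pow_dvd_pow p ((Nat.factorization_le_iff_dvd Nat.card_pos.ne' Nat.card_pos.ne').2
          (card_dvd_of_le hK) p)
      · obtain ⟨i, hi⟩ := IsPGroup.iff_card.1 hUp
        rw [hi]
        refine pow_dvd_pow p ((Fact.out : p.Prime).pow_dvd_iff_le_factorization Nat.card_pos.ne' |>.1 ?_)
        rw [← hi, ← cV]
        exact card_dvd_of_le hV
    let S : Sylow p K := Sylow.ofCard (V.subgroupOf K)
      (by rw [Nat.card_congr (subgroupOfEquivOfLe hV).toEquiv, cV, hfac])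
    have hS : (S : Subgroup K).map K.subtype = V := map_subgroupOf_eq_of_le hV
    obtain ⟨k, hk, he⟩ := CfsgLib.Core.exists_conj_of_card_eq S hW (by rw [hS, cW, cV])
    rw [hS] at he
    exact ⟨k, hk, he⟩
  have hA : ∀ t : Fin 3 ↪ Ω, U ≤ stab3 M t → ∀ g : G, U.map (MulAut.conj g).toMonoidHom ≤ stab3 M t →
      ∃ h ∈ stab3 M t, (U.map (MulAut.conj g).toMonoidHom).map (MulAut.conj h).toMonoidHom = U :=
    fun t ht g hg => hconj _ _ _ (trip_ne t (by decide)) (stab3_le_stab2 M t) _ _ hg ht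
      (card_map_of_injective (MulAut.conj g).injective) rfl
  refine twoCol_of_witt hC hIH U hU1 t₀ hfix hA (fun g => ?_) ?_
  · have hne : g • a ≠ g • b := fun e => hab (MulAction.injective g e)
    obtain ⟨m, hm, h1, h2⟩ := exists_map2 hC.trans2 hab hne
    have hg' : U.map (MulAut.conj g).toMonoidHom ≤ stab2 M (g • a) (g • b) :=
      (map_mono hU2).trans (le_of_eq (map_conj_stab2 a b g))
    have hm' : U.map (MulAut.conj m).toMonoidHom ≤ stab2 M (g • a) (g • b) :=
      (map_mono hU2).trans (le_of_eq (by rw [map_conj_stab2, h1, h2]))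
    obtain ⟨k, hk, he⟩ := hconj _ _ _ hne le_rfl _ _ hm' hg'
      (card_map_of_injective (MulAut.conj m).injective) (card_map_of_injective (MulAut.conj g).injective)
    refine ⟨k * m, mul_mem (mem_stab2.1 hk).1 hm, ?_⟩
    rw [← he, Subgroup.map_map]
    congr 1
    ext x
    simp [mul_assoc]
  · rcases hmod with rfl | hfree
    · exact Nat.modEq_zero_iff_dvd.1 ((fixed_modEq hUp).symm.trans (Nat.modEq_zero_iff_dvd.2 hC.three_dvd))
    · exact three_dvd_fixed hfree hC.cyc t₀ hfix (hA t₀ hfix)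

/-- Either two colours, or the point stabilisers of `M` have order prime to three. -/
theorem twoCol_or_three_free {M : Subgroup G} (hC : Ctx Ω M) (hIH : TwoColBelow.{u} (Fintype.card Ω)) :
    TwoCol Ω M ∨ ∀ a : Ω, ¬ 3 ∣ Nat.card (M ⊓ stabilizer G a : Subgroup G) := by
  by_cases h : ∃ a b : Ω, a ≠ b ∧ 3 ∣ Nat.card (stab2 M a b)
  · obtain ⟨a, b, hab, hd⟩ := h
    haveI : Fact (Nat.Prime 3) := ⟨Nat.prime_three⟩
    refine Or.inl (twoCol_of_sylow hC hIH hab hd ?_ (Or.inl rfl))
    have := hC.three_dvd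
    have := hC.three_lt
    omega
  · push Not at h
    exact Or.inr (three_free_stab1 hC.trans2 hC.three_dvd h)

/-- For odd degree: either two colours, or the two-point stabilisers have odd order. -/
theorem twoCol_or_odd {M : Subgroup G} (hC : Ctx Ω M) (hIH : TwoColBelow.{u} (Fintype.card Ω))
    (hodd : Odd (Fintype.card Ω))
    (hfree : ∀ a : Ω, ¬ 3 ∣ Nat.card (M ⊓ stabilizer G a : Subgroup G)) :
    TwoCol Ω M ∨ ∀ a b : Ω, a ≠ b → Odd (Nat.card (stab2 M a b)) := by
  by_cases h : ∃ a b : Ω, a ≠ b ∧ 2 ∣ Nat.card (stab2 M a b)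
  · obtain ⟨a, b, hab, hd⟩ := h
    haveI : Fact (Nat.Prime 2) := ⟨Nat.prime_two⟩
    refine Or.inl (twoCol_of_sylow hC hIH hab hd ?_ (Or.inr hfree))
    obtain ⟨j, hj⟩ := hodd
    have := hC.three_lt
    omega
  · push Not at h
    exact Or.inr fun a b hab => Nat.odd_iff.2 (Nat.two_dvd_ne_zero.1 (h a b hab))

end CfsgLib.Wagner
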