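import Cfsg.Agent.Lib.Perm.Wagner.Affine
import Cfsg.Agent.Lib.Perm.Wagner.LinearSolvable

/-!
Owner: helper12. S3255 (Wagner), a point stabiliser with translations: the two-point stabilisers.

* `fit2 M a b`: the Fitting subgroup of `stab2 M a b`; `map_conj_fit2`, `fit2_comm`.
* `Aff.rep`, `Aff.semi`: the two-point stabiliser of `G` on the translations; `Aff.solvable_stab2`.
* `Core M a b f`, `Aff.core`: it is cyclic, semiregular, self centralising, and every `u ^ f` centralises it.
-/

set_option autoImplicit false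
set_option linter.unusedSectionVars false

namespace CfsgLib.Wagner

open Subgroup MulAction

universe u

variable {G : Type u} [Group G] [Finite G] {Ω : Type u} [Fintype Ω] [MulAction G Ω]

/-- The Fitting subgroup of a subgroup. -/
def fitIn {X : Type*} [Group X] (H : Subgroup X) : Subgroup X := (Cfsg.fittingSubgroup H).map H.subtype

/-- The Fitting subgroup of a two-point stabiliser. -/
def fit2 (M : Subgroup G) (a b : Ω) : Subgroup G := fitIn (stab2 M a b)

theorem fit2_le (M : Subgroup G) (a b : Ω) : fit2 M a b ≤ stab2 M a b := map_subtype_le _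

/-- The Fitting subgroup of a subgroup, transported along an injective map. -/
theorem map_fitting {X : Type*} [Group X] [Finite X] {f : X →* G} (hf : Function.Injective f)
    (H : Subgroup X) :
    (fitIn H).map f = fitIn (H.map f) := by
  unfold fitIn
  rw [← CfsgLib.Core.map_equiv_fittingSubgroup (H.equivMapOfInjective f hf), Subgroup.map_map, Subgroup.map_map]
  rfl

theorem fit2_comm (M : Subgroup G) (a b : Ω) : fit2 M a b = fit2 M b a := by
  unfold fit2
  rw [stab2_comm]

theorem map_conj_fit2 {M : Subgroup G} [M.Normal] (a b : Ω) (g : G) :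
    (fit2 M a b).map (MulAut.conj g).toMonoidHom = fit2 M (g • a) (g • b) := by
  unfold fit2
  rw [map_fitting (f := (MulAut.conj g).toMonoidHom) (MulAut.conj g).injective, map_conj_stab2]

theorem conj_mem_fit2 {M : Subgroup G} [M.Normal] {a b : Ω} {y : G} (hy : y ∈ fit2 M a b) (g : G) :
    g * y * g⁻¹ ∈ fit2 M (g • a) (g • b) :=
  (map_conj_fit2 (M := M) a b g).le (mem_map_of_mem (MulAut.conj g).toMonoidHom hy)

/-- What is known about a two-point stabiliser. -/
structure Core (M : Subgroup G) (a b : Ω) (f : ℕ) : Prop where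
  cyclic : IsCyclic (fit2 M a b)
  self : ∀ y ∈ stab2 M a b, (∀ z ∈ fit2 M a b, Commute y z) → y ∈ fit2 M a b
  free : ∀ y ∈ fit2 M a b, ∀ c : Ω, a ≠ c → b ≠ c → y • c = c → y = 1
  frob : ∀ g : G, g • a = a → g • b = b → ∀ y ∈ fit2 M a b, Commute (g ^ f) y

variable [FaithfulSMul G Ω]

/-- The two-point stabiliser of `G` on the translations. -/
def Aff.rep {M : Subgroup G} {a : Ω} {V : Subgroup G} {p f : ℕ} (A : Aff M a V p f) (b : Ω) :
    (stabilizer G a ⊓ stabilizer G b : Subgroup G) →* AddMonoid.End (Additive V) where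
  toFun g :=
    ({ toFun := fun v => ⟨(g : G) * v * (g : G)⁻¹, A.norm g g.2.1 v v.2⟩
       map_one' := Subtype.ext (by simp)
       map_mul' := fun v w => Subtype.ext (by simp [mul_assoc]) } : V →* V).toAdditive
  map_one' := AddMonoidHom.ext fun v => Additive.toMul.injective (Subtype.ext (by simp; rfl))
  map_mul' g h := AddMonoidHom.ext fun v => Additive.toMul.injective (Subtype.ext (by
    show ((g * h : (stabilizer G a ⊓ stabilizer G b : Subgroup G)) : G) * (Additive.toMul v : V) *
        ((g * h : (stabilizer G a ⊓ stabilizer G b : Subgroup G)) : G)⁻¹ =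
      (g : G) * ((h : G) * (Additive.toMul v : V) * (h : G)⁻¹) * (g : G)⁻¹
    simp [mul_assoc]))

theorem Aff.coe_rep {M : Subgroup G} {a : Ω} {V : Subgroup G} {p f : ℕ} (A : Aff M a V p f) (b : Ω)
    (g : (stabilizer G a ⊓ stabilizer G b : Subgroup G)) (v : V) :
    ((Additive.toMul (A.rep b g (Additive.ofMul v)) : V) : G) = (g : G) * v * (g : G)⁻¹ := rfl

/-- The translations as an additive group. -/
@[reducible] def Aff.commGroup {M : Subgroup G} {a : Ω} {V : Subgroup G} {p f : ℕ} (A : Aff M a V p f) :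
    CommGroup V :=
  { (inferInstance : Group V) with mul_comm := fun v w => Subtype.ext (A.comm v v.2 w w.2) }

theorem Aff.semi {M : Subgroup G} (h3 : IsMultiplyPretransitive G Ω 3) {a : Ω} {V : Subgroup G} {p f : ℕ}
    (A : Aff M a V p f) {b : Ω} (hab : a ≠ b) : letI := A.commGroup; Semi (A.rep b) p f := by
  letI := A.commGroup
  have hne : ∀ v ∈ V, v ≠ 1 → v • b ≠ b := fun v hv h1 h => h1 (A.free hab v hv h)
  have hna : ∀ v ∈ V, a ≠ v • b := fun v hv h => hab (MulAction.injective v ((A.fixes hv).trans h))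
  refine ⟨A.prime, A.f_odd, (Nat.card_congr Additive.toMul).trans A.card, fun g h => ?_, fun v w hv hw => ?_⟩
  · refine Subtype.ext (A.eq_one_of_commute hab g.2.1 g.2.2 fun v hv => ?_)
    have h' := congrArg (fun z => ((Additive.toMul z : V) : G)) (h (Additive.ofMul ⟨v, hv⟩))
    exact mul_inv_eq_iff_eq_mul.1 h'
  · obtain ⟨v, rfl⟩ := Additive.ofMul.surjective v
    obtain ⟨w, rfl⟩ := Additive.ofMul.surjective w
    have hv1 : (v : G) ≠ 1 := fun h => hv (congrArg Additive.ofMul (Subtype.ext h : v = 1))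
    have hw1 : (w : G) ≠ 1 := fun h => hw (congrArg Additive.ofMul (Subtype.ext h : w = 1))
    obtain ⟨g, h1, h2, h4⟩ := exists_fix2_map h3 hab (hna v v.2) (hne v v.2 hv1).symm (hna w w.2)
      (hne w w.2 hw1).symm
    refine ⟨⟨g, h1, h2⟩, Additive.toMul.injective (Subtype.ext ?_)⟩
    exact A.eq_of_smul_eq hab (A.norm g h1 v v.2) w.2 ((A.conj_smul hab h1 h2 v.2).trans h4)

theorem Aff.core {M : Subgroup G} (hC : Ctx Ω M) {a : Ω} {V : Subgroup G} {p f : ℕ} (A : Aff M a V p f)
    {b : Ω} (hab : a ≠ b) (hsol : Group.IsSolvable (stab2 M a b)) : Core M a b f := by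
  classical
  haveI := hC.normal
  set L : Subgroup G := stabilizer G a ⊓ stabilizer G b with hL
  letI := A.commGroup
  set c := A.rep b
  have hS : Semi c p f := A.semi hC.trans3 hab
  have hLa : ∀ g : L, (g : G) • a = a := fun g => g.2.1
  have hLb : ∀ g : L, (g : G) • b = b := fun g => g.2.2
  set N : Subgroup L := M.subgroupOf L with hN
  have hNmap : N.map L.subtype = stab2 M a b := by
    rw [hN, Subgroup.subgroupOf_map_subtype]
    show M ⊓ (stabilizer G a ⊓ stabilizer G b) = M ⊓ stabilizer G a ⊓ stabilizer G b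
    rw [inf_assoc]
  haveI : Group.IsSolvable N := by
    haveI := hsol
    exact Group.isSolvable_of_isSolvable_injective
      (f := ((N.equivMapOfInjective _ L.subtype_injective).trans (MulEquiv.subgroupCongr hNmap)).toMonoidHom)
      (MulEquiv.injective _)
  obtain ⟨x, hx, hg⟩ := exists_irred_good hS
  set F : Subgroup L := (Cfsg.fittingSubgroup N).map N.subtype with hF
  have hFn : F.Normal := inferInstance
  haveI := CfsgLib.Core.isNilpotent_fittingSubgroup N
  have hFc : ∀ y ∈ F, Commute x y := hg F (CfsgLib.Core.isNilpotent_map _ _) fun y hy => hFn.conj_mem y hy x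
  have hFmap : F.map L.subtype = fit2 M a b := by
    rw [show F = fitIn N from rfl, map_fitting L.subtype_injective]
    unfold fit2
    rw [hNmap]
  refine ⟨?_, fun y hy hyc => ?_, fun y hy d had hbd hyd => ?_, fun g hga hgb y hy => ?_⟩
  · haveI := hx.cent_cyclic hS
    haveI : IsCyclic F := Subgroup.isCyclic_of_le (fun y hy => mem_centralizer_singleton_iff.2 (hFc y hy).eq.symm :
      F ≤ centralizer ({x} : Set L))
    rw [← hFmap]
    exact isCyclic_of_surjective (F.equivMapOfInjective _ L.subtype_injective) (MulEquiv.surjective _)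
  · rw [← hFmap]
    obtain ⟨hyM, hya, hyb⟩ := mem_stab2.1 hy
    set y' : L := ⟨y, hya, hyb⟩
    have hmem : (⟨y', mem_subgroupOf.2 hyM⟩ : N) ∈ Cfsg.fittingSubgroup N :=
      CfsgLib.Components.centralizer_fitting_le_of_isSolvable <| mem_centralizer_iff.2 fun z hz =>
        Subtype.ext (Subtype.ext (hyc _ (hFmap ▸ mem_map_of_mem L.subtype (mem_map_of_mem N.subtype hz))).eq.symm)
    exact mem_map_of_mem L.subtype (mem_map_of_mem N.subtype hmem)
  · rw [← hFmap] at hy
    obtain ⟨y', hy', rfl⟩ := hy
    obtain ⟨v, hv, rfl⟩ := A.trans hab had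
    have hv0 : Additive.ofMul (⟨v, hv⟩ : V) ≠ 0 := fun h => hbd (by
      have hv1 : v = 1 := congrArg (fun z => ((Additive.toMul z : V) : G)) h
      rw [hv1, one_smul])
    have hfix : c y' (Additive.ofMul ⟨v, hv⟩) = Additive.ofMul ⟨v, hv⟩ := Additive.toMul.injective <| Subtype.ext <|
      A.eq_of_smul_eq hab (A.norm y' (hLa y') v hv) hv ((A.conj_smul hab (hLa y') (hLb y') hv).trans hyd)
    rw [hx.free hS (hFc y' hy') hv0 hfix, map_one]
  · rw [← hFmap] at hy
    obtain ⟨y', hy', rfl⟩ := hy
    have h := hx.pow_commute hS hFc (u := (⟨g, hga, hgb⟩ : L)) (fun z hz => hFn.conj_mem z hz _) hy'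
    exact congrArg Subtype.val h.eq


/-- A two-point stabiliser in `M` of order prime to three is solvable. -/
theorem Aff.solvable_stab2 (h3 : CfsgLib.ThreePrimeUse.ThreePrimeSimple.{u}) {M : Subgroup G} (hC : Ctx Ω M)
    {a : Ω} {V : Subgroup G} {p f : ℕ} (A : Aff M a V p f) {b : Ω} (hab : a ≠ b)
    (hfree : ¬ 3 ∣ Nat.card (stab2 M a b)) : Group.IsSolvable (stab2 M a b) := by
  haveI := hC.normal
  letI := A.commGroup
  set L : Subgroup G := stabilizer G a ⊓ stabilizer G b
  have hNmap : (M.subgroupOf L).map L.subtype = stab2 M a b := by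
    rw [Subgroup.subgroupOf_map_subtype]
    show M ⊓ (stabilizer G a ⊓ stabilizer G b) = M ⊓ stabilizer G a ⊓ stabilizer G b
    rw [inf_assoc]
  haveI := isSolvable_of_three_free (A.semi hC.trans3 hab) h3 (M.subgroupOf L)
    (by rwa [← card_map_of_injective (K := M.subgroupOf L) L.subtype_injective, hNmap])
  exact Group.isSolvable_of_isSolvable_injective (f := (((M.subgroupOf L).equivMapOfInjective _
    L.subtype_injective).trans (MulEquiv.subgroupCongr hNmap)).symm.toMonoidHom) (MulEquiv.injective _)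

end CfsgLib.Wagner
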