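import Cfsg.Agent.Lib.Perm.Wagner.Basic

/-!
Owner: helper12. S3255 (Wagner): Witt's lemma and the descent to the fixed points of a subgroup.

* `fixAct`, `fixHom`: the normaliser of `U` on the fixed points of `U`.
* `twoCol_of_witt`: two colours from the smaller degree.
-/

set_option autoImplicit false
set_option linter.unusedSectionVars false

namespace CfsgLib.Wagner

open Subgroup MulAction

universe u

variable {G : Type u} [Group G] {Ω : Type u} [MulAction G Ω]

variable (Ω) in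
/-- The fixed points of `U`, as a set with an action of the normaliser. -/
def fixAct (U : Subgroup G) : SubMulAction (normalizer (U : Set G)) Ω where
  carrier := fixedPoints U Ω
  smul_mem' n x hx := fun u => by
    have h : (n : G)⁻¹ * u * n ∈ U := by
      have := (mem_normalizer_iff.1 (inv_mem n.2) (u : G)).1 u.2
      simpa using this
    show (u : G) • (n : G) • x = (n : G) • x
    rw [← mul_smul, show (u : G) * n = n * ((n : G)⁻¹ * u * n) by group, mul_smul]
    exact congrArg _ (hx ⟨_, h⟩)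

variable (Ω) in
/-- The representation of the normaliser on the fixed points. -/
def fixHom (U : Subgroup G) : normalizer (U : Set G) →* Equiv.Perm (fixAct Ω U) :=
  MulAction.toPermHom _ _

@[simp] theorem coe_fixHom_apply (U : Subgroup G) (n : normalizer (U : Set G)) (x : fixAct Ω U) :
    ((fixHom Ω U n x : fixAct Ω U) : Ω) = (n : G) • (x : Ω) := rfl

/-- The triple in `Ω` of a triple of fixed points. -/
def liftTrip {U : Subgroup G} (t : Fin 3 ↪ fixAct Ω U) : Fin 3 ↪ Ω :=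
  t.trans (Function.Embedding.subtype _)

theorem le_stabilizer_lift {U : Subgroup G} (t : Fin 3 ↪ fixAct Ω U) : U ≤ stabilizer G (liftTrip t) :=
  fun u hu => DFunLike.ext _ _ fun i => (t i).2 ⟨u, hu⟩

/-- Two of three orderings of three points differ by a rotation. -/
theorem perm_three_even : ∀ σ τ : Equiv.Perm (Fin 3),
    Equiv.Perm.sign σ = 1 ∨ Equiv.Perm.sign τ = 1 ∨ Equiv.Perm.sign (σ⁻¹ * τ) = 1 := by decide

theorem even_three : ∀ σ : Equiv.Perm (Fin 3), Equiv.Perm.sign σ = 1 →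
    (σ 0 = 0 ∧ σ 1 = 1 ∧ σ 2 = 2) ∨ (σ 0 = 1 ∧ σ 1 = 2 ∧ σ 2 = 0) ∨ (σ 0 = 2 ∧ σ 1 = 0 ∧ σ 2 = 1) := by
  decide

/-- Cyclic colours on three points. -/
theorem col_of_three {M : Subgroup G} (hcyc : ∀ t : Fin 3 ↪ Ω, Col M t (rot t)) {r s : Fin 3 ↪ Ω}
    {σ : Equiv.Perm (Fin 3)} (hσ : Equiv.Perm.sign σ = 1) (hs : ∀ i, s i = r (σ i)) : Col M r s := by
  rcases even_three σ hσ with ⟨h0, h1, h2⟩ | ⟨h0, h1, h2⟩ | ⟨h0, h1, h2⟩
  · have e : s = r := trip_ext (by rw [hs, h0]) (by rw [hs, h1]) (by rw [hs, h2])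
    exact e ▸ Col.refl M r
  · have e : s = rot r :=
      trip_ext (show s 0 = r 1 by rw [hs, h0]) (show s 1 = r 2 by rw [hs, h1]) (show s 2 = r 0 by rw [hs, h2])
    exact e ▸ hcyc r
  · have e : s = rot (rot r) :=
      trip_ext (show s 0 = r 2 by rw [hs, h0]) (show s 1 = r 0 by rw [hs, h1]) (show s 2 = r 1 by rw [hs, h2])
    exact e ▸ (hcyc r).trans (hcyc _)

theorem exists_perm_of_card_three {X : Type*} [Fintype X] (hX : Fintype.card X = 3) (r s : Fin 3 ↪ X) :
    ∃ σ : Equiv.Perm (Fin 3), ∀ i, s i = r (σ i) := by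
  have hb : ∀ f : Fin 3 ↪ X, Function.Bijective f := fun f =>
    (Fintype.bijective_iff_injective_and_card f).2 ⟨f.injective, by rw [Fintype.card_fin, hX]⟩
  refine ⟨(Equiv.ofBijective _ (hb s)).trans (Equiv.ofBijective _ (hb r)).symm, fun i => ?_⟩
  exact ((Equiv.ofBijective _ (hb r)).apply_symm_apply (s i)).symm

variable [Finite G] [Fintype Ω] [FaithfulSMul G Ω]

/-- Witt's lemma with induction on the degree. -/
theorem twoCol_of_witt {M : Subgroup G} (hC : Ctx Ω M) (hIH : TwoColBelow.{u} (Fintype.card Ω))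
    (U : Subgroup G) (hU : U ≠ ⊥) (t₀ : Fin 3 ↪ Ω) (hfix : U ≤ stab3 M t₀)
    (hA : ∀ t : Fin 3 ↪ Ω, U ≤ stab3 M t → ∀ g : G, U.map (MulAut.conj g).toMonoidHom ≤ stab3 M t →
      ∃ h ∈ stab3 M t, (U.map (MulAut.conj g).toMonoidHom).map (MulAut.conj h).toMonoidHom = U)
    (hB : ∀ g : G, ∃ m ∈ M, U.map (MulAut.conj g).toMonoidHom = U.map (MulAut.conj m).toMonoidHom)
    (hmod : 3 ∣ Nat.card (fixedPoints U Ω)) : TwoCol Ω M := by
  classical
  haveI := hC.normal
  have h3 := hC.trans3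
  have hUM : U ≤ M := hfix.trans inf_le_left
  set N := normalizer (U : Set G) with hN
  haveI : Fintype (fixAct Ω U) := Fintype.ofFinite _
  have hcardF : Fintype.card (fixAct Ω U) = Nat.card (fixedPoints U Ω) := by
    rw [← Nat.card_eq_fintype_card]; rfl
  -- the fixed points of `t₀`
  have ht₀ : ∀ i, t₀ i ∈ fixedPoints U Ω := fun i u => DFunLike.congr_fun (hfix u.2).2 i
  let T₀ : Fin 3 ↪ fixAct Ω U := ⟨fun i => ⟨t₀ i, ht₀ i⟩, fun i j h => t₀.injective (congrArg Subtype.val h)⟩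
  have hstab : ∀ t : Fin 3 ↪ fixAct Ω U, U ≤ stab3 M (liftTrip t) := fun t =>
    le_inf hUM (le_stabilizer_lift t)
  -- moving a triple of fixed points inside the normaliser
  have hmove : ∀ (s t : Fin 3 ↪ fixAct Ω U) (g : G), g • liftTrip s = liftTrip t →
      ∃ h ∈ stab3 M (liftTrip t), h * g ∈ N := by
    intro s t g hg
    have h1 : U.map (MulAut.conj g).toMonoidHom ≤ stab3 M (liftTrip t) :=
      (map_mono (hstab s)).trans (le_of_eq (by rw [map_conj_stab3, hg]))
    obtain ⟨h, hh, he⟩ := hA _ (hstab t) g h1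
    refine ⟨h, hh, mem_normalizer_iff_map_conj_eq.2 ?_⟩
    conv_rhs => rw [← he, Subgroup.map_map]
    congr 1
    ext x
    simp [mul_assoc]
  -- every colour occurs among the fixed points
  have hcol : ∀ r : Fin 3 ↪ Ω, ∃ r' : Fin 3 ↪ fixAct Ω U, Col M r (liftTrip r') := by
    intro r
    haveI := h3
    obtain ⟨g, rfl⟩ := exists_smul_eq G t₀ r
    obtain ⟨m, hm, he⟩ := hB g
    have hn : m⁻¹ * g ∈ N := by
      refine mem_normalizer_iff_map_conj_eq.2 ?_
      have h1 : U.map (MulAut.conj (m⁻¹ * g)).toMonoidHom =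
          (U.map (MulAut.conj g).toMonoidHom).map (MulAut.conj m⁻¹).toMonoidHom := by
        rw [Subgroup.map_map]
        congr 1
        ext x
        simp [mul_assoc]
      show U.map (MulAut.conj (m⁻¹ * g)).toMonoidHom = U
      rw [h1, he, Subgroup.map_map]
      convert Subgroup.map_id U
      ext x
      simp [mul_assoc]
    refine ⟨(⟨m⁻¹ * g, hn⟩ : N) • T₀, m⁻¹, inv_mem hm, ?_⟩
    ext i
    show m⁻¹ • g • t₀ i = (m⁻¹ * g) • t₀ i
    rw [mul_smul]
  suffices h : ∀ r s t : Fin 3 ↪ fixAct Ω U,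
      Col M (liftTrip r) (liftTrip s) ∨ Col M (liftTrip r) (liftTrip t) ∨ Col M (liftTrip s) (liftTrip t) by
    intro r s t
    obtain ⟨r', hr⟩ := hcol r
    obtain ⟨s', hs⟩ := hcol s
    obtain ⟨t', ht⟩ := hcol t
    rcases h r' s' t' with h | h | h
    · exact Or.inl (hr.trans (h.trans hs.symm))
    · exact Or.inr (Or.inl (hr.trans (h.trans ht.symm)))
    · exact Or.inr (Or.inr (hs.trans (h.trans ht.symm)))
  intro r s t
  by_cases hF : Fintype.card (fixAct Ω U) = 3
  · obtain ⟨σ, hσ⟩ := exists_perm_of_card_three hF r s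
    obtain ⟨τ, hτ⟩ := exists_perm_of_card_three hF r t
    have hs' : ∀ i, liftTrip s i = liftTrip r (σ i) := fun i => congrArg Subtype.val (hσ i)
    have ht' : ∀ i, liftTrip t i = liftTrip r (τ i) := fun i => congrArg Subtype.val (hτ i)
    rcases perm_three_even σ τ with h | h | h
    · exact Or.inl (col_of_three hC.cyc h hs')
    · exact Or.inr (Or.inl (col_of_three hC.cyc h ht'))
    · refine Or.inr (Or.inr (col_of_three hC.cyc h fun i => ?_))
      rw [ht', hs', Equiv.Perm.mul_apply, Equiv.Perm.coe_inv, Equiv.apply_symm_apply]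
  -- the descent
  have hFlt : Fintype.card (fixAct Ω U) < Fintype.card Ω := by
    obtain ⟨u, hu, hu1⟩ := (Subgroup.bot_or_exists_ne_one U).resolve_left hU
    obtain ⟨x, hx⟩ : ∃ x : Ω, u • x ≠ x := by
      by_contra hne
      push Not at hne
      exact hu1 (FaithfulSMul.eq_of_smul_eq_smul fun x => by rw [hne x, one_smul])
    exact Fintype.card_lt_of_injective_of_notMem (Subtype.val : fixAct Ω U → Ω) Subtype.val_injective
      (b := x) fun ⟨y, hy⟩ => hx (hy ▸ y.2 ⟨u, hu⟩)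
  have hF3 : 3 ≤ Fintype.card (fixAct Ω U) := by
    simpa using Fintype.card_le_of_embedding T₀
  set G' : Subgroup (Equiv.Perm (fixAct Ω U)) := (fixHom Ω U).range with hG'
  set ρ := (fixHom Ω U).rangeRestrict with hρ
  have htrans : IsMultiplyPretransitive G' (fixAct Ω U) 3 := by
    haveI := h3
    refine ⟨fun s t => ?_⟩
    obtain ⟨g, hg⟩ := exists_smul_eq G (liftTrip s) (liftTrip t)
    obtain ⟨h, hh, hn⟩ := hmove s t g hg
    refine ⟨ρ ⟨h * g, hn⟩, ?_⟩
    ext i
    show (h * g) • (s i : Ω) = _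
    rw [mul_smul, show g • (s i : Ω) = (t i : Ω) from DFunLike.congr_fun hg i]
    exact DFunLike.congr_fun hh.2 i
  set H' : Subgroup G' := (M.subgroupOf N).map ρ with hH'
  have hH'n : H'.Normal := Subgroup.Normal.map inferInstance _ (MonoidHom.rangeRestrict_surjective _)
  have hH'1 : H' ≠ ⊥ := by
    obtain ⟨m, hm, hmt⟩ := hC.cyc t₀
    let R₀ : Fin 3 ↪ fixAct Ω U := rot T₀
    have hR : m • liftTrip T₀ = liftTrip R₀ := by
      rw [show liftTrip T₀ = t₀ from DFunLike.ext _ _ fun _ => rfl, hmt]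
      exact trip_ext rfl rfl rfl
    obtain ⟨h, hh, hn⟩ := hmove T₀ R₀ m hR
    intro hbot
    have h1 : ρ ⟨h * m, hn⟩ = 1 := by
      rw [← mem_bot, ← hbot]
      exact ⟨⟨h * m, hn⟩, mul_mem hh.1 hm, rfl⟩
    have h2 : ((h * m) • t₀ 0 : Ω) = t₀ 0 := by
      have := congrArg (fun g : G' => (((g : Equiv.Perm (fixAct Ω U)) (T₀ 0) : fixAct Ω U) : Ω)) h1
      exact this
    rw [mul_smul, show m • t₀ 0 = t₀ 1 from DFunLike.congr_fun hR 0,
      show h • t₀ 1 = t₀ 1 from DFunLike.congr_fun hh.2 0] at h2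
    exact trip_ne t₀ (by decide) h2
  have := hIH G' (fixAct Ω U) hFlt htrans (hcardF ▸ hmod) (by omega) H' hH'n hH'1 r s t
  have hlift : ∀ {p q : Fin 3 ↪ fixAct Ω U}, Col H' p q → Col M (liftTrip p) (liftTrip q) := by
    rintro p q ⟨_, ⟨n, hn, rfl⟩, rfl⟩
    exact ⟨n, hn, DFunLike.ext _ _ fun i => rfl⟩
  exact this.imp hlift (Or.imp hlift hlift)

end CfsgLib.Wagner
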